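import Cfsg.Agent.H24.OWr.Climb
import Cfsg.Agent.H24.Wreath.Lie

/-!
The Siegel elements of the large form in a group with a slot root: full axes at two pure points.
-/

set_option autoImplicit false
set_option linter.unusedVariables false
set_option linter.unusedSimpArgs false
set_option linter.unusedSectionVars false

namespace Cfsg.Agent.H24.OWr

open Matrix Finset
open Cfsg.Agent.Aschbacher (pureMat pureVec slotMat factorPerm)
open Cfsg.Agent.H24.Wreath (Mat sl Off off_one off_sl sl_mul sl_one sl_add sl_smul sl_zero sl_neg sl_sub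
  off_pureMat pureMat_eq_sl_mul pureVec_smul pureVec_add)

variable {F : Type*} [Field F] {k t : ℕ}

/-- A slot map on a pure vector. -/
theorem sl_mulVec_pure (j : Fin t) (P : Matrix (Fin k) (Fin k) F) (u : Fin t → Fin k → F) :
    (sl j P : Mat F k t) *ᵥ pureVec u = pureVec (Function.update u j (P *ᵥ u j)) := by
  rw [sl, slotMat, Aschbacher.pureMat_mulVec]
  congr 1
  funext i
  rcases eq_or_ne i j with rfl | hij <;> simp [*]

namespace Gram

variable (𝕘 : Gram F k)

/-! ### The large form -/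

/-- The large form. -/
def B (x y : (Fin t → Fin k) → F) : F := x ⬝ᵥ 𝕘.big t *ᵥ y

theorem B_comm (x y : (Fin t → Fin k) → F) : 𝕘.B y x = 𝕘.B x y := by
  rw [B, B, dotProduct_mulVec, ← mulVec_transpose, 𝕘.big_symm, dotProduct_comm]

theorem B_add_left (x x' y : (Fin t → Fin k) → F) : 𝕘.B (x + x') y = 𝕘.B x y + 𝕘.B x' y := add_dotProduct _ _ _

theorem B_add_right (x y y' : (Fin t → Fin k) → F) : 𝕘.B x (y + y') = 𝕘.B x y + 𝕘.B x y' := by
  rw [B, mulVec_add, dotProduct_add]; rfl

theorem B_smul_left (c : F) (x y : (Fin t → Fin k) → F) : 𝕘.B (c • x) y = c * 𝕘.B x y := smul_dotProduct _ _ _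

theorem B_smul_right (c : F) (x y : (Fin t → Fin k) → F) : 𝕘.B x (c • y) = c * 𝕘.B x y := by
  rw [B, mulVec_smul, dotProduct_smul]; rfl

theorem B_sub_right (x y y' : (Fin t → Fin k) → F) : 𝕘.B x (y - y') = 𝕘.B x y - 𝕘.B x y' := by
  rw [B, mulVec_sub, dotProduct_sub]; rfl

theorem B_sub_left (x x' y : (Fin t → Fin k) → F) : 𝕘.B (x - x') y = 𝕘.B x y - 𝕘.B x' y := sub_dotProduct _ _ _

theorem B_zero_right (x : (Fin t → Fin k) → F) : 𝕘.B x 0 = 0 := by rw [B, mulVec_zero, dotProduct_zero]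

theorem B_pure (a b : Fin t → Fin k → F) : 𝕘.B (pureVec a) (pureVec b) = ∏ j, 𝕘.β (a j) (b j) := by
  rw [B, big, Aschbacher.pureMat_mulVec, Aschbacher.pureVec_dot]
  rfl

theorem B_iso {g : Mat F k t} (hg : 𝕘.Iso g) (x y : (Fin t → Fin k) → F) :
    𝕘.B (g *ᵥ x) (g *ᵥ y) = 𝕘.B x y := by
  rw [B, B, dotProduct_comm, ← dotProduct_transpose_mulVec, dotProduct_comm, mulVec_mulVec, mulVec_mulVec,
    show gᵀ * 𝕘.big t * g = 𝕘.big t from hg, dotProduct_comm]

/-- The map `z ↦ B(y, z) x`. -/
def tB (x y : (Fin t → Fin k) → F) : Mat F k t := vecMulVec x (y ᵥ* 𝕘.big t)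

theorem tB_mulVec (x y z : (Fin t → Fin k) → F) : 𝕘.tB x y *ᵥ z = 𝕘.B y z • x := by
  funext i
  simp only [tB, Matrix.mulVec, dotProduct, vecMulVec_apply, Pi.smul_apply, smul_eq_mul]
  rw [show 𝕘.B y z = ∑ j, (y ᵥ* 𝕘.big t) j * z j from dotProduct_mulVec _ _ _, Finset.sum_mul]
  exact Finset.sum_congr rfl fun j _ => by ring

theorem tB_pure (a b : Fin t → Fin k → F) :
    𝕘.tB (pureVec a) (pureVec b) = pureMat fun j => 𝕘.tau (a j) (b j) := by
  refine Matrix.ext_iff_mulVec.2 fun z => ?_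
  conv_lhs => rw [← Finset.univ_sum_single z]
  conv_rhs => rw [← Finset.univ_sum_single z]
  rw [mulVec_sum, mulVec_sum]
  refine Finset.sum_congr rfl fun x _ => ?_
  rw [show Pi.single x (z x) = z x • (Pi.single x (1 : F) : (Fin t → Fin k) → F) by
    rw [← Pi.single_smul, smul_eq_mul, mul_one], mulVec_smul, mulVec_smul, ← Aschbacher.pureVec_single,
    tB_mulVec, B_pure, Aschbacher.pureMat_mulVec]
  congr 1
  funext i
  simp only [Pi.smul_apply, smul_eq_mul, pureVec, tau_mulVec, Finset.prod_mul_distrib]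

/-- The Siegel element of the large form. -/
def sie (p m : (Fin t → Fin k) → F) : Mat F k t :=
  1 + 𝕘.tB p m - 𝕘.tB m p - (2⁻¹ * 𝕘.B m m) • 𝕘.tB p p

theorem sie_mulVec (p m z : (Fin t → Fin k) → F) :
    𝕘.sie p m *ᵥ z = z + 𝕘.B m z • p - 𝕘.B p z • m - (2⁻¹ * 𝕘.B m m * 𝕘.B p z) • p := by
  rw [sie, sub_mulVec, sub_mulVec, add_mulVec, one_mulVec, tB_mulVec, tB_mulVec, smul_mulVec, tB_mulVec, smul_smul]

theorem sie_zero (p : (Fin t → Fin k) → F) : 𝕘.sie p 0 = 1 :=
  Matrix.ext_iff_mulVec.2 fun z => by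
    simp [sie_mulVec, B_zero_right, 𝕘.B_comm z 0]

theorem sie_mul {p m m' : (Fin t → Fin k) → F} (hp : 𝕘.B p p = 0) (hm : 𝕘.B p m = 0) (hm' : 𝕘.B p m' = 0) :
    𝕘.sie p m * 𝕘.sie p m' = 𝕘.sie p (m + m') := by
  refine Matrix.ext_iff_mulVec.2 fun z => ?_
  rw [← mulVec_mulVec]
  simp only [sie_mulVec, B_add_left, B_add_right, B_sub_right, B_smul_right, hp, hm, hm', 𝕘.B_comm p m, 𝕘.B_comm m m']
  have := 𝕘.two
  match_scalars <;> field_simp <;> ring

/-- The group contains the Siegel elements along the line of `m`. -/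
def Ef (H : Subgroup (Mat F k t)ˣ) (p m : (Fin t → Fin k) → F) : Prop :=
  𝕘.B p p = 0 ∧ 𝕘.B p m = 0 ∧ ∀ c : F, ∃ g ∈ H, (g : Mat F k t) = 𝕘.sie p (c • m)

/-- The space of axes at a centre. -/
def axes (H : Subgroup (Mat F k t)ˣ) {p : (Fin t → Fin k) → F} (hp : 𝕘.B p p = 0) :
    Submodule F ((Fin t → Fin k) → F) where
  carrier := {m | 𝕘.Ef H p m}
  zero_mem' := ⟨hp, 𝕘.B_zero_right p, fun c => ⟨1, H.one_mem, by rw [smul_zero, sie_zero, Units.val_one]⟩⟩
  add_mem' := by
    rintro m m' h h'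
    refine ⟨hp, by rw [B_add_right, h.2.1, h'.2.1, add_zero], fun c => ?_⟩
    obtain ⟨g, hg, e⟩ := h.2.2 c
    obtain ⟨g', hg', e'⟩ := h'.2.2 c
    refine ⟨g * g', H.mul_mem hg hg', ?_⟩
    rw [Units.val_mul, e, e', sie_mul 𝕘 hp (by rw [B_smul_right, h.2.1, mul_zero])
      (by rw [B_smul_right, h'.2.1, mul_zero]), smul_add]
  smul_mem' := fun c m h => ⟨hp, by rw [B_smul_right, h.2.1, mul_zero], fun d => by
    rw [smul_smul]; exact h.2.2 (d * c)⟩

variable {𝕘} {H : Subgroup (Mat F k t)ˣ} {v v' z : Fin k → F}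

theorem mem_axes {p m : (Fin t → Fin k) → F} {hp : 𝕘.B p p = 0} : m ∈ 𝕘.axes H hp ↔ 𝕘.Ef H p m := Iff.rfl

/-- A member fixing the centre moves an axis to an axis. -/
theorem Ef.move (hH : 𝕘.Over H) {g : (Mat F k t)ˣ} (hg : g ∈ H) {p m : (Fin t → Fin k) → F} (h : 𝕘.Ef H p m)
    (hfix : (g : Mat F k t) *ᵥ p = p) : 𝕘.Ef H p ((g : Mat F k t) *ᵥ m) := by
  have hi := 𝕘.B_iso (hH.iso g hg)
  refine ⟨h.1, by nth_rw 1 [← hfix]; rw [hi, h.2.1], fun c => ?_⟩
  obtain ⟨r, hr, e⟩ := h.2.2 c
  refine ⟨g * r * g⁻¹, H.mul_mem (H.mul_mem hg hr) (H.inv_mem hg), Matrix.ext_iff_mulVec.2 fun y => ?_⟩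
  obtain ⟨x, rfl⟩ : ∃ x, (g : Mat F k t) *ᵥ x = y :=
    ⟨((g⁻¹ : (Mat F k t)ˣ) : Mat F k t) *ᵥ y, by rw [mulVec_mulVec, g.mul_inv, one_mulVec]⟩
  rw [Units.val_mul, Units.val_mul, ← mulVec_mulVec, mulVec_mulVec x ((g⁻¹ : (Mat F k t)ˣ) : Mat F k t), g.inv_mul,
    one_mulVec, ← mulVec_mulVec, e, ← mulVec_smul, sie_mulVec, sie_mulVec]
  conv_rhs => rw [← hfix]
  simp only [B_smul_left, B_smul_right, hi, mulVec_add, mulVec_sub, mulVec_smul]

theorem pureMat_update_sub (X : Fin t → Matrix (Fin k) (Fin k) F) (b : Fin t) (A C : Matrix (Fin k) (Fin k) F) :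
    (pureMat (Function.update X b A) : Mat F k t) - pureMat (Function.update X b C) =
      pureMat (Function.update X b (A - C)) := by
  rw [pureMat_eq_sl_mul (Function.update X b A) b, pureMat_eq_sl_mul (Function.update X b C) b,
    pureMat_eq_sl_mul (Function.update X b (A - C)) b, Function.update_self, Function.update_self,
    Function.update_self, Function.update_idem, Function.update_idem, Function.update_idem, sl_sub, sub_mul]

theorem pureMat_update_smul (X : Fin t → Matrix (Fin k) (Fin k) F) (b : Fin t) (c : F)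
    (A : Matrix (Fin k) (Fin k) F) :
    (pureMat (Function.update X b (c • A)) : Mat F k t) = c • pureMat (Function.update X b A) := by
  rw [pureMat_eq_sl_mul (Function.update X b (c • A)) b, pureMat_eq_sl_mul (Function.update X b A) b,
    Function.update_self, Function.update_self, Function.update_idem, Function.update_idem, sl_smul, smul_mul_assoc]

theorem exists_ne (ht : 2 ≤ t) (b : Fin t) : ∃ a : Fin t, a ≠ b :=
  Fintype.exists_ne_of_one_lt_card (by rw [Fintype.card_fin]; omega) b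

theorem B_upd_self (hv : 𝕘.β v v = 0) (ht : 2 ≤ t) (b : Fin t) (r r' : Fin k → F) :
    𝕘.B (pureVec (Function.update (fun _ : Fin t => v) b r)) (pureVec (Function.update (fun _ => v) b r')) = 0 := by
  obtain ⟨a, ha⟩ := exists_ne ht b
  rw [B_pure]
  exact prod_eq_zero (mem_univ a) (by rw [Function.update_of_ne ha, Function.update_of_ne ha, hv])

theorem B_base (hv : 𝕘.β v v = 0) (ht : 2 ≤ t) :
    𝕘.B (pureVec fun _ : Fin t => v) (pureVec fun _ => v) = 0 := by
  rw [B_pure]
  exact prod_eq_zero (mem_univ ⟨0, by omega⟩) hv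

theorem B_base_upd (hv : 𝕘.β v v = 0) (ht : 2 ≤ t) (b : Fin t) (r : Fin k → F) :
    𝕘.B (pureVec fun _ : Fin t => v) (pureVec (Function.update (fun _ => v) b r)) = 0 := by
  conv_lhs => arg 2; rw [← Function.update_eq_self b (fun _ : Fin t => v)]
  exact B_upd_self hv ht b _ r

/-- The Siegel element along an axis differing in one slot. -/
theorem sie_upd (hv : 𝕘.β v v = 0) (ht : 2 ≤ t) (b : Fin t) (r : Fin k → F) (c : F) :
    𝕘.sie (pureVec fun _ : Fin t => v) (c • pureVec (Function.update (fun _ => v) b r)) =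
      1 + c • pureMat (Function.update (fun _ => 𝕘.tau v v) b (𝕘.N v r)) := by
  rw [sie, B_smul_left, B_smul_right, B_upd_self hv ht, mul_zero, mul_zero, mul_zero, zero_smul, sub_zero,
    ← pureVec_smul, N, tB_pure, tB_pure, add_sub_assoc]
  congr 1
  have e1 : (fun j => 𝕘.tau v (Function.update (fun _ : Fin t => v) b (c • r) j)) =
      Function.update (fun _ => 𝕘.tau v v) b (c • 𝕘.tau v r) := funext fun j => by
    rcases eq_or_ne j b with rfl | hj <;> simp [*, tau_smul_right]
  have e2 : (fun j => 𝕘.tau (Function.update (fun _ : Fin t => v) b (c • r) j) v) =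
      Function.update (fun _ => 𝕘.tau v v) b (c • 𝕘.tau r v) := funext fun j => by
    rcases eq_or_ne j b with rfl | hj <;> simp [*, tau_smul_left]
  rw [e1, e2, pureMat_update_sub, ← smul_sub, pureMat_update_smul]

/-- The long roots at every slot and every vector. -/
def AllTop (𝕘 : Gram F k) (H : Subgroup (Mat F k t)ˣ) (v : Fin k → F) : Prop :=
  ∀ (b : Fin t) (r : Fin k → F), 𝕘.Top H v r b

theorem Top.change [Finite F] (hH : 𝕘.Over H) (hB : 𝕘.Big) (ht : 2 ≤ t) (h : 𝕘.Hyp v v') (hz : 𝕘.InU v v' z)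
    (hzn : 𝕘.β z z ≠ 0) {b : Fin t} (hT : 𝕘.Top H v z b) (r : Fin k → F) : 𝕘.Top H v r b := by
  obtain ⟨a, ha⟩ := exists_ne ht b
  have := Root.subst hH hT (m := b) (l := a) ha (by rw [Function.update_of_ne ha, tau_sq 𝕘 h.vv])
    (M := 𝕘.N v r) (by rw [Function.update_self]; exact gen_skew hB h hz hzn v r)
  rwa [Function.update_idem] at this

theorem Top.axis (ht : 2 ≤ t) (hv : 𝕘.β v v = 0) {b : Fin t} {r : Fin k → F} (hT : 𝕘.Top H v r b) :
    𝕘.Ef H (pureVec fun _ => v) (pureVec (Function.update (fun _ => v) b r)) :=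
  ⟨B_base hv ht, B_base_upd hv ht b r, fun c => by
    obtain ⟨g, hg, e⟩ := hT.2 c
    exact ⟨g, hg, by rw [sie_upd hv ht, e]⟩⟩

/-- The intermediate root, with `v'` off the slot. -/
theorem Top.mixed [Finite F] (hH : 𝕘.Over H) (hB : 𝕘.Big) (h : 𝕘.Hyp v v') {b : Fin t} {r : Fin k → F}
    (hT : 𝕘.Top H v r b) :
    Root H (pureMat (Function.update (fun _ => 𝕘.tau v' v') b (𝕘.N v r)) : Mat F k t) := by
  classical
  obtain ⟨P, hP, c, hc, hPv⟩ := h.swap_mem hB
  have hPO : P ∈ 𝕘.O := (Subgroup.commutator_le_self 𝕘.O) hP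
  suffices hs : ∀ s : Finset (Fin t), b ∉ s →
      Root H (pureMat (Function.update (fun m => if m ∈ s then 𝕘.tau v' v' else 𝕘.tau v v) b (𝕘.N v r)) : Mat F k t) by
    convert hs (univ.erase b) (notMem_erase b univ) using 2
    funext m
    rcases eq_or_ne m b with rfl | hm <;> simp [*]
  intro s
  induction s using Finset.induction with
  | empty => intro _; simpa [Top] using hT
  | insert i s hi ih =>
    intro hb
    simp only [mem_insert, not_or] at hb
    have h1 := root_pure_conj hH (ih hb.2) i hP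
    rw [Function.update_of_ne (Ne.symm hb.1), if_neg hi, conj_tau 𝕘 hPO P.mul_inv, hPv, tau_smul_left, tau_smul_right,
      smul_smul, pureMat_update_smul] at h1
    have h2 := h1.smul (c * c)⁻¹
    rw [smul_smul, inv_mul_cancel₀ (mul_ne_zero hc hc), one_smul] at h2
    convert h2 using 2
    funext m
    rcases eq_or_ne m i with rfl | hm
    · simp [Function.update_of_ne (Ne.symm hb.1)]
    rcases eq_or_ne m b with rfl | hmb
    · simp [hm]
    · simp [hm, hmb]

theorem Top.swap [Finite F] (hH : 𝕘.Over H) (hB : 𝕘.Big) (ht : 2 ≤ t) (h : 𝕘.Hyp v v') (hz : 𝕘.InU v v' z)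
    (hzn : 𝕘.β z z ≠ 0) {b : Fin t} (hT : 𝕘.Top H v z b) (r : Fin k → F) : 𝕘.Top H v' r b := by
  obtain ⟨a, ha⟩ := exists_ne ht b
  have := Root.subst hH (hT.mixed hH hB h) (m := b) (l := a) ha (by rw [Function.update_of_ne ha, tau_sq 𝕘 h.ww])
    (M := 𝕘.N v' r) (by rw [Function.update_self]; exact gen_skew hB h hz hzn v' r)
  rwa [Function.update_idem] at this

/-! ### The moves -/

/-- The move by an intermediate root. -/
theorem move_pure [Finite F] (hH : 𝕘.Over H) (hB : 𝕘.Big) (ht : 2 ≤ t) (h : 𝕘.Hyp v v') {a : Fin t}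
    {r : Fin k → F} (hr : 𝕘.InU v v' r) (hT : 𝕘.Top H v r a) {u : Fin t → Fin k → F}
    (hu : 𝕘.Ef H (pureVec fun _ => v) (pureVec u)) :
    𝕘.Ef H (pureVec fun _ => v)
      (pureVec fun j => Function.update (fun _ => 𝕘.tau v' v') a (𝕘.N v r) j *ᵥ u j) := by
  obtain ⟨g, hg, e⟩ := (hT.mixed hH hB h).2 1
  rw [one_smul] at e
  have hfix : (g : Mat F k t) *ᵥ pureVec (fun _ => v) = pureVec fun _ => v := by
    rw [e, add_mulVec, one_mulVec, Aschbacher.pureMat_mulVec, add_eq_left]
    refine Wreath.pureVec_eq_zero_of (i := a) ?_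
    rw [Function.update_self, N_mulVec, hr.comm.1, h.vv, zero_smul, zero_smul, sub_zero]
  have h1 := hu.move hH hg hfix
  rw [e, add_mulVec, one_mulVec, Aschbacher.pureMat_mulVec] at h1
  have h2 := (𝕘.axes H (B_base h.vv ht)).sub_mem (x := _) (y := pureVec u) h1 hu
  rwa [add_sub_cancel_left] at h2

theorem Top.cycle (hH : 𝕘.Over H) {b b' : Fin t} {r : Fin k → F} (ht : 3 ≤ t) (hT : 𝕘.Top H v r b) :
    𝕘.Top H v r b' := by
  classical
  rcases eq_or_ne b' b with rfl | hne
  · exact hT
  obtain ⟨c, -, hc⟩ := Finset.exists_mem_notMem_of_card_lt_card (s := ({b, b'} : Finset (Fin t))) (t := univ)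
    (by rw [card_pair hne.symm, card_univ, Fintype.card_fin]; omega)
  simp only [mem_insert, mem_singleton, not_or] at hc
  have h1 := root_cycle hH hT (Equiv.Perm.isThreeCycle_swap_mul_swap_same (a := b) (b := c) (c := b')
    (Ne.symm hc.1) hne.symm hc.2)
  rw [Top]
  convert h1 using 2
  funext m
  set π := Equiv.swap b c * Equiv.swap b b' with hπ
  have hs : π.symm b' = b := by
    rw [Equiv.symm_apply_eq, hπ, Equiv.Perm.mul_apply, Equiv.swap_apply_left,
      Equiv.swap_apply_of_ne_of_ne hne (Ne.symm hc.2)]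
  rcases eq_or_ne m b' with rfl | hm
  · simp [hs]
  · rw [Function.update_of_ne hm, Function.update_of_ne]
    intro e
    exact hm (by rw [← hs] at e; exact π.symm.injective e)

/-- The long roots at all slots. -/
theorem Top.all [Finite F] [NeZero k] (hH : 𝕘.Over H) (hB : 𝕘.Big) (ht : 2 ≤ t) (h : 𝕘.Hyp v v')
    (hz : 𝕘.InU v v' z) (hzn : 𝕘.β z z ≠ 0) {b : Fin t} (hT : 𝕘.Top H v z b) : AllTop 𝕘 H v := by
  intro b'
  suffices 𝕘.Top H v z b' from fun r => this.change hH hB ht h hz hzn r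
  by_cases ht3 : 3 ≤ t
  · exact hT.cycle hH ht3
  rcases eq_or_ne b' b with rfl | hne
  · exact hT
  have hu := (hT.change hH hB ht h hz hzn z).axis ht h.vv
  have h1 := move_pure hH hB ht h hz hT hu
  have e : (fun j => Function.update (fun _ => 𝕘.tau v' v') b (𝕘.N v z) j *ᵥ
      Function.update (fun _ : Fin t => v) b z j) =
      Function.update (Function.update (fun _ : Fin t => v) b' v') b (𝕘.β z z • v) := by
    funext j
    rcases eq_or_ne j b with rfl | hj
    · simp [N_mulVec, hz.1]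
    obtain rfl : j = b' := by
      by_contra hjb
      have : 2 < t := by
        calc 2 < ({j, b, b'} : Finset (Fin t)).card + 0 := by
              rw [card_insert_of_notMem (by simp [hj, hjb]), card_pair hne.symm]; omega
          _ ≤ t := by simpa using card_le_univ ({j, b, b'} : Finset (Fin t))
      omega
    simp [hj, tau_mulVec, h.wv]
  have e2 : Function.update (Function.update (fun _ : Fin t => v) b' v') b v = Function.update (fun _ => v) b' v' := by
    funext j
    rcases eq_or_ne j b with rfl | hj <;> simp [*, hne.symm]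
  rw [e, pureVec_smul, e2] at h1
  have h2 := (𝕘.axes H (B_base h.vv ht)).smul_mem (𝕘.β z z)⁻¹ h1
  rw [smul_smul, inv_mul_cancel₀ hzn, one_smul, mem_axes] at h2
  have hR : Root H (pureMat (Function.update (fun _ => 𝕘.tau v v) b' (𝕘.N v v')) : Mat F k t) := by
    refine ⟨pureMat_mul_slot_zero b (by rw [Function.update_of_ne hne.symm, tau_sq 𝕘 h.vv]), fun c => ?_⟩
    obtain ⟨g, hg, e'⟩ := h2.2.2 c
    exact ⟨g, hg, by rw [e', sie_upd h.vv ht]⟩
  have h3 := hR.subst hH (m := b') (l := b) hne.symm (by rw [Function.update_of_ne hne.symm, tau_sq 𝕘 h.vv])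
    (M := 𝕘.N v z) (by rw [Function.update_self]; exact gen_h hB h hz)
  rwa [Function.update_idem] at h3

/-! ### All axes -/

/-- Spreading one slot to all. -/
theorem fill [Finite F] (hH : 𝕘.Over H) (hB : 𝕘.Big) (h : 𝕘.Hyp v v') (ht : 2 ≤ t) {a : Fin t}
    {w : Fin k → F} (h0 : 𝕘.Ef H (pureVec fun _ => v) (pureVec (Function.update (fun _ => v') a w)))
    (u : Fin t → Fin k → F) (hu : u a = w) : 𝕘.Ef H (pureVec fun _ => v) (pureVec u) := by
  classical
  subst hu
  set A := 𝕘.axes H (B_base (𝕘 := 𝕘) h.vv ht)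
  suffices hs : ∀ s : Finset (Fin t), a ∉ s →
      ∀ u' : Fin t → Fin k → F, u' a = u a →
        pureVec (fun j => if j = a then u' j else if j ∈ s then u' j else v') ∈ A by
    have h1 := hs (univ.erase a) (notMem_erase a univ) u rfl
    rw [mem_axes] at h1
    convert h1 using 2
    funext j
    rcases eq_or_ne j a with rfl | hj <;> simp [*]
  intro s
  induction s using Finset.induction with
  | empty =>
    intro _ u' hu'
    rw [mem_axes]
    convert h0 using 2
    funext j
    rcases eq_or_ne j a with rfl | hj <;> simp [*]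
  | insert i s hi ih =>
    intro ha u' hu'
    simp only [mem_insert, not_or] at ha
    set base : Fin t → Fin k → F := fun j => if j = a then u' j else if j ∈ s then u' j else v' with hbase
    let S : Submodule F (Fin k → F) :=
      { carrier := {x | pureVec (Function.update base i x) ∈ A}
        add_mem' := fun {x y} hx hy => by
          show _ ∈ A
          rw [pureVec_add]
          exact A.add_mem hx hy
        zero_mem' := by
          show _ ∈ A
          rw [Wreath.pureVec_eq_zero_of (i := i) (by rw [Function.update_self])]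
          exact A.zero_mem
        smul_mem' := fun c x hx => by
          show _ ∈ A
          rw [pureVec_smul]
          exact A.smul_mem c hx }
    have hv' : v' ∈ S := by
      show _ ∈ A
      convert ih ha.2 u' hu' using 2
      funext j
      rcases eq_or_ne j i with rfl | hj
      · simp [Ne.symm ha.1, hi]
      · simp [hbase, hj]
    have hue : ∀ r, 𝕘.β v r = 0 → ∀ x ∈ S, 𝕘.ue v r *ᵥ x ∈ S := fun r hr x hx => by
      show _ ∈ A
      rw [mem_axes]
      have hg := hH.om i _ (𝕘.ueU_mem hB h.vv hr)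
      have hx' : pureVec (Function.update base i x) ∈ A := hx
      have h1 := Ef.move hH hg (mem_axes.1 hx') (by
        rw [slU_val, ueU_val, sl_mulVec_pure, ue_mulVec, h.vv, 𝕘.β_comm v r, hr]
        congr 1
        funext j
        rcases eq_or_ne j i with rfl | hj <;> simp [*])
      rwa [slU_val, ueU_val, sl_mulVec_pure, Function.update_self, Function.update_idem] at h1
    have hdiff : ∀ r, 𝕘.InU v v' r → r ∈ S ∧ (2⁻¹ * 𝕘.β r r) • v ∈ S := fun r hr => by
      have e : ∀ r, 𝕘.InU v v' r → 𝕘.ue v r *ᵥ v' = v' - r - (2⁻¹ * 𝕘.β r r) • v := fun r hr => by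
        rw [ue_mulVec, hr.comm.2, h.vw]; module
      have h1 := hue r hr.1 v' hv'
      have h2 := hue _ (𝕘.inU_smul hr (-1)).1 v' hv'
      rw [e r hr] at h1
      rw [e _ (𝕘.inU_smul hr _)] at h2
      have h3 := S.sub_mem h2 h1
      rw [β_smul_left, β_smul_right] at h3
      have hrS : r ∈ S := by
        refine (S.smul_mem_iff 𝕘.two).1 ?_
        convert h3 using 1
        match_scalars <;> ring
      refine ⟨hrS, ?_⟩
      have h4 := S.sub_mem (S.sub_mem hv' hrS) h1
      convert h4 using 1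
      abel
    have htop : ∀ x, x ∈ S := fun x => by
      obtain ⟨r, hr, hrn⟩ := h.aniso hB.1
      have hv : v ∈ S := (S.smul_mem_iff (mul_ne_zero (inv_ne_zero 𝕘.two) hrn)).1 (hdiff r hr).2
      rw [← 𝕘.decomp (v := v) (v' := v') x]
      exact S.add_mem (S.add_mem (S.smul_mem _ hv) (S.smul_mem _ hv')) (hdiff _ (𝕘.pr_inU h x)).1
    have h5 : pureVec (Function.update base i (u' i)) ∈ A := htop (u' i)
    convert h5 using 2
    funext j
    rcases eq_or_ne j i with rfl | hj
    · simp [Ne.symm ha.1]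
    · simp [hbase, hj]

/-- All vectors orthogonal to the pure point are axes. -/
theorem AllTop.full [Finite F] [NeZero k] (hH : 𝕘.Over H) (hB : 𝕘.Big) (ht : 2 ≤ t) (h : 𝕘.Hyp v v')
    (hT : AllTop 𝕘 H v) (w : (Fin t → Fin k) → F) (hw : 𝕘.B (pureVec fun _ => v) w = 0) :
    𝕘.Ef H (pureVec fun _ => v) w := by
  classical
  have hp : 𝕘.B (pureVec fun _ : Fin t => v) (pureVec fun _ => v) = 0 := B_base h.vv ht
  set A := 𝕘.axes H hp
  -- the generators with one special slot
  have hA3 : ∀ (a : Fin t) (r : Fin k → F), 𝕘.InU v v' r →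
      pureVec (Function.update (fun _ : Fin t => v') a r) ∈ A := by
    intro a r hr
    have h1 := move_pure hH hB ht h hr (hT a r) ((hT a v').axis ht h.vv)
    have e : (fun j => Function.update (fun _ => 𝕘.tau v' v') a (𝕘.N v r) j *ᵥ
        Function.update (fun _ : Fin t => v) a v' j) = Function.update (fun _ => v') a ((-1 : F) • r) := by
      funext j
      rcases eq_or_ne j a with rfl | hj
      · simp [N_mulVec, hr.comm.2, h.vw]
      · simp [hj, tau_mulVec, h.wv]
    rw [e, pureVec_smul] at h1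
    have h2 := A.smul_mem (-1) h1
    rwa [smul_smul, neg_mul_neg, one_mul, one_smul] at h2
  have hA2 : ∀ a : Fin t, pureVec (Function.update (fun _ : Fin t => v') a v) ∈ A := by
    intro a
    obtain ⟨r, hr, hrn⟩ := h.aniso hB.1
    have h1 := move_pure hH hB ht h hr (hT a r) ((hT a r).axis ht h.vv)
    have e : (fun j => Function.update (fun _ => 𝕘.tau v' v') a (𝕘.N v r) j *ᵥ
        Function.update (fun _ : Fin t => v) a r j) = Function.update (fun _ => v') a (𝕘.β r r • v) := by
      funext j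
      rcases eq_or_ne j a with rfl | hj
      · simp [N_mulVec, hr.1]
      · simp [hj, tau_mulVec, h.wv]
    rw [e, pureVec_smul] at h1
    exact (A.smul_mem_iff hrn).1 h1
  have hperp : ∀ (u : Fin t → Fin k → F) (a : Fin t) (x : Fin k → F), 𝕘.β v x = 0 →
      pureVec (Function.update u a x) ∈ A := by
    intro u a x hx
    have e : x = 𝕘.β v' x • v + 𝕘.pr v v' x := by
      conv_lhs => rw [← 𝕘.decomp (v := v) (v' := v') x]
      rw [hx, zero_smul, add_zero]
    rw [e, pureVec_add, pureVec_smul]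
    refine A.add_mem (A.smul_mem _ ?_) ?_
    · exact fill hH hB h ht (hA2 a) _ (Function.update_self ..)
    · exact fill hH hB h ht (hA3 a _ (𝕘.pr_inU h x)) _ (Function.update_self ..)
  have hred : ∀ u : Fin t → Fin k → F,
      pureVec u - (∏ j, 𝕘.β v (u j)) • pureVec (fun _ => v') ∈ A := by
    intro u
    suffices hs : ∀ s : Finset (Fin t),
        pureVec u - (∏ j ∈ s, 𝕘.β v (u j)) • pureVec (fun j => if j ∈ s then v' else u j) ∈ A by
      simpa using hs univ
    intro s
    induction s using Finset.induction with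
    | empty => simp
    | insert i s hi ih =>
      set base : Fin t → Fin k → F := fun j => if j ∈ s then v' else u j with hbase
      have e1 : (fun j => if j ∈ insert i s then v' else u j) = Function.update base i v' := by
        funext j
        rcases eq_or_ne j i with rfl | hj <;> simp [hbase, *]
      have e2 : base = Function.update base i (𝕘.β v (u i) • v' + (u i - 𝕘.β v (u i) • v')) := by
        rw [add_sub_cancel, show u i = base i by simp [hbase, hi], Function.update_eq_self]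
      have h1 := hperp base i (u i - 𝕘.β v (u i) • v') (by rw [β_sub_right, β_smul_right, h.vw, mul_one, sub_self])
      have h2 := A.add_mem ih (A.smul_mem (∏ j ∈ s, 𝕘.β v (u j)) h1)
      rw [prod_insert hi, e1]
      have e3 : (pureVec base : (Fin t → Fin k) → F) = 𝕘.β v (u i) • pureVec (Function.update base i v') +
          pureVec (Function.update base i (u i - 𝕘.β v (u i) • v')) := by
        conv_lhs => rw [e2]
        rw [pureVec_add, pureVec_smul]
      convert h2 using 1
      rw [e3]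
      module
  have hsplit : ∀ y : (Fin t → Fin k) → F, ∃ s : F, y - s • pureVec (fun _ => v') ∈ A := by
    intro y
    refine ⟨∑ x, y x * ∏ j, 𝕘.β v (Pi.single (x j) 1), ?_⟩
    nth_rw 1 [← Finset.univ_sum_single y]
    rw [Finset.sum_smul, ← Finset.sum_sub_distrib]
    refine A.sum_mem fun x _ => ?_
    have h1 := A.smul_mem (y x) (hred fun j => Pi.single (x j) 1)
    rw [Aschbacher.pureVec_single, smul_sub, smul_smul, ← Pi.single_smul, smul_eq_mul, mul_one] at h1
    exact h1
  obtain ⟨s, hs⟩ := hsplit w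
  have h1 := (mem_axes.1 hs).2.1
  rw [B_sub_right, B_smul_right, hw, B_pure, prod_eq_one (fun j _ => h.vw), mul_one, zero_sub, neg_eq_zero] at h1
  rw [h1, zero_smul, sub_zero] at hs
  exact hs

/-- A group with a slot root has two full pure points. -/
theorem Over.full_pair [Finite F] [NeZero k] (hH : 𝕘.Over H) (hk : 3 ≤ k) (ht : 2 ≤ t) (hr : ¬ 𝕘.NoRoot H) :
    ∃ p p' : (Fin t → Fin k) → F, 𝕘.B p p = 0 ∧ 𝕘.B p' p' = 0 ∧ 𝕘.B p p' = 1 ∧
      (∀ w, 𝕘.B p w = 0 → 𝕘.Ef H p w) ∧ (∀ w, 𝕘.B p' w = 0 → 𝕘.Ef H p' w) := by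
  have hB := hH.big hk
  obtain ⟨v, v', z, b, h, hz, hzn, hT⟩ := hH.exists_top hk hr
  exact ⟨_, _, B_base h.vv ht, B_base h.ww ht, by rw [B_pure]; exact prod_eq_one fun j _ => h.vw,
    (hT.all hH hB ht h hz hzn).full hH hB ht h,
    ((hT.swap hH hB ht h hz hzn z).all hH hB ht h.symm hz.symm hzn).full hH hB ht h.symm⟩

/-- The long root is not monomial. -/
theorem sie_not_mono (h : 𝕘.Hyp v v') (hz : 𝕘.InU v v' z) (hzn : 𝕘.β z z ≠ 0) (ht : 2 ≤ t) (b : Fin t) :
    ¬ Mono (𝕘.sie (pureVec fun _ : Fin t => v) (pureVec (Function.update (fun _ => v) b z))) := by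
  classical
  rintro ⟨A, π, hg⟩
  obtain ⟨a, ha⟩ := exists_ne ht b
  have e0 := sie_upd (k := k) (t := t) h.vv ht b z 1
  rw [one_smul, one_smul, hg] at e0
  have h1 := congrArg (fun M => M *ᵥ pureVec (fun _ : Fin t => v')) e0
  rw [← mulVec_mulVec, Aschbacher.factorPerm_mulVec, Aschbacher.pureMat_mulVec, add_mulVec, one_mulVec,
    Aschbacher.pureMat_mulVec] at h1
  set q := Function.update (fun _ : Fin t => v) b z
  have e1 : (fun j => Function.update (fun _ => 𝕘.tau v v) b (𝕘.N v z) j *ᵥ v') = Function.update q b ((-1 : F) • z) := by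
    funext j
    rcases eq_or_ne j b with rfl | hj
    · simp [N_mulVec, hz.comm.2, h.vw]
    · simp [q, hj, tau_mulVec, h.vw]
  rw [e1, pureVec_smul, Function.update_idem] at h1
  set W := fun j => (A j : Matrix (Fin k) (Fin k) F) *ᵥ v'
  let f : (Fin k → F) → (Fin k → F) → Fin t → Fin k → F :=
    fun x y => Function.update (Function.update (fun _ => v + v') a x) b y
  have hM : ∀ x y, 𝕘.B (pureVec (f x y)) (pureVec W) = 𝕘.β x v' * 𝕘.β y v' - 𝕘.β x v * 𝕘.β y z := by
    intro x y
    rw [show pureVec W = _ from h1, B_add_right, B_smul_right, B_pure, B_pure]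
    have hrest : ∀ j, j ≠ a ∧ j ≠ b → 𝕘.β (v + v') v' = 1 ∧ 𝕘.β (v + v') v = 1 := fun j _ => by
      simp [β_add_left, h.vw, h.ww, h.vv, h.wv]
    rw [Fintype.prod_eq_mul a b ha fun j hj => by simp [f, hj.1, hj.2, (hrest j hj).1],
      Fintype.prod_eq_mul a b ha fun j hj => by simp [f, q, hj.1, hj.2, (hrest j hj).2]]
    simp [f, q, ha]
    ring
  have hP : ∀ x y x' y', 𝕘.B (pureVec (f x y)) (pureVec W) * 𝕘.B (pureVec (f x' y')) (pureVec W) =
      𝕘.B (pureVec (f x y')) (pureVec W) * 𝕘.B (pureVec (f x' y)) (pureVec W) := by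
    intro x y x' y'
    simp only [B_pure, ← Finset.prod_mul_distrib]
    refine prod_congr rfl fun j _ => ?_
    rcases eq_or_ne j b with rfl | hjb
    · simp [f, mul_comm]
    · simp [f, hjb]
  have := hP v v v' z
  simp only [hM, h.vv, h.ww, h.vw, h.wv, hz.1, hz.2, hz.comm.1, hz.comm.2] at this
  exact hzn (by linear_combination -this)

end Gram

end Cfsg.Agent.H24.OWr
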