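import Cfsg.Agent.H24.OWr.Cent

/-!
An element carrying a singular line of every slot to a singular line of a slot is monomial.
-/

set_option autoImplicit false
set_option linter.unusedVariables false

namespace Cfsg.Agent.H24.OWr

open Matrix Finset
open Cfsg.Agent.Aschbacher (pureMat slotMat pureGL factorPerm factorPermGL cj)
open Cfsg.Agent.H24.Wreath (Mat sl Off off_one off_sl sl_mul sl_one sl_add sl_smul sl_zero sl_neg sl_sub
  sl_injective sl_comm eq_sl_of_off eq_smul_one_of_off off_pureMat sl_transpose)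

variable {F : Type*} [Field F] {k t : ℕ}

namespace Gram

/-! ### Monomial maps -/

theorem fp_mul (σ τ : Equiv.Perm (Fin t)) :
    (factorPerm σ : Mat F k t) * factorPerm τ = factorPerm (σ * τ) := by
  rw [Aschbacher.factorPerm_mul]
  ext x y
  simp only [factorPerm, Function.comp_assoc, Equiv.Perm.coe_mul, Matrix.of_apply]
  congr 1

theorem fp_one : (factorPerm 1 : Mat F k t) = 1 := by
  ext x y
  simp [factorPerm, Matrix.one_apply, eq_comm]

theorem Mono.mul {g h : Mat F k t} (hg : Mono g) (hh : Mono h) : Mono (g * h) := by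
  obtain ⟨A, π, rfl⟩ := hg
  obtain ⟨B, ρ, rfl⟩ := hh
  refine ⟨fun j => A j * B (π.symm j), π * ρ, ?_⟩
  rw [mul_assoc, ← mul_assoc (factorPerm π), Aschbacher.factorPerm_conj, mul_assoc,
    fp_mul, ← mul_assoc, Aschbacher.pureMat_mul]
  simp only [Units.val_mul]

theorem mono_perm (π : Equiv.Perm (Fin t)) : Mono (factorPerm π : Mat F k t) :=
  ⟨fun _ => 1, π, by simp only [Units.val_one, Aschbacher.pureMat_one, one_mul]⟩

theorem mono_pure (A : Fin t → (Matrix (Fin k) (Fin k) F)ˣ) :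
    Mono (pureMat fun j => (A j : Matrix (Fin k) (Fin k) F) : Mat F k t) :=
  ⟨A, 1, by rw [fp_one, mul_one]⟩

theorem mono_one : Mono (1 : Mat F k t) := by
  have := mono_perm (F := F) (k := k) (1 : Equiv.Perm (Fin t))
  rwa [fp_one] at this

theorem mono_slU (i : Fin t) (P : (Matrix (Fin k) (Fin k) F)ˣ) : Mono (slU i P : Mat F k t) := by
  refine ⟨Function.update (fun _ => 1) i P, 1, ?_⟩
  rw [fp_one, mul_one, slU_val, sl, slotMat]
  congr 1
  funext j
  rcases eq_or_ne j i with rfl | hj <;> simp [*]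

theorem Mono.smul [NeZero t] {g : Mat F k t} (hg : Mono g) {c : F} (hc : c ≠ 0) : Mono (c • g) := by
  obtain ⟨A, π, rfl⟩ := hg
  have i : Fin t := ⟨0, Nat.pos_of_ne_zero (NeZero.ne t)⟩
  refine ⟨Function.update A i (A i * Units.map (algebraMap F (Matrix (Fin k) (Fin k) F)).toMonoidHom (Units.mk0 c hc)),
    π, ?_⟩
  rw [← smul_mul_assoc]
  congr 1
  have hprod : c = ∏ j, Function.update (fun _ : Fin t => (1 : F)) i c j := by
    rw [Finset.prod_update_of_mem (mem_univ i)]; simp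
  conv_lhs => rw [hprod, ← Cfsg.Agent.H24.Wreath.pureMat_smul]
  congr 1
  funext j
  rcases eq_or_ne j i with rfl | hj
  · simp [Algebra.algebraMap_eq_smul_one]
  · simp [hj]

theorem Mono.inv {g : (Mat F k t)ˣ} (hg : Mono (g : Mat F k t)) : Mono ((g⁻¹ : (Mat F k t)ˣ) : Mat F k t) := by
  obtain ⟨A, π, hg⟩ := hg
  have e : g = pureGL A * factorPermGL π := Units.ext hg
  have h1 : Mono (factorPerm π.symm : Mat F k t) := mono_perm _
  have h2 := mono_pure (fun j => (A j)⁻¹)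
  rw [e, _root_.mul_inv_rev, Units.val_mul]
  exact h1.mul h2

theorem sl_conj_mono (A : Fin t → (Matrix (Fin k) (Fin k) F)ˣ) (π : Equiv.Perm (Fin t)) (i : Fin t)
    (X : Matrix (Fin k) (Fin k) F) :
    ((pureGL A * factorPermGL π : (Mat F k t)ˣ) : Mat F k t) * sl i X *
      (((pureGL A * factorPermGL π)⁻¹ : (Mat F k t)ˣ) : Mat F k t) =
      sl (π i) ((A (π i) : Matrix (Fin k) (Fin k) F) * X *
        (((A (π i))⁻¹ : (Matrix (Fin k) (Fin k) F)ˣ) : Matrix (Fin k) (Fin k) F)) :=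
  (Units.mul_inv_eq_iff_eq_mul _).2 (Aschbacher.slotMat_conj A π i X)

/-! ### Similitudes -/

variable (𝕘 : Gram F k)

/-- A similitude with multiplier `c`. -/
def SimD (c : F) (X : Matrix (Fin k) (Fin k) F) : Prop := ∀ x y, 𝕘.β (X *ᵥ x) (X *ᵥ y) = c * 𝕘.β x y

theorem SimD.conj_tau {𝕘 : Gram F k} {c : F} {X : Matrix (Fin k) (Fin k) F} (hX : 𝕘.SimD c X) (hc : c ≠ 0)
    (a b : Fin k → F) : X * 𝕘.tau a b = c⁻¹ • (𝕘.tau (X *ᵥ a) (X *ᵥ b) * X) := by
  refine Matrix.ext_iff_mulVec.2 fun z => ?_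
  rw [← mulVec_mulVec, tau_mulVec, mulVec_smul, smul_mulVec, ← mulVec_mulVec, tau_mulVec, hX, smul_smul,
    ← mul_assoc, inv_mul_cancel₀ hc, one_mul]

theorem SimD.conj_tau' {𝕘 : Gram F k} {c : F} {S : (Matrix (Fin k) (Fin k) F)ˣ}
    (hS : 𝕘.SimD c (S : Matrix (Fin k) (Fin k) F)) (hc : c ≠ 0) (a b : Fin k → F) :
    (S : Matrix (Fin k) (Fin k) F) * 𝕘.tau a b * ((S⁻¹ : (Matrix (Fin k) (Fin k) F)ˣ) : Matrix (Fin k) (Fin k) F) =
      c⁻¹ • 𝕘.tau ((S : Matrix (Fin k) (Fin k) F) *ᵥ a) ((S : Matrix (Fin k) (Fin k) F) *ᵥ b) := by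
  rw [hS.conj_tau hc, smul_mul_assoc, mul_assoc, S.mul_inv, mul_one]

theorem SimD.conj_mem {𝕘 : Gram F k} {c : F} {S : (Matrix (Fin k) (Fin k) F)ˣ}
    (hS : 𝕘.SimD c (S : Matrix (Fin k) (Fin k) F)) (hc : c ≠ 0) {P : (Matrix (Fin k) (Fin k) F)ˣ}
    (hP : P ∈ 𝕘.Om) : S * P * S⁻¹ ∈ 𝕘.Om := by
  have hO : Subgroup.map (MulAut.conj S).toMonoidHom 𝕘.O ≤ 𝕘.O := by
    rintro _ ⟨Q, hQ, rfl⟩ x y
    show 𝕘.β (((S * Q * S⁻¹ : (Matrix (Fin k) (Fin k) F)ˣ) : Matrix (Fin k) (Fin k) F) *ᵥ x) _ = _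
    refine mul_left_cancel₀ hc ?_
    show c * 𝕘.β (((S * Q * S⁻¹ : (Matrix (Fin k) (Fin k) F)ˣ) : Matrix (Fin k) (Fin k) F) *ᵥ x)
      (((S * Q * S⁻¹ : (Matrix (Fin k) (Fin k) F)ˣ) : Matrix (Fin k) (Fin k) F) *ᵥ y) = _
    simp only [Units.val_mul, ← mulVec_mulVec]
    rw [hS, hQ, ← hS (_ *ᵥ x) (_ *ᵥ y)]
    simp [mulVec_mulVec]
  have h1 : Subgroup.map (MulAut.conj S).toMonoidHom 𝕘.Om ≤ 𝕘.Om := by
    rw [Om, Subgroup.map_commutator]
    exact Subgroup.commutator_mono hO hO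
  exact h1 ⟨P, hP, rfl⟩

variable {𝕘} {v v' : Fin k → F}

theorem N_inj {w w' a : Fin k → F} (hw : 𝕘.Hyp w w') (ha : 𝕘.InU w w' a) : 𝕘.N w a *ᵥ w' = -a := by
  rw [N_mulVec, ha.comm.2, hw.vw, zero_smul, one_smul, zero_sub]

/-- The similitude attached to a map of slot lines. -/
theorem Maps.exists_sim [Finite F] [NeZero k] {H : Subgroup (Mat F k t)ˣ} (hH : 𝕘.Over H) (hk : 3 ≤ k)
    (hno : 𝕘.NoRoot H) {x : (Mat F k t)ˣ} (hx : x ∈ H) {j l : Fin t} {w : Fin k → F} {c : F}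
    (hm : Maps 𝕘 x j v l w c) (h : 𝕘.Hyp v v') :
    ∃ S : (Matrix (Fin k) (Fin k) F)ˣ, 𝕘.SimD c (S : Matrix (Fin k) (Fin k) F) ∧
      (S : Matrix (Fin k) (Fin k) F) *ᵥ v = c • w ∧ ∀ z, 𝕘.InU v v' z → ((x⁻¹ : (Mat F k t)ˣ) : Mat F k t) * sl j (𝕘.N v z) * (x : Mat F k t) =
        sl l ((S : Matrix (Fin k) (Fin k) F) * 𝕘.N v z *
          ((S⁻¹ : (Matrix (Fin k) (Fin k) F)ˣ) : Matrix (Fin k) (Fin k) F)) := by
  obtain ⟨hc, hw0, hww, hτ⟩ := hm
  obtain ⟨w', hw⟩ := 𝕘.exists_hyp hw0 hww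
  choose a ha hae using fun z => Maps.map_N hH hk hno hx ⟨hc, hw0, hww, hτ⟩ h hw (𝕘.pr_inU h z)
  set xi := ((x⁻¹ : (Mat F k t)ˣ) : Mat F k t)
  have huniq : ∀ p q, 𝕘.InU w w' p → 𝕘.InU w w' q → (sl l (𝕘.N w p) : Mat F k t) = sl l (𝕘.N w q) → p = q :=
    fun p q hp hq e => by
      have := congrArg (fun X => X *ᵥ w') (sl_injective l e)
      rwa [N_inj hw hp, N_inj hw hq, neg_inj] at this
  let L : (Fin k → F) →ₗ[F] (Fin k → F) :=
    { toFun := a
      map_add' := fun p q => huniq _ _ (ha _) (𝕘.inU_add (ha p) (ha q)) (by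
        rw [← hae, N_add, sl_add, ← hae, ← hae, ← add_mul, ← mul_add, ← sl_add, ← N_add]
        congr 4
        simp only [pr, β_add_right, add_smul]; abel)
      map_smul' := fun s p => huniq _ _ (ha _) (𝕘.inU_smul (ha p) s) (by
        rw [RingHom.id_apply, ← hae, N_smul, sl_smul, ← hae, ← smul_mul_assoc, ← mul_smul_comm, ← sl_smul, ← N_smul]
        congr 4
        simp only [pr, β_smul_right, smul_sub, smul_smul]) }
  have hL : ∀ p, L p = a p := fun _ => rfl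
  have hn : ∀ p q, 𝕘.β (a p) (a q) = c * 𝕘.β (𝕘.pr v v' p) (𝕘.pr v v' q) := fun p q => by
    have e := congrArg (fun X => xi * X * (x : Mat F k t))
      ((sl_mul j (𝕘.N v (𝕘.pr v v' p)) (𝕘.N v (𝕘.pr v v' q))).trans
        (congrArg (fun X => (sl j X : Mat F k t)) (𝕘.N_mul_N h.vv (𝕘.pr_inU h p).1 (𝕘.pr_inU h q).1)))
    simp only [sl_smul, mul_smul_comm, smul_mul_assoc, hτ] at e
    have e' : xi * (sl j (𝕘.N v (𝕘.pr v v' p)) * sl j (𝕘.N v (𝕘.pr v v' q))) * (x : Mat F k t) =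
        (xi * sl j (𝕘.N v (𝕘.pr v v' p)) * (x : Mat F k t)) *
          (xi * sl j (𝕘.N v (𝕘.pr v v' q)) * (x : Mat F k t)) := by
      simp only [xi, mul_assoc]
      rw [← mul_assoc (x : Mat F k t) ((x⁻¹ : (Mat F k t)ˣ) : Mat F k t), x.mul_inv, one_mul]
    rw [e', hae, hae, sl_mul, N_mul_N 𝕘 hww (ha p).1 (ha q).1, sl_smul, smul_smul, neg_mul, neg_smul, neg_smul,
      neg_inj] at e
    have hτ0 : (sl l (𝕘.tau w w) : Mat F k t) ≠ 0 := fun e0 =>
      𝕘.tau_ne_zero hw0 hw0 (sl_injective l (e0.trans (sl_zero l).symm))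
    rw [smul_left_injective F hτ0 e, mul_comm]
  let T : (Fin k → F) →ₗ[F] (Fin k → F) :=
    { toFun := fun y => (c * 𝕘.β v' y) • w + 𝕘.β v y • w' + L y
      map_add' := fun p q => by simp only [β_add_right, map_add, mul_add, add_smul]; abel
      map_smul' := fun s p => by
        simp only [β_smul_right, map_smul, RingHom.id_apply, smul_add, smul_smul]
        rw [show c * (s * 𝕘.β v' p) = s * (c * 𝕘.β v' p) by ring] }
  set X := LinearMap.toMatrix' T
  have hX : ∀ y, X *ᵥ y = (c * 𝕘.β v' y) • w + 𝕘.β v y • w' + a y := fun y => LinearMap.toMatrix'_mulVec T y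
  have hsim : 𝕘.SimD c X := fun p q => by
    have eb : 𝕘.β p q = 𝕘.β v' p * 𝕘.β v q + 𝕘.β v p * 𝕘.β v' q + 𝕘.β (𝕘.pr v v' p) (𝕘.pr v v' q) := by
      simp only [pr, β_sub_left, β_sub_right, β_smul_left, β_smul_right, h.vv, h.ww, h.vw, h.wv, 𝕘.β_comm v p,
        𝕘.β_comm v' p]
      ring
    rw [hX, hX, eb]
    simp only [β_add_left, β_add_right, β_smul_left, β_smul_right, hw.vv, hw.ww, hw.vw, hw.wv, (ha p).comm.1,
      (ha p).comm.2, (ha q).1, (ha q).2, hn]
    ring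
  have hu : IsUnit X := Matrix.mulVec_injective_iff_isUnit.1 fun p q e => sub_eq_zero.1 (𝕘.nd fun y => by
    have h1 := hsim y (p - q)
    rw [mulVec_sub, e, sub_self, β_zero_right, eq_comm, mul_eq_zero] at h1
    exact h1.resolve_left hc)
  refine ⟨hu.unit, hsim, ?_, fun z hz => ?_⟩
  · rw [IsUnit.unit_spec, hX, h.vv, h.wv, mul_one, zero_smul, add_zero]
    rw [show a v = 0 from ?_, add_zero]
    have h0 : 𝕘.pr v v' v = 0 := by rw [pr, h.wv, h.vv, one_smul, zero_smul, sub_self, sub_zero]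
    refine huniq _ _ (ha v) 𝕘.inU_zero ?_
    rw [← hae, h0, N_zero, N_zero, sl_zero, sl_zero, mul_zero, zero_mul]
  have hS : 𝕘.SimD c (hu.unit : Matrix (Fin k) (Fin k) F) := hsim
  have hzv : 𝕘.pr v v' z = z := by rw [pr, hz.1, hz.2, zero_smul, zero_smul, sub_zero, sub_zero]
  have e1 : (hu.unit : Matrix (Fin k) (Fin k) F) *ᵥ v = c • w := by
    rw [IsUnit.unit_spec, hX, h.vv, h.wv, mul_one, zero_smul, add_zero]
    rw [show a v = 0 from ?_, add_zero]
    have h0 : 𝕘.pr v v' v = 0 := by rw [pr, h.wv, h.vv, one_smul, zero_smul, sub_self, sub_zero]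
    refine huniq _ _ (ha v) 𝕘.inU_zero ?_
    rw [← hae, h0, N_zero, N_zero, sl_zero, sl_zero, mul_zero, zero_mul]
  have e2 : (hu.unit : Matrix (Fin k) (Fin k) F) *ᵥ z = a z := by
    rw [IsUnit.unit_spec, hX, hz.1, hz.2, mul_zero, zero_smul, zero_smul, zero_add, zero_add]
  have := hae z
  rw [hzv] at this
  rw [this, N, N, mul_sub, sub_mul, hS.conj_tau' hc, hS.conj_tau' hc, e1, e2, tau_smul_left, tau_smul_right,
    smul_smul, smul_smul, inv_mul_cancel₀ hc, one_smul, one_smul]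

/-! ### The algebra of the lines -/

/-- Diagonal on the lines of the slots in `s`, trivial outside. -/
def InE (𝕘 : Gram F k) (v : Fin t → Fin k → F) (s : Finset (Fin t)) (Z : Mat F k t) : Prop :=
  (∀ j ∈ s, ∃ A K, Off j A ∧ Off j K ∧ Z = A + sl j (𝕘.tau (v j) (v j)) * K) ∧ ∀ j, j ∉ s → Off j Z

theorem InE.mul {v : Fin t → Fin k → F} (hv : ∀ j, 𝕘.β (v j) (v j) = 0) {s : Finset (Fin t)} {Z W : Mat F k t}
    (hZ : InE 𝕘 v s Z) (hW : InE 𝕘 v s W) : InE 𝕘 v s (Z * W) := by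
  refine ⟨fun j hj => ?_, fun j hj => (hZ.2 j hj).mul (hW.2 j hj)⟩
  obtain ⟨A, K, hA, hK, rfl⟩ := hZ.1 j hj
  obtain ⟨A', K', hA', hK', rfl⟩ := hW.1 j hj
  refine ⟨A * A', A * K' + K * A', hA.mul hA', (hA.mul hK').add (hK.mul hA'), ?_⟩
  have h0 : sl j (𝕘.tau (v j) (v j)) * (sl j (𝕘.tau (v j) (v j)) * K) = 0 := by
    rw [← mul_assoc, sl_mul, tau_sq 𝕘 (hv j), sl_zero, zero_mul]
  rw [add_mul, mul_add, mul_add, ← mul_assoc A, ← hA, mul_assoc _ K A', mul_assoc _ A K', ← mul_assoc (_ * K),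
    mul_assoc _ K (sl j _), ← hK, h0, zero_mul, mul_add, add_zero, add_assoc]

theorem InE.scalar_add_nil [NeZero k] {v v' : Fin t → Fin k → F} (h : ∀ j, 𝕘.Hyp (v j) (v' j)) (s : Finset (Fin t)) :
    ∀ Z : Mat F k t, InE 𝕘 v s Z → 𝕘.adj Z = Z ∧ ∃ c : F, IsNilpotent (Z - c • 1) := by
  induction s using Finset.induction with
  | empty =>
    intro Z hZ
    obtain ⟨c, rfl⟩ := eq_smul_one_of_off fun j => hZ.2 j (Finset.notMem_empty j)
    exact ⟨by rw [adj_smul, adj_one], c, by rw [sub_self]; exact IsNilpotent.zero⟩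
  | insert j s hj ih =>
    intro Z hZ
    obtain ⟨A, K, hA, hK, hZe⟩ := hZ.1 j (mem_insert_self j s)
    have eA : 𝕘.ct j (v j) (v' j) Z = A := by
      rw [hZe, ct_add, 𝕘.ct_of_off hA, 𝕘.ct_sl_mul hK, tau_mulVec, β_smul_right, (h j).vw, (h j).vv, mul_zero,
        zero_smul, add_zero, one_smul]
    have eK : 𝕘.ct j (v' j) (v' j) Z = K := by
      rw [hZe, ct_add, 𝕘.ct_of_off hA, 𝕘.ct_sl_mul hK, tau_mulVec, β_smul_right, (h j).ww, (h j).wv, (h j).vw,
        zero_smul, zero_add, mul_one, one_smul]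
    have hin : ∀ x y, InE 𝕘 v s (𝕘.ct j x y Z) := fun x y => by
      refine ⟨fun i hi => ?_, fun i hi => ?_⟩
      · have hij : i ≠ j := fun e => hj (e ▸ hi)
        obtain ⟨A', K', hA', hK', rfl⟩ := hZ.1 i (mem_insert_of_mem hi)
        exact ⟨_, _, 𝕘.ct_off_of_off hij hA' x y, 𝕘.ct_off_of_off hij hK' x y, by
          rw [ct_add, 𝕘.ct_off_mul (off_sl hij.symm _)]⟩
      · rcases eq_or_ne i j with rfl | hij
        · exact 𝕘.ct_off _ _ _ _
        · exact 𝕘.ct_off_of_off hij (hZ.2 i (by simp [hij, hi])) x y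
    have iA : InE 𝕘 v s A := eA ▸ hin _ _
    have iK : InE 𝕘 v s K := eK ▸ hin _ _
    obtain ⟨sA, c, hnA⟩ := ih A iA
    obtain ⟨sK, -⟩ := ih K iK
    have hcomm : Commute A K := by
      have h1 := (ih _ (InE.mul (fun i => (h i).vv) iA iK)).1
      rw [adj_mul, sA, sK] at h1
      exact h1.symm
    refine ⟨?_, c, ?_⟩
    · rw [hZe, adj_add, adj_mul, adj_sl, adjD_tau, sA, sK, ← hK]
    · rw [hZe, add_sub_right_comm]
      refine Commute.isNilpotent_add ?_ hnA ⟨2, ?_⟩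
      · refine (Commute.mul_right (hA _).symm hcomm).sub_left ?_
        exact (Commute.one_left _).smul_left c
      · rw [sq, mul_assoc, ← mul_assoc K, ← hK, mul_assoc (sl j _) K, ← mul_assoc (sl j _) (sl j _), sl_mul,
          tau_sq 𝕘 (h j).vv, sl_zero, zero_mul]

theorem adj_mul_pure [NeZero k] {S : Fin t → (Matrix (Fin k) (Fin k) F)ˣ} {c : Fin t → F}
    (hS : ∀ i, 𝕘.SimD (c i) (S i : Matrix (Fin k) (Fin k) F)) :
    𝕘.adj (pureMat fun i => (S i : Matrix (Fin k) (Fin k) F) : Mat F k t) *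
      pureMat (fun i => (S i : Matrix (Fin k) (Fin k) F)) = (∏ i, c i) • 1 := by
  refine 𝕘.isUnit_big.mul_left_cancel ?_
  rw [← mul_assoc, ← adj_spec, mul_smul_comm, mul_one, Aschbacher.pureMat_transpose, big,
    Aschbacher.pureMat_mul, Aschbacher.pureMat_mul, ← Aschbacher.pureMat_smul]
  congr 1
  funext i
  have e : 𝕘.adjD (S i : Matrix (Fin k) (Fin k) F) * (S i : Matrix (Fin k) (Fin k) F) = c i • 1 :=
    𝕘.mat_ext fun x y => by
      rw [← mulVec_mulVec, ← β_adjD, hS i, smul_mulVec, one_mulVec, β_smul_right]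
  have := congrArg (𝕘.G * ·) e
  simp only [adjD, ← mul_assoc, Matrix.mul_nonsing_inv _ 𝕘.det_G, one_mul, mul_smul_comm, mul_one] at this
  exact this

/-- Every slot line is carried to a slot line: the element is monomial. -/
theorem Over.bad [Finite F] [NeZero k] [NeZero t] {H : Subgroup (Mat F k t)ˣ} (hH : 𝕘.Over H) (hk : 3 ≤ k)
    (hno : 𝕘.NoRoot H) {x : (Mat F k t)ˣ} (hx : x ∈ H)
    (hm : ∀ j, ∃ (v : Fin k → F) (l : Fin t) (w : Fin k → F) (c : F),
      v ≠ 0 ∧ 𝕘.β v v = 0 ∧ Maps 𝕘 x j v l w c) : Mono (x : Mat F k t) := by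
  choose v l w c hv0 hvv hmap using hm
  choose v' h using fun j => 𝕘.exists_hyp (hv0 j) (hvv j)
  have hσ : Function.Injective l := by
    intro a b hab
    by_contra hne
    obtain ⟨hca, hwa0, hwa, ea⟩ := hmap a
    obtain ⟨hcb, hwb0, hwb, eb⟩ := hmap b
    set Ta : Mat F k t := sl a (𝕘.tau (v a) (v a))
    set Tb : Mat F k t := sl b (𝕘.tau (v b) (v b))
    set xi := ((x⁻¹ : (Mat F k t)ˣ) : Mat F k t)
    have hprod : ∀ P Q : Mat F k t, xi * (P * Q) * (x : Mat F k t) = xi * P * (x : Mat F k t) * (xi * Q * (x : Mat F k t)) :=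
      fun P Q => by
        simp only [xi, mul_assoc]
        rw [← mul_assoc (x : Mat F k t) ((x⁻¹ : (Mat F k t)ˣ) : Mat F k t), x.mul_inv, one_mul]
    have hne0 : xi * (Ta * Tb) * (x : Mat F k t) ≠ 0 := fun e0 => by
      have e1 : Ta * Tb = 0 := by
        have := congrArg (fun X => (x : Mat F k t) * X * xi) e0
        simp only [xi, mul_assoc, Units.mul_inv_cancel_left, x.mul_inv, mul_one, mul_zero, zero_mul] at this
        exact this
      have h2 := congrArg (𝕘.ct a (v' a) (v' a)) e1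
      rw [𝕘.ct_sl_mul (off_sl hne _), tau_mulVec, β_smul_right, (h a).vw, (h a).wv, mul_one, one_smul, ct_zero] at h2
      exact 𝕘.tau_ne_zero (hv0 b) (hv0 b) (sl_injective b (h2.trans (sl_zero b).symm))
    have hsym : xi * (Ta * Tb) * (x : Mat F k t) = xi * (Tb * Ta) * (x : Mat F k t) := by
      rw [sl_comm hne]
    rw [hprod, hprod, ea, eb, hab, smul_mul_smul_comm, smul_mul_smul_comm, mul_comm (c b), sl_mul, sl_mul,
      tau_mul_tau, tau_mul_tau, 𝕘.β_comm (w a) (w b)] at hsym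
    rw [hprod, ea, eb, hab, smul_mul_smul_comm, sl_mul, tau_mul_tau] at hne0
    have hs := sl_injective (l b) (smul_right_injective (Mat F k t) (mul_ne_zero hca hcb) hsym)
    have hβ : 𝕘.β (w a) (w b) ≠ 0 := fun e0 => hne0 (by rw [e0, zero_smul, sl_zero, smul_zero])
    have hs' := smul_right_injective (Matrix (Fin k) (Fin k) F) hβ hs
    have h3 := congrArg (fun X => X *ᵥ w a) hs'
    simp only [tau_mulVec, hwa, zero_smul, 𝕘.β_comm (w a) (w b)] at h3
    exact smul_ne_zero hβ hwa0 h3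
  let σ : Equiv.Perm (Fin t) := Equiv.ofBijective l (Finite.injective_iff_bijective.1 hσ)
  have hσv : ∀ j, σ j = l j := fun _ => rfl
  choose S hS _hSv hconj using fun j => (hmap j).exists_sim hH hk hno hx (h j)
  let A : Fin t → (Matrix (Fin k) (Fin k) F)ˣ := fun i => S (σ.symm i)
  set κ : (Mat F k t)ˣ := pureGL A * factorPermGL σ with hκdef
  have hκ : ∀ j X, (κ : Mat F k t) * sl j X * ((κ⁻¹ : (Mat F k t)ˣ) : Mat F k t) =
      sl (l j) ((S j : Matrix (Fin k) (Fin k) F) * X *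
        ((S j)⁻¹ : (Matrix (Fin k) (Fin k) F)ˣ).val) := fun j X => by
    have := sl_conj_mono A σ j X
    simp only [A, Equiv.symm_apply_apply] at this
    exact this
  set δ := x * κ with hδ
  have hcomm : ∀ j, 𝕘.CommN j (v j) (v' j) (δ : Mat F k t) := fun j z hz => by
    have e1 := (Units.mul_inv_eq_iff_eq_mul _).1 ((hκ j (𝕘.N (v j) z)).trans (hconj j z hz).symm)
    rw [hδ, Units.val_mul, mul_assoc (x : Mat F k t), e1]
    simp only [mul_assoc, Units.mul_inv_cancel_left]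
  have hnorm : ∀ j, ∀ P ∈ 𝕘.Om, δ * slU j P * δ⁻¹ ∈ H := fun j P hP => by
    have e : δ * slU j P * δ⁻¹ = x * slU (l j) (S j * P * (S j)⁻¹) * x⁻¹ := by
      rw [hδ, show slU (l j) (S j * P * (S j)⁻¹) = κ * slU j P * κ⁻¹ from
        Units.ext (by simp only [Units.val_mul, slU_val, hκ])]
      group
    rw [e]
    exact H.mul_mem (H.mul_mem hx (hH.om _ _ ((hS j).conj_mem (hmap j).1 hP))) (H.inv_mem hx)
  -- dividing by Siegel elements of the slots
  have hstep : ∀ s : Finset (Fin t), ∃ u ∈ H, Mono (u : Mat F k t) ∧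
      (∀ j, 𝕘.CommN j (v j) (v' j) ((u * δ : (Mat F k t)ˣ) : Mat F k t)) ∧
      ∀ j ∈ s, ∀ z, 𝕘.InU (v j) (v' j) z → 𝕘.ct j z (v' j) ((u * δ : (Mat F k t)ˣ) : Mat F k t) = 0 := by
    intro s
    induction s using Finset.induction with
    | empty => exact ⟨1, H.one_mem, mono_one, by simpa using hcomm, fun j hj => absurd hj (Finset.notMem_empty j)⟩
    | insert i s hi ih =>
      obtain ⟨u, hu, hum, huc, hus⟩ := ih
      have hn : ∀ P ∈ 𝕘.Om, (u * δ) * slU i P * (u * δ)⁻¹ * (slU i P)⁻¹ ∈ H := fun P hP => by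
        refine H.mul_mem ?_ (H.inv_mem (hH.om i P hP))
        rw [show (u * δ) * slU i P * (u * δ)⁻¹ = u * (δ * slU i P * δ⁻¹) * u⁻¹ by group]
        exact H.mul_mem (H.mul_mem hu (hnorm i P hP)) (H.inv_mem hu)
      obtain ⟨b, hb, hbe⟩ := CommN.prop hH hk hno (h i) (huc i) hn
      set E := slU (t := t) i (𝕘.ueU (h i).vv hb.1)
      refine ⟨E * u, H.mul_mem (hH.om i _ (𝕘.ueU_mem (hH.big hk) (h i).vv hb.1)) hu, ?_, fun j => ?_, fun j hj z hz => ?_⟩
      · rw [Units.val_mul]; exact (mono_slU _ _).mul hum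
      · rw [mul_assoc, Units.val_mul]
        refine CommN.mul ?_ (huc j)
        rcases eq_or_ne j i with rfl | hji
        · intro z hz
          rw [slU_val, ueU_val, sl_mul, sl_mul, ue]
          congr 1
          rw [mul_sub, sub_mul, mul_add, add_mul, mul_one, one_mul, N_mul_N 𝕘 (h j).vv hz.1 hb.1,
            N_mul_N 𝕘 (h j).vv hb.1 hz.1, 𝕘.β_comm b z, mul_smul_comm, smul_mul_assoc,
            N_mul_tau 𝕘 (h j).vv hz.1, tau_mul_N 𝕘 (h j).vv hz.1]
        · exact CommN.of_off (off_sl hji _)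
      · rw [mul_assoc, Units.val_mul, slU_val, ueU_val]
        rcases eq_or_ne j i with rfl | hji
        · have e2 := adjD_unit (P := 𝕘.ueU (h j).vv hb.1) (𝕘.ue_iso (h j).vv hb.1)
          rw [ueU_val, ueU_inv] at e2
          rw [ct_sl_left, e2, ue_mulVec, hz.1, zero_smul, mul_zero, zero_smul, sub_zero, sub_zero, β_neg_left,
            ct_add_left, ct_smul_left, hbe z hz, neg_smul, add_neg_cancel]
        · rw [𝕘.ct_off_mul (off_sl hji _), hus j ((mem_insert.1 hj).resolve_left hji) z hz, mul_zero]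
  obtain ⟨u, hu, hum, huc, hus⟩ := hstep univ
  set d := u * δ with hd
  have hE : InE 𝕘 v univ (d : Mat F k t) :=
    ⟨fun j _ => ⟨_, _, 𝕘.ct_off _ _ _ _, 𝕘.ct_off _ _ _ _, (huc j).decomp (h j) hk (hus j (mem_univ j))⟩,
      fun j hj => absurd (mem_univ j) hj⟩
  obtain ⟨hadj, e, hnil⟩ := InE.scalar_add_nil h univ _ hE
  have hSA : ∀ i, 𝕘.SimD (c (σ.symm i)) (A i : Matrix (Fin k) (Fin k) F) := fun i => hS _
  set C := ∏ i, c (σ.symm i)
  have hCd : (d : Mat F k t) * (d : Mat F k t) = C • 1 := by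
    nth_rw 1 [← hadj]
    rw [hd, hδ, hκdef]
    simp only [Units.val_mul, adj_mul]
    rw [show 𝕘.adj (u : Mat F k t) = _ from 𝕘.adj_inv (hH.iso u hu),
      show 𝕘.adj (x : Mat F k t) = _ from 𝕘.adj_inv (hH.iso x hx)]
    simp only [mul_assoc, Units.inv_mul_cancel_left]
    rw [show ((pureGL A : (Mat F k t)ˣ) : Mat F k t) = pureMat fun i => (A i : Matrix (Fin k) (Fin k) F) from rfl,
      show ((factorPermGL σ : (Mat F k t)ˣ) : Mat F k t) = factorPerm σ from rfl,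
      ← mul_assoc (𝕘.adj (pureMat _)), adj_mul_pure hSA, smul_mul_assoc, one_mul, mul_smul_comm,
      (𝕘.iso_iff).1 (𝕘.iso_factorPerm σ)]
  -- a scalar plus a nilpotent with scalar square
  set n := (d : Mat F k t) - e • 1 with hn
  have hde : (d : Mat F k t) = e • 1 + n := by rw [hn, add_sub_cancel]
  have he : e ≠ 0 := fun e0 => by
    obtain ⟨m, hm⟩ := hnil
    rw [hn, e0, zero_smul, sub_zero] at hm
    have hu' := d.isUnit.pow m
    rw [hm] at hu'
    exact not_isUnit_zero hu'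
  have hsq : n * n + (2 * e) • n = (C - e * e) • 1 := by
    have := hCd
    rw [hde] at this
    simp only [add_mul, mul_add, smul_mul_assoc, mul_smul_comm, one_mul, mul_one] at this
    linear_combination (norm := module) this
  have hC : C - e * e = 0 := by
    by_contra hne
    have hu1 : IsUnit ((C - e * e) • (1 : Mat F k t)) := by
      rw [← Algebra.algebraMap_eq_smul_one]; exact (isUnit_iff_ne_zero.2 hne).map _
    rw [← hsq] at hu1
    have hnil' : IsNilpotent (n * n + (2 * e) • n) := by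
      rw [show n * n + (2 * e) • n = n * (n + (2 * e) • 1) by rw [mul_add, mul_smul_comm, mul_one]]
      exact Commute.isNilpotent_mul_right ((Commute.refl n).add_right ((Commute.one_right n).smul_right _)) hnil
    obtain ⟨m, hm⟩ := hnil'
    have := hu1.pow m
    rw [hm] at this
    exact not_isUnit_zero this
  have hn0 : n = 0 := by
    rw [hC, zero_smul] at hsq
    have hu2 : IsUnit ((2 * e) • (1 : Mat F k t)) := by
      rw [← Algebra.algebraMap_eq_smul_one]; exact (isUnit_iff_ne_zero.2 (mul_ne_zero 𝕘.two he)).map _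
    have hu3 := IsNilpotent.isUnit_add_right_of_commute hnil hu2 ((Commute.one_right n).smul_right _)
    refine hu3.mul_right_eq_zero.1 ?_
    rw [add_mul, smul_mul_assoc, one_mul, hsq]
  have hx' : (x : Mat F k t) =
      ((u⁻¹ : (Mat F k t)ˣ) : Mat F k t) * (d : Mat F k t) * ((κ⁻¹ : (Mat F k t)ˣ) : Mat F k t) := by
    rw [← Units.val_mul, ← Units.val_mul]
    congr 1
    rw [hd, hδ]; group
  rw [hx']
  refine (hum.inv.mul ?_).mul (Mono.inv ⟨A, σ, rfl⟩)
  rw [hde, hn0, add_zero]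
  exact mono_one.smul he

end Gram

end Cfsg.Agent.H24.OWr
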