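import Cfsg.Agent.H24.OWr.Geom

/-!
Matrices of the tensor power of a space with a symmetric form: contractions, adjoints, isometries and the groups
over the stabiliser of the decomposition.
-/

set_option autoImplicit false

namespace Cfsg.Agent.H24.OWr

open Matrix Finset
open Cfsg.Agent.Aschbacher (pureMat pureVec slotMat factorPerm)
open Cfsg.Agent.H24.Wreath (Mat sl Off off_one off_sl sl_mul sl_comm sl_one sl_add sl_smul sl_zero sl_neg sl_sub
  sl_mul_apply mul_sl_apply sl_injective sl_mulVec sl_transpose eq_sl_of_off eq_smul_one_of_off)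

variable {F : Type*} [Field F] {k t : ℕ}

namespace Gram

variable (𝕘 : Gram F k)

/-- The contraction of the slot `i` of `Z` against `x` and `y`. -/
def ct (i : Fin t) (x y : Fin k → F) (Z : Mat F k t) : Mat F k t :=
  Matrix.of fun a c => if a i = c i then
    ∑ p, ∑ q, x p * ((sl i 𝕘.G * Z) (Function.update a i p) (Function.update c i q) * y q) else 0

theorem ct_apply (i : Fin t) (x y : Fin k → F) (Z : Mat F k t) (a c : Fin t → Fin k) :
    𝕘.ct i x y Z a c = if a i = c i then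
      ∑ p, ∑ q, x p * ((sl i 𝕘.G * Z) (Function.update a i p) (Function.update c i q) * y q) else 0 := rfl

theorem ct_off (i : Fin t) (x y : Fin k → F) (Z : Mat F k t) : Off i (𝕘.ct i x y Z) := fun X => by
  classical
  ext a c
  rw [sl_mul_apply, mul_sl_apply, Finset.sum_eq_single (c i), Finset.sum_eq_single (a i)]
  · rw [ct_apply, ct_apply, if_pos (by rw [Function.update_self]), if_pos (by rw [Function.update_self])]
    simp only [Function.update_idem]
    ring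
  · intro q _ hq
    rw [ct_apply, if_neg (by rw [Function.update_self]; exact Ne.symm hq), zero_mul]
  · exact fun h => absurd (mem_univ _) h
  · intro p _ hp
    rw [ct_apply, if_neg (by rw [Function.update_self]; exact hp), mul_zero]
  · exact fun h => absurd (mem_univ _) h

/-- Sandwiching by rank one maps in one slot. -/
theorem tau_sandwich (i : Fin t) (x w z y : Fin k → F) (Z : Mat F k t) :
    sl i (𝕘.tau x w) * Z * sl i (𝕘.tau z y) = sl i (𝕘.tau x y) * 𝕘.ct i w z Z := by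
  classical
  ext a c
  have hR : (sl i (𝕘.tau x y) * 𝕘.ct i w z Z) a c =
      𝕘.tau x y (a i) (c i) * 𝕘.ct i w z Z (Function.update a i (c i)) c := by
    rw [sl_mul_apply, Finset.sum_eq_single (c i)]
    · intro p _ hp
      rw [ct_apply, if_neg (by rw [Function.update_self]; exact hp), mul_zero]
    · exact fun h => absurd (mem_univ _) h
  rw [hR, mul_sl_apply, ct_apply, if_pos (by rw [Function.update_self])]
  simp only [sl_mul_apply, Function.update_idem, Function.update_self, Gram.tau, vecMulVec_apply]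
  rw [Finset.mul_sum]
  conv_rhs => enter [2, p]; rw [Finset.mul_sum]
  rw [Finset.sum_comm (γ := Fin k) (t := univ) (f := fun p q => x (a i) * (y ᵥ* 𝕘.G) (c i) *
    (w p * ((∑ r, 𝕘.G p r * Z (Function.update a i r) (Function.update c i q)) * z q)))]
  refine Finset.sum_congr rfl fun q _ => ?_
  have hw : ∀ r, (w ᵥ* 𝕘.G) r = ∑ p, w p * 𝕘.G p r := fun r => rfl
  simp only [hw, Finset.mul_sum, Finset.sum_mul]
  rw [Finset.sum_comm]
  exact Finset.sum_congr rfl fun p _ => Finset.sum_congr rfl fun r _ => by ring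

theorem ct_add_left (i : Fin t) (x x' y : Fin k → F) (Z : Mat F k t) :
    𝕘.ct i (x + x') y Z = 𝕘.ct i x y Z + 𝕘.ct i x' y Z := by
  ext a c
  simp only [Matrix.add_apply, ct_apply, Pi.add_apply]
  split_ifs
  · simp only [add_mul, Finset.sum_add_distrib]
  · rw [add_zero]

theorem ct_add_right (i : Fin t) (x y y' : Fin k → F) (Z : Mat F k t) :
    𝕘.ct i x (y + y') Z = 𝕘.ct i x y Z + 𝕘.ct i x y' Z := by
  ext a c
  simp only [Matrix.add_apply, ct_apply, Pi.add_apply]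
  split_ifs
  · simp only [mul_add, Finset.sum_add_distrib]
  · rw [add_zero]

theorem ct_smul_left (i : Fin t) (r : F) (x y : Fin k → F) (Z : Mat F k t) :
    𝕘.ct i (r • x) y Z = r • 𝕘.ct i x y Z := by
  ext a c
  simp only [Matrix.smul_apply, ct_apply, Pi.smul_apply, smul_eq_mul]
  split_ifs
  · simp only [Finset.mul_sum, mul_assoc]
  · rw [mul_zero]

theorem ct_smul_right (i : Fin t) (r : F) (x y : Fin k → F) (Z : Mat F k t) :
    𝕘.ct i x (r • y) Z = r • 𝕘.ct i x y Z := by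
  ext a c
  simp only [Matrix.smul_apply, ct_apply, Pi.smul_apply, smul_eq_mul]
  split_ifs
  · simp only [Finset.mul_sum]
    exact Finset.sum_congr rfl fun p _ => Finset.sum_congr rfl fun q _ => by ring
  · rw [mul_zero]

theorem ct_add (i : Fin t) (x y : Fin k → F) (Z W : Mat F k t) :
    𝕘.ct i x y (Z + W) = 𝕘.ct i x y Z + 𝕘.ct i x y W := by
  ext a c
  simp only [Matrix.add_apply, ct_apply, mul_add]
  split_ifs
  · simp only [add_mul, mul_add, Finset.sum_add_distrib]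
  · rw [add_zero]

theorem ct_smul (i : Fin t) (r : F) (x y : Fin k → F) (Z : Mat F k t) :
    𝕘.ct i x y (r • Z) = r • 𝕘.ct i x y Z := by
  ext a c
  simp only [Matrix.smul_apply, ct_apply, mul_smul_comm, smul_eq_mul]
  split_ifs
  · simp only [Finset.mul_sum]
    exact Finset.sum_congr rfl fun p _ => Finset.sum_congr rfl fun q _ => by ring
  · rw [mul_zero]

theorem ct_zero (i : Fin t) (x y : Fin k → F) : 𝕘.ct i x y (0 : Mat F k t) = 0 := by
  rw [← zero_smul F (0 : Mat F k t), ct_smul, zero_smul, zero_smul]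

theorem ct_zero_left (i : Fin t) (y : Fin k → F) (Z : Mat F k t) : 𝕘.ct i 0 y Z = 0 := by
  rw [← zero_smul F (0 : Fin k → F), ct_smul_left, zero_smul]

theorem ct_zero_right (i : Fin t) (x : Fin k → F) (Z : Mat F k t) : 𝕘.ct i x 0 Z = 0 := by
  rw [← zero_smul F (0 : Fin k → F), ct_smul_right, zero_smul]

theorem ct_neg (i : Fin t) (x y : Fin k → F) (Z : Mat F k t) : 𝕘.ct i x y (-Z) = -𝕘.ct i x y Z := by
  rw [← neg_one_smul F Z, ct_smul, neg_one_smul]

theorem ct_sub (i : Fin t) (x y : Fin k → F) (Z W : Mat F k t) :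
    𝕘.ct i x y (Z - W) = 𝕘.ct i x y Z - 𝕘.ct i x y W := by
  rw [sub_eq_add_neg, ct_add, ct_neg, sub_eq_add_neg]

theorem ct_sum {α : Type*} (s : Finset α) (i : Fin t) (x y : Fin k → F) (Z : α → Mat F k t) :
    𝕘.ct i x y (∑ l ∈ s, Z l) = ∑ l ∈ s, 𝕘.ct i x y (Z l) := by
  classical
  induction s using Finset.induction with
  | empty => rw [Finset.sum_empty, Finset.sum_empty, ct_zero]
  | insert l s hl ih => rw [Finset.sum_insert hl, Finset.sum_insert hl, ct_add, ih]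

/-- A factor off the slot passes through a contraction. -/
theorem ct_off_mul {i : Fin t} {M : Mat F k t} (hM : Off i M) (x y : Fin k → F) (Z : Mat F k t) :
    𝕘.ct i x y (M * Z) = M * 𝕘.ct i x y Z := by
  rcases eq_or_ne x 0 with rfl | hx
  · rw [ct_zero_left, ct_zero_left, mul_zero]
  refine (𝕘.ct_off i x y _).cancel (hM.mul (𝕘.ct_off i x y Z)) (𝕘.tau_ne_zero hx hx) ?_
  rw [← tau_sandwich, ← mul_assoc _ M, hM, mul_assoc M _ Z, mul_assoc M, ← mul_assoc _ M, hM, mul_assoc M,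
    ← tau_sandwich]

theorem ct_mul_off {i : Fin t} {M : Mat F k t} (hM : Off i M) (x y : Fin k → F) (Z : Mat F k t) :
    𝕘.ct i x y (Z * M) = 𝕘.ct i x y Z * M := by
  rcases eq_or_ne x 0 with rfl | hx
  · rw [ct_zero_left, ct_zero_left, zero_mul]
  refine (𝕘.ct_off i x y _).cancel ((𝕘.ct_off i x y Z).mul hM) (𝕘.tau_ne_zero hx hx) ?_
  rw [← tau_sandwich, ← mul_assoc _ (𝕘.ct i x y Z), ← tau_sandwich]
  simp only [mul_assoc]
  rw [← hM (𝕘.tau y x)]

/-- The contraction of a product of a slot and a factor off it. -/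
theorem ct_sl_mul {i : Fin t} {M : Mat F k t} (hM : Off i M) (x y : Fin k → F) (X : Matrix (Fin k) (Fin k) F) :
    𝕘.ct i x y (sl i X * M) = 𝕘.β x (X *ᵥ y) • M := by
  rcases eq_or_ne x 0 with rfl | hx
  · rw [ct_zero_left, β_zero_left, zero_smul]
  refine (𝕘.ct_off i x y _).cancel (hM.smul _) (𝕘.tau_ne_zero hx hx) ?_
  rw [← tau_sandwich, ← mul_assoc, sl_mul, mul_assoc, ← hM, ← mul_assoc, sl_mul, tau_mul_mul_tau, sl_smul,
    smul_mul_assoc, mul_smul_comm]

theorem ct_of_off {i : Fin t} {M : Mat F k t} (hM : Off i M) (x y : Fin k → F) :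
    𝕘.ct i x y M = 𝕘.β x y • M := by
  have := 𝕘.ct_sl_mul hM x y 1
  rwa [sl_one, one_mul, one_mulVec] at this

theorem ct_sl (i : Fin t) (x y : Fin k → F) (X : Matrix (Fin k) (Fin k) F) :
    𝕘.ct i x y (sl i X : Mat F k t) = 𝕘.β x (X *ᵥ y) • (1 : Mat F k t) := by
  have := 𝕘.ct_sl_mul (off_one i) x y X
  rwa [mul_one] at this

theorem ct_single (i : Fin t) (Z : Mat F k t) (p q z : Fin k) (a c : Fin t → Fin k) :
    𝕘.ct i (Pi.single p 1) (Pi.single q 1) Z (Function.update a i z) (Function.update c i z) =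
      (sl i 𝕘.G * Z) (Function.update a i p) (Function.update c i q) := by
  classical
  rw [ct_apply, if_pos (by rw [Function.update_self, Function.update_self]), Finset.sum_eq_single p,
    Finset.sum_eq_single q]
  · simp [Function.update_idem]
  · intro r _ hr; simp [hr]
  · exact fun h => absurd (mem_univ _) h
  · intro r _ hr; simp [hr]
  · exact fun h => absurd (mem_univ _) h

theorem ext_ct (i : Fin t) {Z W : Mat F k t} (h : ∀ x y, 𝕘.ct i x y Z = 𝕘.ct i x y W) : Z = W := by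
  have h1 : sl i 𝕘.G * Z = sl i 𝕘.G * W := by
    ext a c
    have h2 := congrFun (congrFun (h (Pi.single (a i) 1) (Pi.single (c i) 1)) (Function.update a i (a i)))
      (Function.update c i (a i))
    rw [ct_single, ct_single, Function.update_eq_self, Function.update_eq_self] at h2
    exact h2
  have hu : IsUnit (sl i 𝕘.G : Mat F k t) := by
    refine Aschbacher.isUnit_pureMat fun j => ?_
    rcases eq_or_ne j i with rfl | hj
    · rw [Function.update_self]; exact 𝕘.unit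
    · rw [Function.update_of_ne hj]; exact isUnit_one
  exact hu.mul_left_cancel h1

/-- The Gram matrix of the tensor power. -/
def big (t : ℕ) : Mat F k t := pureMat fun _ => 𝕘.G

theorem isUnit_big : IsUnit (𝕘.big t) := Aschbacher.isUnit_pureMat fun _ => 𝕘.unit

theorem big_symm : (𝕘.big t)ᵀ = 𝕘.big t := by
  ext a c
  simp only [big, pureMat, transpose_apply, Matrix.of_apply]
  exact Finset.prod_congr rfl fun i _ => congrFun (congrFun 𝕘.symm (a i)) (c i)

theorem det_big : IsUnit (𝕘.big t).det := (Matrix.isUnit_iff_isUnit_det _).1 𝕘.isUnit_big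

theorem det_G : IsUnit 𝕘.G.det := (Matrix.isUnit_iff_isUnit_det _).1 𝕘.unit

/-- The adjoint on the small space. -/
noncomputable def adjD (X : Matrix (Fin k) (Fin k) F) : Matrix (Fin k) (Fin k) F := 𝕘.G⁻¹ * Xᵀ * 𝕘.G

theorem β_adjD (X : Matrix (Fin k) (Fin k) F) (x y : Fin k → F) :
    𝕘.β (X *ᵥ x) y = 𝕘.β x (𝕘.adjD X *ᵥ y) := by
  rw [β, β, ← vecMul_transpose, ← dotProduct_mulVec, mulVec_mulVec, mulVec_mulVec]
  congr 2
  rw [adjD, ← mul_assoc, ← mul_assoc, Matrix.mul_nonsing_inv _ 𝕘.det_G, one_mul]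

theorem adjD_eq {X Y : Matrix (Fin k) (Fin k) F} (h : ∀ x y, 𝕘.β (X *ᵥ x) y = 𝕘.β x (Y *ᵥ y)) : 𝕘.adjD X = Y :=
  𝕘.mat_ext fun x y => by rw [← β_adjD, h]

theorem adjD_N (v z : Fin k → F) : 𝕘.adjD (𝕘.N v z) = -𝕘.N v z :=
  𝕘.adjD_eq fun x y => by rw [N_skew, neg_mulVec, β_neg_right]

theorem adjD_tau (x y : Fin k → F) : 𝕘.adjD (𝕘.tau x y) = 𝕘.tau y x :=
  𝕘.adjD_eq fun a b => by
    rw [tau_mulVec, tau_mulVec, β_smul_left, β_smul_right, 𝕘.β_comm a y]; ring

theorem adjD_one : 𝕘.adjD (1 : Matrix (Fin k) (Fin k) F) = 1 := 𝕘.adjD_eq fun x y => by simp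

theorem adjD_mul_of_iso {P : Matrix (Fin k) (Fin k) F} (hP : 𝕘.IsoD P) : 𝕘.adjD P * P = 1 :=
  𝕘.mat_ext fun x y => by rw [← mulVec_mulVec, ← β_adjD, hP, one_mulVec]

/-- The adjoint on the tensor power. -/
noncomputable def adj (Z : Mat F k t) : Mat F k t := (𝕘.big t)⁻¹ * Zᵀ * 𝕘.big t

theorem adj_spec (Z : Mat F k t) : Zᵀ * 𝕘.big t = 𝕘.big t * 𝕘.adj Z := by
  rw [adj, ← mul_assoc, ← mul_assoc, Matrix.mul_nonsing_inv _ 𝕘.det_big, one_mul]

theorem adj_eq {Z W : Mat F k t} (h : Zᵀ * 𝕘.big t = 𝕘.big t * W) : 𝕘.adj Z = W :=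
  𝕘.isUnit_big.mul_left_cancel (by rw [← adj_spec, h])

theorem adj_mul (Z W : Mat F k t) : 𝕘.adj (Z * W) = 𝕘.adj W * 𝕘.adj Z :=
  𝕘.adj_eq (by rw [transpose_mul, mul_assoc, adj_spec, ← mul_assoc, adj_spec, mul_assoc])

theorem adj_add (Z W : Mat F k t) : 𝕘.adj (Z + W) = 𝕘.adj Z + 𝕘.adj W :=
  𝕘.adj_eq (by rw [transpose_add, add_mul, adj_spec, adj_spec, mul_add])

theorem adj_smul (c : F) (Z : Mat F k t) : 𝕘.adj (c • Z) = c • 𝕘.adj Z :=
  𝕘.adj_eq (by rw [transpose_smul, smul_mul_assoc, adj_spec, mul_smul_comm])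

theorem adj_neg (Z : Mat F k t) : 𝕘.adj (-Z) = -𝕘.adj Z := by
  rw [← neg_one_smul F, adj_smul, neg_one_smul]

theorem adj_sub (Z W : Mat F k t) : 𝕘.adj (Z - W) = 𝕘.adj Z - 𝕘.adj W := by
  rw [sub_eq_add_neg, adj_add, adj_neg, sub_eq_add_neg]

theorem adj_one : 𝕘.adj (1 : Mat F k t) = 1 := 𝕘.adj_eq (by rw [transpose_one, one_mul, mul_one])

theorem adj_zero : 𝕘.adj (0 : Mat F k t) = 0 := 𝕘.adj_eq (by rw [transpose_zero, zero_mul, mul_zero])

theorem adj_adj (Z : Mat F k t) : 𝕘.adj (𝕘.adj Z) = Z :=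
  𝕘.adj_eq (by
    have h := congrArg Matrix.transpose (𝕘.adj_spec Z)
    rw [transpose_mul, transpose_mul, transpose_transpose, 𝕘.big_symm] at h
    exact h.symm)

theorem adj_sum {α : Type*} (s : Finset α) (Z : α → Mat F k t) : 𝕘.adj (∑ a ∈ s, Z a) = ∑ a ∈ s, 𝕘.adj (Z a) := by
  classical
  induction s using Finset.induction with
  | empty => rw [Finset.sum_empty, Finset.sum_empty, adj_zero]
  | insert l s hl ih => rw [Finset.sum_insert hl, Finset.sum_insert hl, adj_add, ih]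

theorem sl_G_comm (i : Fin t) (X : Matrix (Fin k) (Fin k) F) :
    𝕘.big t * sl i X = pureMat (Function.update (fun _ => 𝕘.G) i (𝕘.G * X)) := by
  rw [sl, slotMat, big, Aschbacher.pureMat_mul]
  congr 1
  funext j
  rcases eq_or_ne j i with rfl | hj
  · simp
  · simp [Function.update_of_ne hj]

theorem sl_G_comm' (i : Fin t) (X : Matrix (Fin k) (Fin k) F) :
    sl i X * 𝕘.big t = pureMat (Function.update (fun _ => 𝕘.G) i (X * 𝕘.G)) := by
  rw [sl, slotMat, big, Aschbacher.pureMat_mul]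
  congr 1
  funext j
  rcases eq_or_ne j i with rfl | hj
  · simp
  · simp [Function.update_of_ne hj]

theorem adj_sl (i : Fin t) (X : Matrix (Fin k) (Fin k) F) : 𝕘.adj (sl i X : Mat F k t) = sl i (𝕘.adjD X) :=
  𝕘.adj_eq (by
    rw [sl_transpose, sl_G_comm', sl_G_comm, adjD, ← mul_assoc, ← mul_assoc,
      Matrix.mul_nonsing_inv _ 𝕘.det_G, one_mul])

theorem adj_off {i : Fin t} {M : Mat F k t} (h : Off i M) : Off i (𝕘.adj M) := fun X => by
  have h1 := congrArg 𝕘.adj (h (𝕘.G⁻¹ * Xᵀ * 𝕘.G))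
  have hX : 𝕘.adjD (𝕘.G⁻¹ * Xᵀ * 𝕘.G) = X := 𝕘.adjD_eq fun x y => by
    rw [𝕘.β_comm _ (_ *ᵥ x), 𝕘.β_comm _ x]
    exact (𝕘.β_adjD X y x).symm
  rw [adj_mul, adj_mul, adj_sl, hX] at h1
  exact h1.symm

/-- A slot acts on the first argument of a contraction through its adjoint. -/
theorem ct_sl_left [NeZero k] (i : Fin t) (X : Matrix (Fin k) (Fin k) F) (x y : Fin k → F) (Z : Mat F k t) :
    𝕘.ct i x y (sl i X * Z) = 𝕘.ct i (𝕘.adjD X *ᵥ x) y Z := by
  obtain ⟨a, ha⟩ : ∃ a : Fin k → F, a ≠ 0 := ⟨fun _ => 1, fun h => one_ne_zero (congrFun h 0)⟩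
  refine (𝕘.ct_off i x y _).cancel (𝕘.ct_off i _ y Z) (𝕘.tau_ne_zero ha ha) ?_
  rw [← tau_sandwich, ← tau_sandwich, ← mul_assoc, sl_mul]
  congr 3
  refine Matrix.ext_iff_mulVec.2 fun z => ?_
  rw [← mulVec_mulVec, tau_mulVec, tau_mulVec, 𝕘.β_comm (X *ᵥ z) x, 𝕘.β_adjD, 𝕘.β_comm]

/-- A slot acts on the second argument of a contraction. -/
theorem ct_sl_right [NeZero k] (i : Fin t) (X : Matrix (Fin k) (Fin k) F) (x y : Fin k → F) (Z : Mat F k t) :
    𝕘.ct i x y (Z * sl i X) = 𝕘.ct i x (X *ᵥ y) Z := by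
  obtain ⟨a, ha⟩ : ∃ a : Fin k → F, a ≠ 0 := ⟨fun _ => 1, fun h => one_ne_zero (congrFun h 0)⟩
  refine (𝕘.ct_off i x y _).cancel (𝕘.ct_off i x _ Z) (𝕘.tau_ne_zero ha ha) ?_
  rw [← tau_sandwich, ← tau_sandwich, mul_assoc, mul_assoc, sl_mul, mul_tau, ← mul_assoc]

theorem adj_ct [NeZero k] (i : Fin t) (x y : Fin k → F) (Z : Mat F k t) :
    𝕘.adj (𝕘.ct i x y Z) = 𝕘.ct i y x (𝕘.adj Z) := by
  obtain ⟨a, ha⟩ : ∃ a : Fin k → F, a ≠ 0 := ⟨fun _ => 1, fun h => one_ne_zero (congrFun h 0)⟩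
  refine (𝕘.adj_off (𝕘.ct_off i x y Z)).cancel (𝕘.ct_off i _ _ _) (𝕘.tau_ne_zero ha ha) ?_
  have h1 := congrArg 𝕘.adj (𝕘.tau_sandwich i a x y a Z)
  rw [adj_mul, adj_mul, adj_mul, adj_sl, adj_sl, adj_sl, adjD_tau, adjD_tau, adjD_tau, ← mul_assoc,
    tau_sandwich, ← (𝕘.adj_off (𝕘.ct_off i x y Z))] at h1
  exact h1.symm

/-! ### Isometries -/

/-- The matrix preserves the product form. -/
def Iso (g : Mat F k t) : Prop := gᵀ * 𝕘.big t * g = 𝕘.big t

theorem iso_iff {g : Mat F k t} : 𝕘.Iso g ↔ 𝕘.adj g * g = 1 := by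
  rw [Iso, adj_spec, mul_assoc]
  exact ⟨fun h => 𝕘.isUnit_big.mul_left_cancel (by rw [h, mul_one]), fun h => by rw [h, mul_one]⟩

theorem iso_sl {i : Fin t} {P : Matrix (Fin k) (Fin k) F} (hP : 𝕘.IsoD P) : 𝕘.Iso (sl i P : Mat F k t) := by
  rw [iso_iff, adj_sl, sl_mul, adjD_mul_of_iso 𝕘 hP, sl_one]

theorem factorPerm_transpose (π : Equiv.Perm (Fin t)) :
    (factorPerm π : Mat F k t)ᵀ = factorPerm π.symm := by
  ext a c
  simp only [transpose_apply, factorPerm, Matrix.of_apply]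
  refine if_congr ⟨fun h => ?_, fun h => ?_⟩ rfl rfl
  · rw [h]; funext j; simp
  · rw [h]; funext j; simp

theorem adj_factorPerm (π : Equiv.Perm (Fin t)) : 𝕘.adj (factorPerm π : Mat F k t) = factorPerm π.symm :=
  𝕘.adj_eq (by
    rw [factorPerm_transpose, big]
    have h := Aschbacher.factorPerm_conj (m := k) (F := F) π.symm (fun _ => 𝕘.G)
    exact h)

theorem iso_factorPerm (π : Equiv.Perm (Fin t)) : 𝕘.Iso (factorPerm π : Mat F k t) := by
  rw [iso_iff, adj_factorPerm]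
  have h := Aschbacher.factorPerm_mul_factorPerm (m := k) (F := F) π.symm
  rwa [Equiv.symm_symm] at h

theorem adj_inv {g : (Mat F k t)ˣ} (hg : 𝕘.Iso (g : Mat F k t)) :
    𝕘.adj (g : Mat F k t) = ((g⁻¹ : (Mat F k t)ˣ) : Mat F k t) :=
  (Units.inv_eq_of_mul_eq_one_left ((𝕘.iso_iff).1 hg)).symm

theorem adj_conj {g : (Mat F k t)ˣ} (hg : 𝕘.Iso (g : Mat F k t)) (Z : Mat F k t) :
    𝕘.adj ((g : Mat F k t) * Z * ((g⁻¹ : (Mat F k t)ˣ) : Mat F k t)) =
      (g : Mat F k t) * 𝕘.adj Z * ((g⁻¹ : (Mat F k t)ˣ) : Mat F k t) := by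
  rw [adj_mul, adj_mul, 𝕘.adj_inv hg, ← 𝕘.adj_inv hg, adj_adj, 𝕘.adj_inv hg, mul_assoc]

/-! ### Groups over the stabiliser -/

/-- A slot as a homomorphism. -/
def slHom (i : Fin t) : Matrix (Fin k) (Fin k) F →* Mat F k t where
  toFun := sl i
  map_one' := sl_one i
  map_mul' X Y := (sl_mul i X Y).symm

/-- A slot of units. -/
def slU (i : Fin t) : (Matrix (Fin k) (Fin k) F)ˣ →* (Mat F k t)ˣ := Units.map (slHom i)

@[simp] theorem slU_val (i : Fin t) (P : (Matrix (Fin k) (Fin k) F)ˣ) :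
    (slU i P : Mat F k t) = sl i (P : Matrix (Fin k) (Fin k) F) := rfl

theorem slU_inv (i : Fin t) (P : (Matrix (Fin k) (Fin k) F)ˣ) :
    (((slU i P)⁻¹ : (Mat F k t)ˣ) : Mat F k t) = sl i ((P⁻¹ : (Matrix (Fin k) (Fin k) F)ˣ) : Matrix (Fin k) (Fin k) F) := by
  rw [← map_inv]; rfl

/-- A group of isometries over the stabiliser of the decomposition. -/
structure Over (H : Subgroup (Mat F k t)ˣ) : Prop where
  iso : ∀ h ∈ H, 𝕘.Iso (h : Mat F k t)
  om : ∀ (i : Fin t), ∀ P ∈ 𝕘.Om, slU i P ∈ H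
  cyc : ∀ π : Equiv.Perm (Fin t), π.IsThreeCycle → ∃ h ∈ H, (h : Mat F k t) = factorPerm π
  plane : k = 4 → ∀ x y : Fin k → F, x ≠ 0 → 𝕘.β x x = 0 → 𝕘.β y y = 0 → 𝕘.β x y = 0 → ∃ c : F, y = c • x
  refl : k = 4 → 3 ≤ t → ∀ (i : Fin t) (y : Fin k → F) (hy : 𝕘.β y y ≠ 0), slU i (𝕘.reflU hy) ∈ H
  card : 3 < Nat.card F ∨ 4 ≤ k

/-- No element with a slot root and a non-zero factor off the slot. -/
def NoRoot (H : Subgroup (Mat F k t)ˣ) : Prop :=
  ∀ (i : Fin t) (v : Fin k → F), v ≠ 0 → 𝕘.β v v = 0 → ∀ K : Mat F k t, Off i K →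
    (∃ h ∈ H, (h : Mat F k t) = 1 + sl i (𝕘.tau v v) * K) → K = 0

/-- A product of slot maps and a permutation of the slots. -/
def Mono (g : Mat F k t) : Prop :=
  ∃ (A : Fin t → (Matrix (Fin k) (Fin k) F)ˣ) (π : Equiv.Perm (Fin t)),
    g = pureMat (fun j => (A j : Matrix (Fin k) (Fin k) F)) * factorPerm π

end Gram

end Cfsg.Agent.H24.OWr
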