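import Cfsg.Agent.H24.OWr.SqrtRefl
import Cfsg.Agent.H98.OrthMax.Roots
import Cfsg.Agent.H24.Tensor.OmWrap

/-!
Maximality in Ω of the stabiliser of a tensor power of a symmetric form.
-/

set_option autoImplicit false
set_option linter.unusedVariables false
set_option linter.unusedSimpArgs false
set_option linter.unusedSectionVars false

namespace Cfsg.Agent.H24.OWr

open Matrix Finset QuadraticMap Module
open scoped MatrixGroups
open Cfsg.Agent.Aschbacher (pureMat pureVec slotMat factorPerm pureGL factorPermGL)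
open Cfsg.Agent.H24.Wreath (Mat sl)
open Cfsg.Agent.Orthogonal

variable {F : Type*} [Field F] {k t : ℕ} {ι : Type} [Fintype ι] [DecidableEq ι]

/-- Reading an element in the coordinates of the decomposition. -/
def toM (e : ι ≃ (Fin t → Fin k)) (P : GL ι F) : GL ι F ≃* GL (Fin t → Fin k) F :=
  (MulAut.conj P).symm.trans (Cfsg.Geo.glReindex e)

theorem mem_wreath_iff (e : ι ≃ (Fin t → Fin k)) (P : GL ι F) (g : GL ι F) :
    g ∈ Cfsg.Geo.tensorWreathSubgroup k t e P ↔ toM e P g ∈ Cfsg.Geo.tensorWreathStandard k t F := by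
  have hid : ∀ u : GL (Fin t → Fin k) F, Cfsg.Geo.glReindex e (Cfsg.Geo.glReindex e.symm u) = u := fun u =>
    Units.ext (Matrix.ext fun a b => by simp [Cfsg.Geo.glReindex])
  constructor
  · rintro ⟨_, ⟨u, hu, rfl⟩, rfl⟩
    simpa [toM, hid, mul_assoc] using hu
  · intro h
    refine ⟨_, ⟨_, h, rfl⟩, ?_⟩
    have hid' : ∀ u : GL ι F, Cfsg.Geo.glReindex e.symm (Cfsg.Geo.glReindex e u) = u := fun u =>
      Units.ext (Matrix.ext fun a b => by simp [Cfsg.Geo.glReindex])
    simp [toM, hid', mul_assoc]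

theorem toM_mulVec (e : ι ≃ (Fin t → Fin k)) (P : GL ι F) (g : GL ι F) (x : (Fin t → Fin k) → F) :
    (g : Matrix ι ι F) *ᵥ ((P : Matrix ι ι F) *ᵥ (x ∘ e)) =
      (P : Matrix ι ι F) *ᵥ ((((toM e P g : GL (Fin t → Fin k) F) : Matrix _ _ F) *ᵥ x) ∘ e) := by
  have h1 : (((toM e P g : GL (Fin t → Fin k) F) : Matrix _ _ F) *ᵥ x) ∘ e =
      ((P⁻¹ * g * P : GL ι F) : Matrix ι ι F) *ᵥ (x ∘ e) := by
    funext a
    simp only [toM, MulEquiv.trans_apply, MulAut.conj_symm_apply, Cfsg.Geo.glReindex, Function.comp_apply,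
      Matrix.mulVec, dotProduct]
    rw [← Equiv.sum_comp e (fun b => _ * x b)]
    exact Finset.sum_congr rfl fun b _ => by simp
  rw [h1, mulVec_mulVec, mulVec_mulVec, ← Units.val_mul, ← Units.val_mul]
  congr 2
  group

/-- The Gram matrix of a symmetric form. -/
def gramOf {f : (Fin k → F) → (Fin k → F) → F} (h2 : (2 : F) ≠ 0) (hf : Cfsg.Geo.IsSymmetricForm f) : Gram F k where
  G := Cfsg.Geo.gramMatrix f
  symm := Matrix.ext fun i j => hf.symm _ _
  two := h2
  unit := Matrix.mulVec_injective_iff_isUnit.1 fun v w hvw => by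
    by_contra hne
    obtain ⟨⟨x, hx⟩, -⟩ := hf.nondegenerate (v - w) (sub_ne_zero.2 hne)
    refine hx ?_
    rw [← H96.sum_gram hf.bilinear x (v - w)]
    refine Finset.sum_eq_zero fun i _ => ?_
    have h1 := congrFun (show Cfsg.Geo.gramMatrix f *ᵥ (v - w) = 0 by rw [mulVec_sub, hvw, sub_self]) i
    simp only [Matrix.mulVec, dotProduct, Pi.zero_apply] at h1
    simp only [mul_assoc]
    rw [← Finset.mul_sum, h1, mul_zero]

theorem gramOf_β {f : (Fin k → F) → (Fin k → F) → F} (h2 : (2 : F) ≠ 0) (hf : Cfsg.Geo.IsSymmetricForm f)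
    (x y : Fin k → F) : (gramOf h2 hf).β x y = f x y := by
  rw [← H96.sum_gram hf.bilinear x y]
  simp [Gram.β, gramOf, dotProduct, Matrix.mulVec, Finset.mul_sum, mul_assoc]

/-- The monomial elements are those of the standard stabiliser. -/
theorem mem_standard_iff (u : GL (Fin t → Fin k) F) :
    u ∈ Cfsg.Geo.tensorWreathStandard k t F ↔ Gram.Mono (u : Mat F k t) := by
  constructor
  · intro h
    induction h using Subgroup.closure_induction with
    | mem x hx =>
      rcases hx with ⟨gs, hgs⟩ | ⟨σ, hσ⟩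
      · rw [show (x : Mat F k t) = pureMat fun j => (gs j : Matrix (Fin k) (Fin k) F) from Matrix.ext fun a b => hgs a b]
        exact Gram.mono_pure gs
      · rw [show (x : Mat F k t) = factorPerm σ from Matrix.ext fun a b => hσ a b]
        exact Gram.mono_perm σ
    | one => exact Gram.mono_one
    | mul a b _ _ ha hb => exact ha.mul hb
    | inv a _ ha => exact ha.inv
  · rintro ⟨A, π, h⟩
    rw [show u = pureGL A * factorPermGL π from Units.ext h]
    exact mul_mem (Subgroup.subset_closure (Or.inl ⟨A, fun _ _ => rfl⟩))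
      (Subgroup.subset_closure (Or.inr ⟨π, fun _ _ => rfl⟩))

variable [Fintype F]

/-- The stabiliser of a tensor power of a symmetric form is maximal in Ω. -/
theorem owr_maximal {Q : QuadraticForm F (ι → F)} (hQ : Nondeg Q) (hodd : Odd (Fintype.card F)) (hk : 3 ≤ k)
    (ht : 2 ≤ t) (hcard : 3 < Fintype.card F ∨ 4 ≤ k) (e : ι ≃ (Fin t → Fin k)) (P : GL ι F)
    (f₁ : (Fin k → F) → (Fin k → F) → F) (hf₁ : Cfsg.Geo.IsSymmetricForm f₁)
    (hm4 : k = 4 → ¬ Cfsg.Geo.IsPlusTypeOn (fun v : Fin k → F => f₁ v v) ⊤)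
    (hT : Cfsg.Geo.IsTensorPowerFormStructure id (polar Q) f₁ e P) :
    Cfsg.Geo.IsMaximalIn (Cfsg.Geo.omegaGL ⇑Q)
      (Cfsg.Geo.tensorWreathSubgroup k t e P ⊓ Cfsg.Geo.omegaGL ⇑Q) := by
  classical
  have htwo : (2 : F) ≠ 0 := H24.Tensor.two_ne_of_odd hodd
  set 𝕘 := gramOf htwo hf₁ with h𝕘
  have : NeZero k := ⟨by omega⟩
  have : NeZero t := ⟨by omega⟩
  obtain ⟨c, hc, hT⟩ := hT
  have hn : 5 ≤ finrank F (ι → F) := by
    rw [Module.finrank_fintype_fun_eq_card, Fintype.card_congr e, Fintype.card_fun, Fintype.card_fin, Fintype.card_fin]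
    exact le_trans (by omega : 5 ≤ 3 * 3) ((by simpa [_root_.sq] using Nat.pow_le_pow_left hk 2 : 3 * 3 ≤ k ^ 2).trans
      (Nat.pow_le_pow_right (by omega) ht))
  let τ : ((Fin t → Fin k) → F) → (ι → F) := fun x => (P : Matrix ι ι F) *ᵥ (x ∘ e)
  have hτs : Function.Surjective τ := fun u => ⟨(((P⁻¹ : GL ι F) : Matrix ι ι F) *ᵥ u) ∘ e.symm, by
    simp only [τ]
    rw [Function.comp_assoc, Equiv.symm_comp_self, Function.comp_id, mulVec_mulVec, P.mul_inv, one_mulVec]⟩
  have hτi : Function.Injective τ := fun x y hxy => by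
    have h1 := congrArg (fun w => (((P⁻¹ : GL ι F) : Matrix ι ι F) *ᵥ w) ∘ e.symm) hxy
    simpa [τ, mulVec_mulVec, Function.comp_assoc] using h1
  have hτl : ∀ (a : F) x, τ (a • x) = a • τ x := fun a x => by
    simp only [τ]
    rw [Pi.smul_comp, mulVec_smul]
  have hpol : ∀ x y, polar Q (τ x) (τ y) = c * 𝕘.B x y := fun x y => by
    rw [hT]
    simp [h𝕘, gramOf, Gram.B, Gram.big, pureMat, dotProduct, Matrix.mulVec, Finset.mul_sum, mul_assoc]
  have hQτ : ∀ x, Q (τ x) = (2 : F)⁻¹ * (c * 𝕘.B x x) := fun x => by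
    rw [← hpol, Cfsg.Agent.Orthogonal.polar_self', ← mul_assoc, inv_mul_cancel₀ htwo, one_mul]
  set ψ : O Q →* (Mat F k t)ˣ := (toM e P).toMonoidHom.comp (H96.om Q)
  have hψ : ∀ (g : O Q) x, (g : (ι → F) ≃ₗ[F] (ι → F)) (τ x) = τ ((ψ g : Mat F k t) *ᵥ x) := fun g x => by
    rw [← H96.om_mulVec]
    exact toM_mulVec e P _ x
  have hψinj : Function.Injective ψ := (toM e P).injective.comp (H96.om_injective Q)
  have hψiso : ∀ g : O Q, 𝕘.Iso (ψ g : Mat F k t) := fun g => by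
    have hB : ∀ x y, 𝕘.B ((ψ g : Mat F k t) *ᵥ x) ((ψ g : Mat F k t) *ᵥ y) = 𝕘.B x y := fun x y => by
      refine mul_left_cancel₀ hc ?_
      rw [← hpol, ← hpol, ← hψ, ← hψ, O.polar_app]
    refine Matrix.ext fun a b => ?_
    have h1 := hB (Pi.single a 1) (Pi.single b 1)
    rw [Gram.B, Gram.B, ← vecMul_transpose, ← dotProduct_mulVec, mulVec_mulVec, mulVec_mulVec, single_dotProduct,
      one_mul, single_dotProduct, one_mul, mulVec_single_one, mulVec_single_one] at h1
    exact h1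
  have hlift : ∀ r : (Mat F k t)ˣ, 𝕘.Iso (r : Mat F k t) → ∃ g : O Q, ψ g = r := by
    intro r hr
    obtain ⟨g, rfl⟩ := (toM e P).surjective r
    have hg : g ∈ Cfsg.isometryGroup F ⇑Q := fun u _ => by
      obtain ⟨x, rfl⟩ := hτs u
      show Q ((g : Matrix ι ι F) *ᵥ τ x) = Q (τ x)
      rw [show (g : Matrix ι ι F) *ᵥ τ x = τ (((toM e P g : GL (Fin t → Fin k) F) : Mat F k t) *ᵥ x) from
        toM_mulVec e P g x, hQτ, hQτ, 𝕘.B_iso hr]
    exact ⟨toO Q ⟨g, hg⟩, by simp [ψ, H96.om]⟩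
  have hsie : ∀ (p m : (Fin t → Fin k) → F) (hp : Q (τ p) = 0) (hm : polar Q (τ p) (τ (c⁻¹ • m)) = 0),
      (ψ (Cfsg.Agent.Orthogonal.sie (τ p) (τ (c⁻¹ • m)) hp hm) : Mat F k t) = 𝕘.sie p m := fun p m hp hm =>
    Matrix.ext_iff_mulVec.2 fun z => hτi (by
      rw [← hψ, sie_app, hpol, hpol, hQτ, Gram.sie_mulVec]
      simp only [Gram.B_smul_left, Gram.B_smul_right]
      have hτa : ∀ x y, τ (x + y) = τ x + τ y := fun x y => by
        simp only [τ]; rw [Pi.add_comp, mulVec_add]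
      have hτb : ∀ x y, τ (x - y) = τ x - τ y := fun x y => by
        simp only [τ]; rw [Pi.sub_comp, mulVec_sub]
      simp only [hτa, hτb, hτl]
      match_scalars <;> field_simp)
  have hsq : ∀ g : O Q, g ^ 2 ∈ commutator (O Q) := fun g => by
    have htop := reflGroup_eq_top hQ (Or.inr (by omega : finrank F (ι → F) ≠ 4))
    rw [← Abelianization.ker_of, MonoidHom.mem_ker, map_pow]
    have hg : g ∈ reflGroup Q := by rw [htop]; trivial
    induction hg using Subgroup.closure_induction with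
    | mem x hx => obtain ⟨v, rfl⟩ := hx; rw [← map_pow, pow_two, rO_mul_self, map_one]
    | one => simp
    | mul a b _ _ ha hb => rw [map_mul, mul_pow, ha, hb, one_mul]
    | inv a _ ha => rw [map_inv, inv_pow, ha, inv_one]
  obtain ⟨v, hv0, hvv⟩ := 𝕘.exists_singular hk
  obtain ⟨v', h⟩ := 𝕘.exists_hyp hv0 hvv
  obtain ⟨z, hz, hzn⟩ := h.aniso hk
  refine H98.OrthMax.isMaximalIn_omega hQ hn _ ?_ fun X hX hXne => ?_
  · let b : Fin t := ⟨0, by omega⟩
    set p : (Fin t → Fin k) → F := pureVec fun _ : Fin t => v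
    set m : (Fin t → Fin k) → F := pureVec (Function.update (fun _ : Fin t => v) b z)
    have hp : Q (τ p) = 0 := by rw [hQτ, Gram.B_base hvv ht, mul_zero, mul_zero]
    have hm : polar Q (τ p) (τ (c⁻¹ • m)) = 0 := by
      rw [hpol, Gram.B_smul_right, Gram.B_base_upd hvv ht, mul_zero, mul_zero]
    refine ⟨_, H98.OrthMax.sie_mem_commutator hQ hn hp hm, fun hS => Gram.sie_not_mono h hz hzn ht b ?_⟩
    rw [← hsie p m hp hm]
    exact (mem_standard_iff _).1 ((mem_wreath_iff e P _).1 hS)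
  set H := X.map ψ
  have hmem : ∀ r : (Mat F k t)ˣ, Gram.Mono (r : Mat F k t) → (∃ y ∈ commutator (O Q), ψ y = r) → r ∈ H := by
    rintro r hr ⟨y, hy, rfl⟩
    exact Subgroup.mem_map_of_mem ψ (hX y hy ((mem_wreath_iff e P _).2 ((mem_standard_iff _).2 hr)))
  have hH : 𝕘.Over H := by
    refine ⟨?_, fun i Pm hPm => hmem _ (Gram.mono_slU i Pm) ?_, fun π hπ => ?_, ?_, ?_, ?_⟩
    · rintro _ ⟨g, -, rfl⟩
      exact hψiso g
    · have hle : Subgroup.map (Gram.slU i) 𝕘.Om ≤ Subgroup.map ψ (commutator (O Q)) := by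
        rw [Gram.Om, Subgroup.map_commutator, commutator_def, Subgroup.map_commutator, ← MonoidHom.range_eq_map]
        refine Subgroup.commutator_mono ?_ ?_ <;>
        · rintro _ ⟨R, hR, rfl⟩
          exact hlift _ (𝕘.iso_sl hR)
      exact hle ⟨Pm, hPm, rfl⟩
    · obtain ⟨y, hy⟩ := hlift (factorPermGL π) (𝕘.iso_factorPerm π)
      have h3 : y ^ 3 = 1 := hψinj (by
        rw [map_pow, map_one, hy]
        refine Units.ext ?_
        show (((factorPermGL π : GL (Fin t → Fin k) F) ^ 3 : GL (Fin t → Fin k) F) : Mat F k t) = 1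
        rw [Units.val_pow_eq_pow_val, show ((factorPermGL π : GL (Fin t → Fin k) F) : Mat F k t) = factorPerm π from rfl,
          pow_succ, pow_two, Gram.fp_mul, Gram.fp_mul,
          show π * π * π = 1 by rw [← pow_three', ← hπ.orderOf, pow_orderOf_eq_one], Gram.fp_one])
      refine ⟨factorPermGL π, hmem _ (Gram.mono_perm π) ⟨y, ?_, hy⟩, rfl⟩
      rw [show y = (y ^ 2) ^ 2 by rw [← pow_mul, show 2 * 2 = 3 + 1 from rfl, pow_succ, h3, one_mul]]
      exact hsq _
    · intro h4 x y hx hxx hyy hxy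
      by_contra hy
      push Not at hy
      refine hm4 h4 ⟨Submodule.span F {x, y}, le_top, fun w hw => ?_, ?_⟩
      · obtain ⟨r, s, rfl⟩ := Submodule.mem_span_pair.1 hw
        show f₁ _ _ = 0
        rw [← gramOf_β htwo hf₁, ← h𝕘]
        simp [Gram.β_add_left, Gram.β_add_right, Gram.β_smul_left, Gram.β_smul_right, hxx, hyy, hxy, 𝕘.β_comm x y]
      · have hli : LinearIndependent F ![x, y] := (LinearIndependent.pair_iff' hx).2 fun s hs => hy s hs.symm
        have h2 := finrank_span_eq_card hli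
        rw [Matrix.range_cons, Matrix.range_cons, Matrix.range_empty, Set.union_empty, Set.singleton_union,
          Fintype.card_fin] at h2
        rw [h2, finrank_top, Module.finrank_fintype_fun_eq_card, Fintype.card_fin, h4]
    · intro h4 ht3 i y hy
      obtain ⟨x, hx, hxx⟩ := 𝕘.exists_sqrt_refl h4 ht3 i hy
      obtain ⟨g, hg⟩ := hlift x hx
      exact hmem _ (Gram.mono_slU i _) ⟨g ^ 2, hsq g, by rw [map_pow, hg, pow_two, hxx]⟩
    · rwa [Nat.card_eq_fintype_card]
  have hroot : ¬ 𝕘.NoRoot H := fun hno => by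
    obtain ⟨x, hx, hxS⟩ := hXne
    exact hxS ((mem_wreath_iff e P _).2 ((mem_standard_iff _).2 (hH.mono hk hno (Subgroup.mem_map_of_mem ψ hx))))
  obtain ⟨p, p', hp, hp', hpp', hf, hf'⟩ := hH.full_pair hk ht hroot
  have hfull : ∀ q, (∀ w, 𝕘.B q w = 0 → 𝕘.Ef H q w) → H98.OrthMax.Full X (τ q) := by
    intro q hq w hu hw
    obtain ⟨w, rfl⟩ := hτs w
    have hw' : 𝕘.B q (c • w) = 0 := by rw [Gram.B_smul_right, ← hpol, hw]
    obtain ⟨_, ⟨y, hy, rfl⟩, e'⟩ := (hq _ hw').2.2 1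
    have hw2 : polar Q (τ q) (τ (c⁻¹ • c • w)) = 0 := by rwa [inv_smul_smul₀ hc]
    have e2 : y = Cfsg.Agent.Orthogonal.sie (τ q) (τ (c⁻¹ • c • w)) hu hw2 :=
      hψinj (Units.ext (by rw [hsie, e', one_smul]))
    rw [show Cfsg.Agent.Orthogonal.sie (τ q) (τ w) hu hw = Cfsg.Agent.Orthogonal.sie (τ q) (τ (c⁻¹ • c • w)) hu hw2 from
      sie_congr _ _ _ _ rfl (by rw [inv_smul_smul₀ hc]), ← e2]
    exact hy
  exact H98.OrthMax.sieGroup_le_of_pair hQ (by omega) (hfull p hf) (hfull p' hf')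
    (by rw [hQτ, hp, mul_zero, mul_zero]) (by rw [hQτ, hp', mul_zero, mul_zero])
    (by rw [hpol, hpp', mul_one]; exact hc)

end Cfsg.Agent.H24.OWr
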