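import Cfsg.Agent.H24.OWr.Scalar

/-!
Matrices commuting with the skew maps at a singular vector of a slot, and maps carrying one slot line to another.
-/

set_option autoImplicit false
set_option linter.unusedVariables false

namespace Cfsg.Agent.H24.OWr

open Matrix Finset
open Cfsg.Agent.Aschbacher (pureMat slotMat)
open Cfsg.Agent.H24.Wreath (Mat sl Off off_one off_sl sl_mul sl_one sl_add sl_smul sl_zero sl_neg sl_sub sl_injective)

variable {F : Type*} [Field F] {k t : ℕ}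

namespace Gram

variable (𝕘 : Gram F k) {v v' : Fin k → F} {l : Fin t}

/-- The matrix commutes with the skew maps at `v` of the slot. -/
def CommN (l : Fin t) (v v' : Fin k → F) (Z : Mat F k t) : Prop :=
  ∀ z, 𝕘.InU v v' z → sl l (𝕘.N v z) * Z = Z * sl l (𝕘.N v z)

variable {𝕘}

theorem CommN.rel [NeZero k] {Z : Mat F k t} (hZ : 𝕘.CommN l v v' Z) {z : Fin k → F} (hz : 𝕘.InU v v' z)
    (x y : Fin k → F) : 𝕘.ct l (𝕘.N v z *ᵥ x) y Z + 𝕘.ct l x (𝕘.N v z *ᵥ y) Z = 0 := by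
  have h1 := congrArg (𝕘.ct l x y) (hZ z hz)
  rw [ct_sl_left, ct_sl_right, adjD_N, neg_mulVec, ← neg_one_smul F, ct_smul_left, neg_one_smul] at h1
  rw [← h1, add_neg_cancel]

theorem CommN.mul {Z Z' : Mat F k t} (h : 𝕘.CommN l v v' Z) (h' : 𝕘.CommN l v v' Z') : 𝕘.CommN l v v' (Z * Z') :=
  fun z hz => by rw [← mul_assoc, h z hz, mul_assoc, h' z hz, mul_assoc]

theorem CommN.of_off {Z : Mat F k t} (hZ : Off l Z) : 𝕘.CommN l v v' Z := fun _ _ => hZ _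

theorem CommN.inv {Z : (Mat F k t)ˣ} (h : 𝕘.CommN l v v' (Z : Mat F k t)) :
    𝕘.CommN l v v' ((Z⁻¹ : (Mat F k t)ˣ) : Mat F k t) := fun z hz =>
  (show Commute (sl l (𝕘.N v z)) (Z : Mat F k t) from h z hz).units_inv_right.eq

/-- The entries of a matrix commuting with the skew maps. -/
theorem CommN.table [Finite F] [NeZero k] (h : 𝕘.Hyp v v') (hk : 3 ≤ k) {Z : Mat F k t} (hZ : 𝕘.CommN l v v' Z) :
    (∀ x, 𝕘.ct l x v Z = 𝕘.β x v • 𝕘.ct l v v' Z) ∧ (∀ x, 𝕘.ct l v x Z = 𝕘.β v x • 𝕘.ct l v v' Z) ∧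
    (∀ x y, 𝕘.β v x = 0 → 𝕘.β v y = 0 → 𝕘.ct l x y Z = 𝕘.β x y • 𝕘.ct l v v' Z) ∧
    (∀ z, 𝕘.InU v v' z → 𝕘.ct l v' z Z = -𝕘.ct l z v' Z) := by
  obtain ⟨a, ha, han⟩ := h.aniso hk
  set A := 𝕘.ct l v v' Z with hA
  have eNv : ∀ z, 𝕘.InU v v' z → 𝕘.N v z *ᵥ v = 0 := fun z hz => by
    rw [N_mulVec, hz.comm.1, h.vv, zero_smul, zero_smul, sub_zero]
  have eNw : ∀ z, 𝕘.InU v v' z → 𝕘.N v z *ᵥ v' = (-1 : F) • z := fun z hz => by
    rw [N_mulVec, hz.comm.2, h.vw, zero_smul, one_smul, zero_sub, neg_one_smul]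
  have eNu : ∀ z z', 𝕘.InU v v' z → 𝕘.InU v v' z' → 𝕘.N v z *ᵥ z' = 𝕘.β z z' • v := fun z z' _ hz' => by
    rw [N_mulVec, hz'.1, zero_smul, sub_zero]
  have hvz : ∀ z, 𝕘.InU v v' z → 𝕘.ct l v z Z = 0 := fun z hz => by
    have h1 := hZ.rel hz v v'
    rwa [eNv z hz, eNw z hz, ct_zero_left, zero_add, ct_smul_right, neg_one_smul, neg_eq_zero] at h1
  have hvv : 𝕘.ct l v v Z = 0 := by
    have h1 := hZ.rel ha a v
    rw [eNv a ha, eNu a a ha ha, ct_zero_right, add_zero, ct_smul_left, smul_eq_zero] at h1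
    exact h1.resolve_left han
  have hzv : ∀ z, 𝕘.InU v v' z → 𝕘.ct l z v Z = 0 := fun z hz => by
    have h1 := hZ.rel hz v' v
    rwa [eNv z hz, eNw z hz, ct_zero_right, add_zero, ct_smul_left, neg_one_smul, neg_eq_zero] at h1
  have huu : ∀ z z', 𝕘.InU v v' z → 𝕘.InU v v' z' → 𝕘.ct l z' z Z = 𝕘.β z' z • A := fun z z' hz hz' => by
    have h1 := hZ.rel hz z' v'
    rw [eNw z hz, eNu z z' hz hz', ct_smul_left, ct_smul_right, neg_one_smul, ← sub_eq_add_neg, sub_eq_zero] at h1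
    rw [← h1, β_comm]
  have hwv : 𝕘.ct l v' v Z = A := by
    have h1 := hZ.rel ha v' a
    rw [eNw a ha, eNu a a ha ha, ct_smul_left, ct_smul_right, huu a a ha ha, neg_one_smul, neg_add_eq_zero] at h1
    exact (smul_right_injective (Mat F k t) han h1).symm
  have hwz : ∀ z, 𝕘.InU v v' z → 𝕘.ct l v' z Z = -𝕘.ct l z v' Z := fun z hz => by
    have h1 := hZ.rel hz v' v'
    rw [eNw z hz, ct_smul_left, ct_smul_right, neg_one_smul, neg_one_smul, ← neg_add, neg_eq_zero] at h1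
    exact eq_neg_of_add_eq_zero_right h1
  refine ⟨fun x => ?_, fun x => ?_, fun x y hx hy => ?_, hwz⟩
  · have hp := 𝕘.pr_inU h x
    conv_lhs => rw [← 𝕘.decomp (v := v) (v' := v') x]
    rw [ct_add_left, ct_add_left, ct_smul_left, ct_smul_left, hvv, hwv, hzv _ hp, smul_zero, zero_add, add_zero,
      β_comm]
  · have hp := 𝕘.pr_inU h x
    conv_lhs => rw [← 𝕘.decomp (v := v) (v' := v') x]
    rw [ct_add_right, ct_add_right, ct_smul_right, ct_smul_right, hvv, hvz _ hp, smul_zero, zero_add, add_zero]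
  · have hpx := 𝕘.pr_inU h x
    have hpy := 𝕘.pr_inU h y
    have ex : 𝕘.β x y = 𝕘.β (𝕘.pr v v' x) (𝕘.pr v v' y) := by
      simp only [pr, hx, hy, zero_smul, sub_zero, β_sub_left, β_sub_right, β_smul_left, β_smul_right, h.vv,
        𝕘.β_comm v x]
      ring
    conv_lhs => rw [← 𝕘.decomp (v := v) (v' := v') x, ← 𝕘.decomp (v := v) (v' := v') y]
    simp only [hx, hy, zero_smul, add_zero, ct_add_left, ct_add_right, ct_smul_left, ct_smul_right, hvv,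
      hvz _ hpy, hzv _ hpx, huu _ _ hpy hpx, smul_zero, zero_add, ex]

/-- The whole matrix from its entries. -/
theorem CommN.decomp [Finite F] [NeZero k] (h : 𝕘.Hyp v v') (hk : 3 ≤ k) {Z : Mat F k t} (hZ : 𝕘.CommN l v v' Z)
    (hM : ∀ z, 𝕘.InU v v' z → 𝕘.ct l z v' Z = 0) :
    Z = 𝕘.ct l v v' Z + sl l (𝕘.tau v v) * 𝕘.ct l v' v' Z := 𝕘.ext_ct l fun x y => by
  obtain ⟨hxv, hvx, hperp, hanti⟩ := hZ.table h hk
  have hpx := 𝕘.pr_inU h x
  have hpy := 𝕘.pr_inU h y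
  have e1 : 𝕘.ct l x (𝕘.pr v v' y) Z = 𝕘.β (𝕘.pr v v' x) (𝕘.pr v v' y) • 𝕘.ct l v v' Z := by
    conv_lhs => rw [← 𝕘.decomp (v := v) (v' := v') x]
    rw [ct_add_left, ct_add_left, ct_smul_left, ct_smul_left, hvx, hpy.1, zero_smul, smul_zero, zero_add,
      hanti _ hpy, hM _ hpy, neg_zero, smul_zero, zero_add, hperp _ _ hpx.1 hpy.1]
  have e2 : 𝕘.ct l x v' Z = 𝕘.β v' x • 𝕘.ct l v v' Z + 𝕘.β v x • 𝕘.ct l v' v' Z := by
    conv_lhs => rw [← 𝕘.decomp (v := v) (v' := v') x]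
    rw [ct_add_left, ct_add_left, ct_smul_left, ct_smul_left, hM _ hpx, add_zero]
  have eb : 𝕘.β x y = 𝕘.β v' x * 𝕘.β v y + 𝕘.β v x * 𝕘.β v' y + 𝕘.β (𝕘.pr v v' x) (𝕘.pr v v' y) := by
    simp only [pr, β_sub_left, β_sub_right, β_smul_left, β_smul_right, h.vv, h.ww, h.vw, h.wv, 𝕘.β_comm v x,
      𝕘.β_comm v' x]
    ring
  rw [ct_add, 𝕘.ct_of_off (𝕘.ct_off l v v' Z), 𝕘.ct_sl_mul (𝕘.ct_off l v' v' Z), tau_mulVec, β_smul_right, eb]
  conv_lhs => rw [← 𝕘.decomp (v := v) (v' := v') y]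
  rw [ct_add_right, ct_add_right, ct_smul_right, ct_smul_right, hxv, e1, e2, 𝕘.β_comm v x]
  module

/-- The action on the line. -/
theorem CommN.mul_line [Finite F] [NeZero k] (h : 𝕘.Hyp v v') (hk : 3 ≤ k) {Z : Mat F k t} (hZ : 𝕘.CommN l v v' Z)
    (b : Fin k → F) : Z * sl l (𝕘.tau v b) = sl l (𝕘.tau v b) * 𝕘.ct l v v' Z := 𝕘.ext_ct l fun x y => by
  rw [ct_sl_right, tau_mulVec, ct_smul_right, (hZ.table h hk).1, 𝕘.ct_sl_mul (𝕘.ct_off l v v' Z), tau_mulVec,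
    β_smul_right, smul_smul]

/-- The action on the vectors orthogonal to the line, modulo the line. -/
theorem CommN.mul_perp [Finite F] [NeZero k] (h : 𝕘.Hyp v v') (hk : 3 ≤ k) {Z : Mat F k t}
    (hZ : 𝕘.CommN l v v' Z) {w : Fin k → F} (hw : 𝕘.β v w = 0) (b : Fin k → F) :
    ∃ K, Off l K ∧ Z * sl l (𝕘.tau w b) = sl l (𝕘.tau w b) * 𝕘.ct l v v' Z + sl l (𝕘.tau v b) * K := by
  have hK : Off l (𝕘.ct l v' w Z + (-𝕘.β v' w) • 𝕘.ct l v v' Z) :=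
    (𝕘.ct_off _ _ _ _).add ((𝕘.ct_off _ _ _ _).smul _)
  refine ⟨_, hK, 𝕘.ext_ct l fun p q => ?_⟩
  have ep : p = 𝕘.β v p • v' + (p - 𝕘.β v p • v') := (add_sub_cancel _ _).symm
  have hpp : 𝕘.β v (p - 𝕘.β v p • v') = 0 := by rw [β_sub_right, β_smul_right, h.vw, mul_one, sub_self]
  rw [ct_sl_right, tau_mulVec, ct_smul_right, ct_add, 𝕘.ct_sl_mul (𝕘.ct_off l v v' Z), 𝕘.ct_sl_mul hK, tau_mulVec,
    tau_mulVec, β_smul_right, β_smul_right]
  conv_lhs => rw [ep, ct_add_left, ct_smul_left, (hZ.table h hk).2.2.1 _ _ hpp hw, β_sub_left, β_smul_left]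
  rw [𝕘.β_comm v p]
  module

theorem CommN.A_mul [Finite F] [NeZero k] (h : 𝕘.Hyp v v') (hk : 3 ≤ k) {Z Z' : Mat F k t}
    (hZ : 𝕘.CommN l v v' Z) (hZ' : 𝕘.CommN l v v' Z') :
    𝕘.ct l v v' (Z * Z') = 𝕘.ct l v v' Z * 𝕘.ct l v v' Z' := by
  refine (𝕘.ct_off l v v' _).cancel ((𝕘.ct_off l v v' Z).mul (𝕘.ct_off l v v' Z')) (𝕘.tau_ne_zero h.v_ne h.v_ne) ?_
  rw [← (hZ.mul hZ').mul_line h hk, mul_assoc, hZ'.mul_line h hk, ← mul_assoc, hZ.mul_line h hk, mul_assoc]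

theorem CommN.A_inv [Finite F] [NeZero k] (h : 𝕘.Hyp v v') (hk : 3 ≤ k) {Z : (Mat F k t)ˣ}
    (hZ : 𝕘.CommN l v v' (Z : Mat F k t)) :
    𝕘.ct l v v' (Z : Mat F k t) * 𝕘.ct l v v' ((Z⁻¹ : (Mat F k t)ˣ) : Mat F k t) = 1 := by
  rw [← hZ.A_mul h hk hZ.inv, Z.mul_inv, 𝕘.ct_of_off (off_one l), h.vw, one_smul]

/-- The transfer of a radical condition through a conjugation. -/
def RadT (𝕘 : Gram F k) (T Z : Mat F k t) : Prop :=
  Z * T = 0 ∧ T * Z = 0 ∧ ∀ P Q : Mat F k t, T * P = 0 → Q * T = 0 → Q * Z * P = 0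

theorem radZ_iff [NeZero k] (h : 𝕘.Hyp v v') {Z : Mat F k t} :
    𝕘.RadZ l v Z ↔ RadT 𝕘 (sl l (𝕘.tau v v)) Z := by
  constructor
  · rintro ⟨h1, h2, h3⟩
    refine ⟨𝕘.ext_ct l fun x y => ?_, 𝕘.ext_ct l fun x y => ?_, fun P Q hP hQ => ?_⟩
    · rw [ct_sl_right, tau_mulVec, ct_smul_right, h1, smul_zero, ct_zero]
    · rw [ct_sl_left, adjD_tau, tau_mulVec, ct_smul_left, h2, smul_zero, ct_zero]
    · have e0 : sl l (𝕘.tau v v) * sl l (𝕘.tau v' v') = (sl l (𝕘.tau v v') : Mat F k t) := by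
        rw [sl_mul, tau_mul_tau, h.vw, one_smul]
      have e0' : sl l (𝕘.tau v' v') * sl l (𝕘.tau v v) = (sl l (𝕘.tau v' v) : Mat F k t) := by
        rw [sl_mul, tau_mul_tau, h.wv, one_smul]
      have eQ : Q = Q * sl l (1 - 𝕘.tau v v') := by
        rw [sl_sub, sl_one, mul_sub, mul_one, ← e0, ← mul_assoc, hQ, zero_mul, sub_zero]
      have eP : P = sl l (1 - 𝕘.tau v' v) * P := by
        rw [sl_sub, sl_one, sub_mul, one_mul, ← e0', mul_assoc, hP, mul_zero, sub_zero]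
      have e1 : sl l (1 - 𝕘.tau v v') * Z * sl l (1 - 𝕘.tau v' v) = 0 := 𝕘.ext_ct l fun x y => by
        rw [ct_sl_right, ct_sl_left, ct_zero]
        refine h3 _ _ ?_ ?_
        · rw [← β_comm, β_adjD', sub_mulVec, one_mulVec, tau_mulVec, β_sub_right, β_smul_right, h.wv, one_mul, sub_self]
        · rw [sub_mulVec, one_mulVec, tau_mulVec, β_sub_right, β_smul_right, h.vw, mul_one, sub_self]
      rw [eQ, eP]
      simp only [mul_assoc] at e1 ⊢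
      rw [← mul_assoc Z, ← mul_assoc (sl l (1 - 𝕘.tau v v')) _ P, e1, zero_mul, mul_zero]
  · rintro ⟨h1, h2, h3⟩
    obtain ⟨a, ha⟩ : ∃ a : Fin k → F, a ≠ 0 := ⟨v, h.v_ne⟩
    refine ⟨fun x => ?_, fun x => ?_, fun x y hx hy => ?_⟩
    · have e := congrArg (𝕘.ct l x v') h1
      rwa [ct_sl_right, tau_mulVec, h.vw, one_smul, ct_zero] at e
    · have e := congrArg (𝕘.ct l v' x) h2
      rwa [ct_sl_left, adjD_tau, tau_mulVec, h.vw, one_smul, ct_zero] at e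
    · refine (𝕘.ct_off l x y Z).cancel (fun X => by rw [mul_zero, zero_mul]) (𝕘.tau_ne_zero ha ha) ?_
      rw [mul_zero, ← tau_sandwich, mul_assoc]
      have := h3 (sl l (𝕘.tau y a)) (sl l (𝕘.tau a x)) (by rw [sl_mul, tau_mul_tau, hy, zero_smul, sl_zero])
        (by rw [sl_mul, tau_mul_tau, 𝕘.β_comm v x, hx, zero_smul, sl_zero])
      rwa [mul_assoc] at this
where
  β_adjD' {X : Matrix (Fin k) (Fin k) F} {x y : Fin k → F} :
      𝕘.β (𝕘.adjD X *ᵥ x) y = 𝕘.β x (X *ᵥ y) := by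
    rw [𝕘.β_comm y, ← β_adjD, β_comm]

theorem RadT.conj {T Z : Mat F k t} (hZ : RadT 𝕘 T Z) (g : (Mat F k t)ˣ) :
    RadT 𝕘 ((g : Mat F k t) * T * ((g⁻¹ : (Mat F k t)ˣ) : Mat F k t))
      ((g : Mat F k t) * Z * ((g⁻¹ : (Mat F k t)ˣ) : Mat F k t)) := by
  obtain ⟨h1, h2, h3⟩ := hZ
  set G := (g : Mat F k t)
  set G' := ((g⁻¹ : (Mat F k t)ˣ) : Mat F k t)
  have e : G' * G = 1 := g.inv_mul
  refine ⟨?_, ?_, fun P Q hP hQ => ?_⟩
  · calc G * Z * G' * (G * T * G') = G * (Z * (G' * G) * T) * G' := by simp only [mul_assoc]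
      _ = 0 := by rw [e, mul_one, h1, mul_zero, zero_mul]
  · calc G * T * G' * (G * Z * G') = G * (T * (G' * G) * Z) * G' := by simp only [mul_assoc]
      _ = 0 := by rw [e, mul_one, h2, mul_zero, zero_mul]
  · have hP' : T * (G' * P * G) = 0 := by
      calc T * (G' * P * G) = G' * G * T * G' * P * G := by rw [e, one_mul]; simp only [mul_assoc]
        _ = G' * (G * T * G' * P) * G := by simp only [mul_assoc]
        _ = 0 := by rw [hP, mul_zero, zero_mul]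
    have hQ' : G' * Q * G * T = 0 := by
      calc G' * Q * G * T = G' * (Q * (G * T * G')) * G := by simp only [mul_assoc]; rw [e, mul_one]
        _ = 0 := by rw [hQ, mul_zero, zero_mul]
    calc Q * (G * Z * G') * P = G * ((G' * Q * G) * Z * (G' * P * G)) * G' := by
          simp only [mul_assoc]
          rw [show G * G' = 1 from g.mul_inv, mul_one, ← mul_assoc G G', show G * G' = 1 from g.mul_inv, one_mul]
      _ = 0 := by rw [h3 _ _ hP' hQ', mul_zero, zero_mul]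

/-- `x⁻¹` carries the line of `v` in the slot `j` to the line of `w` in the slot `l`. -/
def Maps (𝕘 : Gram F k) (x : (Mat F k t)ˣ) (j : Fin t) (v : Fin k → F) (l : Fin t) (w : Fin k → F) (c : F) :
    Prop :=
  c ≠ 0 ∧ w ≠ 0 ∧ 𝕘.β w w = 0 ∧
    ((x⁻¹ : (Mat F k t)ˣ) : Mat F k t) * sl j (𝕘.tau v v) * (x : Mat F k t) = c • sl l (𝕘.tau w w)

theorem RadT.smul_iff {T Z : Mat F k t} {c : F} (hc : c ≠ 0) : RadT 𝕘 (c • T) Z ↔ RadT 𝕘 T Z := by
  simp only [RadT, mul_smul_comm, smul_mul_assoc, smul_eq_zero, hc, false_or]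

theorem Maps.rad [NeZero k] {x : (Mat F k t)ˣ} {j : Fin t} {w : Fin k → F} {c : F} (hm : Maps 𝕘 x j v l w c)
    (h : 𝕘.Hyp v v') {w' : Fin k → F} (hw : 𝕘.Hyp w w') {Z : Mat F k t} (hZ : 𝕘.RadZ j v Z) :
    𝕘.RadZ l w (((x⁻¹ : (Mat F k t)ˣ) : Mat F k t) * Z * (x : Mat F k t)) := by
  rw [radZ_iff hw, ← RadT.smul_iff hm.1, ← hm.2.2.2]
  have := ((radZ_iff h).1 hZ).conj x⁻¹
  rwa [inv_inv] at this

theorem log_ue [NeZero k] {z : Fin k → F} :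
    (2⁻¹ : F) • ((sl l (𝕘.ue v z) : Mat F k t) - sl l (𝕘.ue v (-z))) = sl l (𝕘.N v z) := by
  have e : 𝕘.N v (-z) = -𝕘.N v z := by rw [← neg_one_smul F z, N_smul, neg_one_smul]
  rw [← sl_sub, ← sl_smul, ue, ue, e, β_neg_left, β_neg_right, neg_neg]
  congr 1
  have h2 := 𝕘.two
  match_scalars <;> field_simp <;> ring

theorem ueU_rad [Finite F] [NeZero k] {H : Subgroup (Mat F k t)ˣ} (hH : 𝕘.Over H) (hk : 3 ≤ k) (h : 𝕘.Hyp v v')
    {z : Fin k → F} (hz : 𝕘.InU v v' z) : 𝕘.IsRad H l v (slU l (𝕘.ueU h.vv hz.1)) := by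
  refine ⟨hH.om l _ (𝕘.ueU_mem (hH.big hk) h.vv hz.1), ?_⟩
  rw [slU_val, ueU_val, ← sl_one l, ← sl_sub, ue_sub_one]
  refine ⟨fun x => ?_, fun x => ?_, fun x y hx hy => ?_⟩ <;>
    rw [ct_sl, sub_mulVec, N_mulVec, smul_mulVec, tau_mulVec]
  · simp [hz.comm.1, h.vv, β_zero_right]
  · simp [β_sub_right, β_smul_right, hz.1, h.vv]
  · simp [β_smul_right, 𝕘.β_comm v x, hx, hy]

/-- Roots go to roots. -/
theorem Maps.map_N [Finite F] [NeZero k] {H : Subgroup (Mat F k t)ˣ} (hH : 𝕘.Over H) (hk : 3 ≤ k)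
    (hno : 𝕘.NoRoot H) {x : (Mat F k t)ˣ} (hx : x ∈ H) {j : Fin t} {w : Fin k → F} {c : F}
    (hm : Maps 𝕘 x j v l w c) (h : 𝕘.Hyp v v') {w' : Fin k → F} (hw : 𝕘.Hyp w w') {z : Fin k → F}
    (hz : 𝕘.InU v v' z) :
    ∃ a, 𝕘.InU w w' a ∧
      ((x⁻¹ : (Mat F k t)ˣ) : Mat F k t) * sl j (𝕘.N v z) * (x : Mat F k t) = sl l (𝕘.N w a) := by
  obtain ⟨hu, huR⟩ := ueU_rad (l := j) hH hk h hz
  set r := x⁻¹ * slU j (𝕘.ueU h.vv hz.1) * x with hr
  have hrad : 𝕘.IsRad H l w r := by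
    refine ⟨H.mul_mem (H.mul_mem (H.inv_mem hx) hu) hx, ?_⟩
    have e : (r : Mat F k t) - 1 = ((x⁻¹ : (Mat F k t)ˣ) : Mat F k t) *
        ((slU j (𝕘.ueU h.vv hz.1) : Mat F k t) - 1) * (x : Mat F k t) := by
      rw [hr, Units.val_mul, Units.val_mul, mul_sub, mul_one, sub_mul, x.inv_mul]
    rw [e]
    exact hm.rad h hw huR
  obtain ⟨a, ha, hra⟩ := hH.rad_eq hk hw hno hrad
  refine ⟨a, ha, ?_⟩
  have hri := congrArg (fun u : (Mat F k t)ˣ => ((u⁻¹ : (Mat F k t)ˣ) : Mat F k t)) hra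
  simp only [hr, _root_.mul_inv_rev, inv_inv, Units.val_mul, slU_inv, ueU_inv] at hri
  have hrv := congrArg Units.val hra
  rw [hr, Units.val_mul, Units.val_mul, slU_val, slU_val, ueU_val, ueU_val] at hrv
  rw [← log_ue, ← log_ue, mul_smul_comm, smul_mul_assoc, mul_sub, sub_mul, hrv]
  rw [← hri]
  simp only [mul_assoc]

theorem adjD_mul (X Y : Matrix (Fin k) (Fin k) F) : 𝕘.adjD (X * Y) = 𝕘.adjD Y * 𝕘.adjD X :=
  𝕘.adjD_eq fun x y => by rw [← mulVec_mulVec, β_adjD, β_adjD, mulVec_mulVec]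

theorem adjD_unit {P : (Matrix (Fin k) (Fin k) F)ˣ} (hP : P ∈ 𝕘.O) :
    𝕘.adjD (P : Matrix (Fin k) (Fin k) F) = ((P⁻¹ : (Matrix (Fin k) (Fin k) F)ˣ) : Matrix (Fin k) (Fin k) F) :=
  (Units.inv_eq_of_mul_eq_one_left (𝕘.adjD_mul_of_iso hP)).symm

theorem inv_eigen {P : (Matrix (Fin k) (Fin k) F)ˣ} {a : F} (ha : a ≠ 0) {x : Fin k → F}
    (h : (P : Matrix (Fin k) (Fin k) F) *ᵥ x = a • x) :
    ((P⁻¹ : (Matrix (Fin k) (Fin k) F)ˣ) : Matrix (Fin k) (Fin k) F) *ᵥ x = a⁻¹ • x := by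
  have h1 := congrArg (((P⁻¹ : (Matrix (Fin k) (Fin k) F)ˣ) : Matrix (Fin k) (Fin k) F) *ᵥ ·) h
  simp only [mulVec_mulVec, P.inv_mul, one_mulVec, mulVec_smul] at h1
  exact ((inv_smul_eq_iff₀ ha).2 h1).symm

theorem blocks_conj [Finite F] [NeZero k] {H : Subgroup (Mat F k t)ˣ} (hH : 𝕘.Over H) (hk : 3 ≤ k)
    (h : 𝕘.Hyp v v') {d : (Mat F k t)ˣ} (hd : 𝕘.CommN l v v' (d : Mat F k t)) {P : (Matrix (Fin k) (Fin k) F)ˣ}
    (hP : P ∈ 𝕘.Om) {a : F} (ha : a ≠ 0) (hPv : (P : Matrix (Fin k) (Fin k) F) *ᵥ v = a • v)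
    (hy : d * slU l P * d⁻¹ * (slU l P)⁻¹ ∈ H) : 𝕘.IsRad H l v (d * slU l P * d⁻¹ * (slU l P)⁻¹) := by
  have hPO : P ∈ 𝕘.O := (Subgroup.commutator_le_self 𝕘.O) hP
  have hPiv := inv_eigen ha hPv
  have hPPi : ∀ y, (P : Matrix (Fin k) (Fin k) F) *ᵥ
      (((P⁻¹ : (Matrix (Fin k) (Fin k) F)ˣ) : Matrix (Fin k) (Fin k) F) *ᵥ y) = y := fun y => by
    rw [mulVec_mulVec, P.mul_inv, one_mulVec]
  have hval : ((d * slU l P * d⁻¹ * (slU l P)⁻¹ : (Mat F k t)ˣ) : Mat F k t) =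
      (d : Mat F k t) * sl l (P : Matrix (Fin k) (Fin k) F) * ((d⁻¹ : (Mat F k t)ˣ) : Mat F k t) *
        sl l ((P⁻¹ : (Matrix (Fin k) (Fin k) F)ˣ) : Matrix (Fin k) (Fin k) F) := by
    simp only [Units.val_mul, slU_val, slU_inv]
  set D := (d : Mat F k t)
  set D' := ((d⁻¹ : (Mat F k t)ˣ) : Mat F k t)
  set Pi := ((P⁻¹ : (Matrix (Fin k) (Fin k) F)ˣ) : Matrix (Fin k) (Fin k) F)
  set A := 𝕘.ct l v v' D
  set A' := 𝕘.ct l v v' D'
  have hA' : A * A' = 1 := hd.A_inv h hk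
  have hline : ∀ (u b : Fin k → F) (K : Mat F k t), D * sl l (P : Matrix (Fin k) (Fin k) F) *
      (sl l (𝕘.tau u b) * K) = D * sl l (𝕘.tau ((P : Matrix (Fin k) (Fin k) F) *ᵥ u) b) * K := fun u b K => by
    rw [mul_assoc D, ← mul_assoc (sl l _) (sl l _), sl_mul, mul_tau, ← mul_assoc]
  refine ⟨hy, RadZ.of_iso (hH.iso _ hy) (fun x => ?_) (fun x y hx hyv => ?_)⟩
  · obtain ⟨b, hb⟩ := 𝕘.exists_one h.v_ne
    have e : D * sl l (P : Matrix (Fin k) (Fin k) F) * D' * sl l Pi * sl l (𝕘.tau v b) = sl l (𝕘.tau v b) := by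
      rw [mul_assoc (_ * D'), sl_mul, mul_tau, hPiv, tau_smul_left, sl_smul, mul_smul_comm,
        mul_assoc (D * sl l _) D', hd.inv.mul_line h hk, hline, hPv, tau_smul_left, sl_smul, mul_smul_comm,
        smul_mul_assoc, smul_smul, inv_mul_cancel₀ ha, one_smul, hd.mul_line h hk, mul_assoc, hA', mul_one]
    have hb' : 𝕘.β b v = 1 := by rw [β_comm]; exact hb
    have h1 := congrArg (𝕘.ct l x v) e
    rw [ct_sl_right, tau_mulVec, hb', one_smul, ct_sl, tau_mulVec, hb', one_smul] at h1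
    rw [hval, ct_sub, h1, 𝕘.ct_of_off (off_one l), sub_self]
  · rcases eq_or_ne y 0 with rfl | hy0
    · exact 𝕘.ct_zero_right _ _ _
    obtain ⟨b, hb⟩ := 𝕘.exists_one hy0
    have hb' : 𝕘.β b y = 1 := by rw [β_comm]; exact hb
    have hy' : 𝕘.β v (Pi *ᵥ y) = 0 := by
      have h1 : 𝕘.β (Pi *ᵥ v) (Pi *ᵥ y) = 𝕘.β v y := (𝕘.O.inv_mem hPO) v y
      rw [hPiv, β_smul_left, hyv] at h1
      exact (mul_eq_zero.1 h1).resolve_left (inv_ne_zero ha)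
    obtain ⟨K, hK, eK⟩ := hd.inv.mul_perp h hk hy' b
    obtain ⟨K', hK', eK'⟩ := hd.mul_perp h hk hyv b
    have e : D * sl l (P : Matrix (Fin k) (Fin k) F) * D' * sl l Pi * sl l (𝕘.tau y b) =
        sl l (𝕘.tau y b) + sl l (𝕘.tau v b) * (K' * A' + a • (A * K)) := by
      rw [mul_assoc (_ * D'), sl_mul, mul_tau, mul_assoc (D * sl l _) D', eK, mul_add, hline, hline, hPPi, hPv,
        tau_smul_left, sl_smul, mul_smul_comm, hd.mul_line h hk, eK', add_mul, mul_assoc (sl l (𝕘.tau y b)), hA',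
        mul_one, smul_mul_assoc, mul_assoc, mul_assoc, mul_add, mul_smul_comm, add_assoc]
    have hKo : Off l (K' * A' + a • (A * K)) :=
      (hK'.mul (𝕘.ct_off _ _ _ _)).add (((𝕘.ct_off _ _ _ _).mul hK).smul _)
    have h1 := congrArg (𝕘.ct l x y) e
    rw [ct_sl_right, tau_mulVec, hb', one_smul, ct_add, ct_sl, 𝕘.ct_sl_mul hKo, tau_mulVec, tau_mulVec, hb',
      one_smul, one_smul, 𝕘.β_comm v x, hx, zero_smul, add_zero] at h1
    rw [hval, ct_sub, h1, 𝕘.ct_of_off (off_one l), sub_self]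

/-- An element commuting with the skew maps whose commutator with the slot lies in the group has proportional
middle part. -/
theorem CommN.prop [Finite F] [NeZero k] {H : Subgroup (Mat F k t)ˣ} (hH : 𝕘.Over H) (hk : 3 ≤ k)
    (hno : 𝕘.NoRoot H) (h : 𝕘.Hyp v v') {d : (Mat F k t)ˣ} (hd : 𝕘.CommN l v v' (d : Mat F k t))
    (hnorm : ∀ P ∈ 𝕘.Om, d * slU l P * d⁻¹ * (slU l P)⁻¹ ∈ H) :
    ∃ b, 𝕘.InU v v' b ∧
      ∀ z, 𝕘.InU v v' z → 𝕘.ct l z v' (d : Mat F k t) = 𝕘.β b z • 𝕘.ct l v v' (d : Mat F k t) := by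
  have hB := hH.big hk
  set D := (d : Mat F k t)
  set A := 𝕘.ct l v v' D with hA
  have hsc : ∀ z, 𝕘.InU v v' z → 𝕘.β z z ≠ 0 → ∃ c : F, 𝕘.ct l z v' D = c • A := by
    intro z hz hzn
    obtain ⟨P, hP, a, b, ha, -, hab, hPv, hPz⟩ := h.exists_scale hB hz hzn
    have hPO : P ∈ 𝕘.O := (Subgroup.commutator_le_self 𝕘.O) hP
    have hb : b ≠ 0 := fun e => by
      have := hPO z z
      rw [hPz, e, zero_smul, β_zero_left] at this
      exact hzn this.symm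
    have hr := blocks_conj hH hk h hd hP ha hPv (hnorm P hP)
    obtain ⟨e, he, hre⟩ := hH.rad_eq hk h hno hr
    set Pm := (P : Matrix (Fin k) (Fin k) F)
    have e1 : D * sl l Pm = sl l (𝕘.ue v e) * sl l Pm * D := by
      have h1 : d * slU l P = slU l (𝕘.ueU h.vv he.1) * slU l P * d := by
        rw [← hre]; group
      have h2 := congrArg Units.val h1
      simpa only [Units.val_mul, slU_val, ueU_val] using h2
    -- the image of `v'`
    set u := Pm *ᵥ v' - a⁻¹ • v' with hudef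
    have hPu : Pm *ᵥ v' = a⁻¹ • v' + u := by rw [hudef]; abel
    have hu : 𝕘.β v u = 0 := by
      have h1 := hPO v v'
      rw [hPv, β_smul_left, h.vw] at h1
      rw [hudef, β_sub_right, β_smul_right, h.vw, mul_one, eq_inv_of_mul_eq_one_right h1, sub_self]
    have hzu : 𝕘.β z u = 0 := by
      have h1 := hPO z v'
      rw [hPz, β_smul_left, hz.comm.2, mul_eq_zero] at h1
      rw [hudef, β_sub_right, β_smul_right, h1.resolve_left hb, hz.comm.2, mul_zero, sub_zero]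
    have hlhs : 𝕘.ct l z v' (D * sl l Pm) = a⁻¹ • 𝕘.ct l z v' D := by
      rw [ct_sl_right, hPu, ct_add_right, ct_smul_right, (hd.table h hk).2.2.1 z u hz.1 hu, hzu, zero_smul, add_zero]
    have hadj : 𝕘.adjD (𝕘.ue v e * Pm) *ᵥ z = b⁻¹ • z + (-(𝕘.β e z * a⁻¹)) • v := by
      have e2 := adjD_unit (P := 𝕘.ueU h.vv he.1) (𝕘.ue_iso h.vv he.1)
      rw [ueU_val, ueU_inv] at e2
      rw [adjD_mul, adjD_unit hPO, e2, ← mulVec_mulVec, ue_mulVec, hz.1, zero_smul, mul_zero, zero_smul, sub_zero,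
        sub_zero, mulVec_add, mulVec_smul, inv_eigen hb hPz, inv_eigen ha hPv, smul_smul, β_neg_left, neg_mul]
    rw [e1, sl_mul, ct_sl_left, hadj, ct_add_left, ct_smul_left, ct_smul_left] at hlhs
    have hne : b⁻¹ - a⁻¹ ≠ 0 := fun e' => hab (by rw [inv_injective (sub_eq_zero.1 e')])
    refine ⟨(b⁻¹ - a⁻¹)⁻¹ * (𝕘.β e z * a⁻¹), ?_⟩
    rw [← smul_smul, eq_inv_smul_iff₀ hne, sub_smul, hA]
    linear_combination (norm := module) hlhs
  have hall : ∀ z, 𝕘.InU v v' z → ∃ c : F, 𝕘.ct l z v' D = c • A := by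
    intro z hz
    obtain ⟨p, q, hp, hq, hpn, hqn, rfl⟩ := h.split hk hz
    obtain ⟨c, hc⟩ := hsc p hp hpn
    rcases hqn with rfl | hqn
    · exact ⟨c, by rw [add_zero, hc]⟩
    obtain ⟨c', hc'⟩ := hsc q hq hqn
    exact ⟨c + c', by rw [ct_add_left, hc, hc', add_smul]⟩
  -- linearity
  obtain ⟨i, i', hii⟩ : ∃ i i', A i i' ≠ 0 := by
    by_contra hh
    push Not at hh
    have h1 := hd.A_inv h hk
    rw [show 𝕘.ct l v v' D = 0 from Matrix.ext hh, zero_mul] at h1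
    exact zero_ne_one h1
  obtain ⟨g, hg⟩ := 𝕘.unit
  let φ : (Fin k → F) →ₗ[F] F :=
    { toFun := fun z => 𝕘.ct l (𝕘.pr v v' z) v' D i i' / A i i'
      map_add' := fun p q => by
        rw [show 𝕘.pr v v' (p + q) = 𝕘.pr v v' p + 𝕘.pr v v' q by simp only [pr, β_add_right, add_smul]; abel,
          ct_add_left, Matrix.add_apply, add_div]
      map_smul' := fun s p => by
        rw [show 𝕘.pr v v' (s • p) = s • 𝕘.pr v v' p by simp only [pr, β_smul_right, smul_sub, smul_smul],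
          ct_smul_left, Matrix.smul_apply, smul_eq_mul, RingHom.id_apply, smul_eq_mul, mul_div_assoc] }
  set b := (↑g⁻¹ : Matrix (Fin k) (Fin k) F) *ᵥ fun q => φ (Pi.single q 1)
  have hb : ∀ z, 𝕘.β b z = φ z := fun z => by
    rw [β_comm, β, mulVec_mulVec, ← hg, g.mul_inv, one_mulVec]
    conv_rhs => rw [← Finset.univ_sum_single z, map_sum]
    refine Finset.sum_congr rfl fun q _ => ?_
    rw [← smul_eq_mul, ← map_smul]
    congr 1
    funext q'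
    rcases eq_or_ne q' q with rfl | hq <;> simp [*]
  have hφ : ∀ u, 𝕘.pr v v' u = 0 → φ u = 0 := fun u hu => by
    show 𝕘.ct l (𝕘.pr v v' u) v' D i i' / A i i' = 0
    rw [hu, ct_zero_left, Matrix.zero_apply, zero_div]
  refine ⟨b, ⟨?_, ?_⟩, fun z hz => ?_⟩
  · rw [β_comm, hb, hφ]; simp [pr, h.vv, h.wv]
  · rw [β_comm, hb, hφ]; simp [pr, h.ww, h.vw]
  · obtain ⟨c, hc⟩ := hall z hz
    rw [hb, hc]
    congr 1
    show c = 𝕘.ct l (𝕘.pr v v' z) v' D i i' / A i i'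
    rw [show 𝕘.pr v v' z = z by rw [pr, hz.1, hz.2, zero_smul, zero_smul, sub_zero, sub_zero], hc, Matrix.smul_apply,
      smul_eq_mul, mul_div_cancel_right₀ _ hii]

end Gram

end Cfsg.Agent.H24.OWr
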