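import Cfsg.Agent.H24.OWr.Rank
import Cfsg.Agent.H24.OWr.Bad
import Mathlib.Algebra.CharP.Lemmas
import Mathlib.FieldTheory.Finite.Basic

/-!
A conjugate of a slot Siegel element which is monomial lies in one slot.
-/

set_option autoImplicit false
set_option linter.unusedVariables false
set_option linter.unusedSimpArgs false
set_option linter.style.haveILetI false

namespace Cfsg.Agent.H24.OWr

open Matrix Finset
open Cfsg.Agent.Aschbacher (pureMat pureVec slotMat pureGL factorPerm factorPermGL)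
open Cfsg.Agent.H24.Wreath (Mat sl Off off_one off_sl sl_mul sl_one sl_add sl_smul sl_zero sl_neg sl_sub
  sl_injective off_pureMat pureMat_eq_sl_mul)

variable {F : Type*} [Field F] {k t : ℕ}

theorem rank_add_le' {ι : Type*} [Fintype ι] (A B : Matrix ι ι F) : (A + B).rank ≤ A.rank + B.rank := by
  have h : LinearMap.range (A + B).mulVecLin ≤ LinearMap.range A.mulVecLin ⊔ LinearMap.range B.mulVecLin := by
    rintro _ ⟨u, rfl⟩
    rw [Matrix.mulVecLin_apply, add_mulVec]
    exact Submodule.add_mem_sup ⟨u, rfl⟩ ⟨u, rfl⟩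
  exact (Submodule.finrank_mono h).trans (Submodule.finrank_add_le_finrank_add_finrank _ _)

theorem rank_conj {ι : Type*} [Fintype ι] [DecidableEq ι] (x : (Matrix ι ι F)ˣ) (A : Matrix ι ι F) :
    (((x⁻¹ : (Matrix ι ι F)ˣ) : Matrix ι ι F) * A * (x : Matrix ι ι F)).rank = A.rank := by
  rw [Matrix.rank_mul_eq_left_of_isUnit_det _ _ ((Matrix.isUnit_iff_isUnit_det _).1 x.isUnit),
    Matrix.rank_mul_eq_right_of_isUnit_det _ _ ((Matrix.isUnit_iff_isUnit_det _).1 x⁻¹.isUnit)]

theorem exists_dot {S : Submodule F (Fin k → F)} {x : Fin k → F} (hx : x ∉ S) :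
    ∃ p, x ⬝ᵥ p = 1 ∧ ∀ y ∈ S, y ⬝ᵥ p = 0 := by
  obtain ⟨φ, hφ, hle⟩ := Submodule.exists_dual_map_eq_bot_of_notMem hx inferInstance
  have hle' : ∀ y ∈ S, φ y = 0 := fun y hy => (Submodule.mem_bot F).1 (hle ▸ Submodule.mem_map_of_mem hy)
  have hdot : ∀ y, (y ⬝ᵥ fun q => (φ x)⁻¹ * φ (Pi.single q 1)) = (φ x)⁻¹ * φ y := fun y => by
    conv_rhs => rw [← Finset.univ_sum_single y, map_sum, Finset.mul_sum]
    refine Finset.sum_congr rfl fun q _ => ?_
    rw [show Pi.single q (y q) = y q • (Pi.single q (1 : F) : Fin k → F) by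
      funext q'; rcases eq_or_ne q' q with rfl | hq <;> simp [*], map_smul, smul_eq_mul]
    ring
  refine ⟨fun q => (φ x)⁻¹ * φ (Pi.single q 1), ?_, fun y hy => ?_⟩
  · rw [hdot, inv_mul_cancel₀ hφ]
  · rw [hdot, hle' y hy, mul_zero]

theorem exists_dot_two {x y : Fin k → F} (hx : x ≠ 0) (hy : y ≠ 0) : ∃ p, x ⬝ᵥ p ≠ 0 ∧ y ⬝ᵥ p ≠ 0 := by
  have h : ∀ z : Fin k → F, z ≠ 0 → ∃ p, z ⬝ᵥ p = 1 := fun z hz =>
    (exists_dot (S := (⊥ : Submodule F (Fin k → F))) (by simpa using hz)).imp fun _ hp => hp.1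
  obtain ⟨p, hp⟩ := h x hx
  obtain ⟨q, hq⟩ := h y hy
  by_cases h1 : y ⬝ᵥ p = 0
  · by_cases h2 : x ⬝ᵥ q = 0
    · exact ⟨p + q, by rw [dotProduct_add, hp, h2, add_zero]; exact one_ne_zero,
        by rw [dotProduct_add, hq, h1, zero_add]; exact one_ne_zero⟩
    · exact ⟨q, h2, by rw [hq]; exact one_ne_zero⟩
  · exact ⟨p, by rw [hp]; exact one_ne_zero, h1⟩

/-- A pure vector is not a combination of three pure vectors independent in two slots. -/
theorem no_sum {i i' : Fin t} (hne : i ≠ i') (A B C D : Fin t → Fin k → F) {a b c : F} (ha : a ≠ 0) (hb : b ≠ 0)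
    (hA : ∀ m, A m ≠ 0) (hB : ∀ m, B m ≠ 0)
    (hi : A i ∉ Submodule.span F {B i, C i} ∧ B i ∉ Submodule.span F {A i, C i})
    (hi' : A i' ∉ Submodule.span F {B i', C i'} ∧ B i' ∉ Submodule.span F {A i', C i'})
    (h : pureVec D = a • pureVec A + b • pureVec B + c • pureVec C) : False := by
  classical
  choose ψ hψA hψB using fun m => exists_dot_two (hA m) (hB m)
  obtain ⟨p, hp, hp0⟩ := exists_dot hi.1
  obtain ⟨q, hq, hq0⟩ := exists_dot hi.2
  obtain ⟨p', hp', hp0'⟩ := exists_dot hi'.1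
  obtain ⟨q', hq', hq0'⟩ := exists_dot hi'.2
  set s : Finset (Fin t) := (univ.erase i).erase i' with hs
  have key : ∀ (e e' : Fin k → F), (D i ⬝ᵥ e) * ((D i' ⬝ᵥ e') * ∏ m ∈ s, D m ⬝ᵥ ψ m) =
      a * ((A i ⬝ᵥ e) * ((A i' ⬝ᵥ e') * ∏ m ∈ s, A m ⬝ᵥ ψ m)) +
      b * ((B i ⬝ᵥ e) * ((B i' ⬝ᵥ e') * ∏ m ∈ s, B m ⬝ᵥ ψ m)) +
      c * ((C i ⬝ᵥ e) * ((C i' ⬝ᵥ e') * ∏ m ∈ s, C m ⬝ᵥ ψ m)) := by
    intro e e'
    have hpv : ∀ u : Fin t → Fin k → F, pureVec u ⬝ᵥ pureVec (Function.update (Function.update ψ i' e') i e) =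
        (u i ⬝ᵥ e) * ((u i' ⬝ᵥ e') * ∏ m ∈ s, u m ⬝ᵥ ψ m) := fun u => by
      rw [Aschbacher.pureVec_dot, ← Finset.mul_prod_erase _ _ (mem_univ i),
        ← Finset.mul_prod_erase _ _ (mem_erase.2 ⟨hne.symm, mem_univ i'⟩), Function.update_self,
        Function.update_of_ne hne.symm, Function.update_self]
      congr 2
      exact Finset.prod_congr rfl fun m hm => by
        simp only [hs, mem_erase] at hm
        rw [Function.update_of_ne hm.2.1, Function.update_of_ne hm.1]
    have h1 := congrArg (fun V => V ⬝ᵥ pureVec (Function.update (Function.update ψ i' e') i e)) h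
    simpa only [add_dotProduct, smul_dotProduct, smul_eq_mul, hpv] using h1
  have memA : B i ∈ Submodule.span F {B i, C i} ∧ C i ∈ Submodule.span F {B i, C i} ∧
      A i ∈ Submodule.span F {A i, C i} ∧ C i ∈ Submodule.span F {A i, C i} :=
    ⟨Submodule.subset_span (by simp), Submodule.subset_span (by simp), Submodule.subset_span (by simp),
      Submodule.subset_span (by simp)⟩
  have memA' : B i' ∈ Submodule.span F {B i', C i'} ∧ C i' ∈ Submodule.span F {B i', C i'} ∧
      A i' ∈ Submodule.span F {A i', C i'} ∧ C i' ∈ Submodule.span F {A i', C i'} :=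
    ⟨Submodule.subset_span (by simp), Submodule.subset_span (by simp), Submodule.subset_span (by simp),
      Submodule.subset_span (by simp)⟩
  have h11 := key p p'
  have h22 := key q q'
  have h12 := key p q'
  simp only [hp, hq, hp', hq', hp0 _ memA.1, hp0 _ memA.2.1, hq0 _ memA.2.2.1, hq0 _ memA.2.2.2,
    hp0' _ memA'.1, hp0' _ memA'.2.1, hq0' _ memA'.2.2.1, hq0' _ memA'.2.2.2, one_mul, zero_mul, mul_zero,
    add_zero, zero_add] at h11 h22 h12
  have hrA : (∏ m ∈ s, A m ⬝ᵥ ψ m) ≠ 0 := Finset.prod_ne_zero_iff.2 fun m _ => hψA m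
  have hrB : (∏ m ∈ s, B m ⬝ᵥ ψ m) ≠ 0 := Finset.prod_ne_zero_iff.2 fun m _ => hψB m
  have n11 : (D i ⬝ᵥ p) ≠ 0 := fun e => mul_ne_zero ha hrA (by rw [← h11, e, zero_mul])
  have n22 : (D i' ⬝ᵥ q') * ∏ m ∈ s, D m ⬝ᵥ ψ m ≠ 0 := fun e => mul_ne_zero hb hrB (by rw [← h22, e, mul_zero])
  exact mul_ne_zero n11 n22 h12

/-- Images of an independent triple are independent. -/
theorem sep_of_li {x y z : Fin k → F} (h : LinearIndependent F ![x, y, z]) :
    x ∉ Submodule.span F {y, z} ∧ y ∉ Submodule.span F {x, z} ∧ z ∉ Submodule.span F {x, y} := by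
  have h0 := h.notMem_span_image (s := {1, 2}) (x := 0) (by simp)
  have h1 := h.notMem_span_image (s := {0, 2}) (x := 1) (by simp)
  have h2 := h.notMem_span_image (s := {0, 1}) (x := 2) (by simp)
  simp only [Set.image_pair] at h0 h1 h2
  exact ⟨h0, h1, h2⟩

theorem li_mul {x y z : Fin k → F} (h : LinearIndependent F ![x, y, z]) {M : Matrix (Fin k) (Fin k) F}
    (hM : IsUnit M) : LinearIndependent F ![M *ᵥ x, M *ᵥ y, M *ᵥ z] := by
  have h1 := h.map' M.mulVecLin (LinearMap.ker_eq_bot.2 (Matrix.mulVec_injective_iff_isUnit.2 hM))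
  have e : (M.mulVecLin ∘ ![x, y, z]) = ![M *ᵥ x, M *ᵥ y, M *ᵥ z] := by
    funext i
    fin_cases i <;> rfl
  exact e ▸ h1

/-- The entries of a monomial matrix. -/
theorem mono_apply (A : Fin t → Matrix (Fin k) (Fin k) F) (π : Equiv.Perm (Fin t)) (y x : Fin t → Fin k) :
    (pureMat A * factorPerm π : Mat F k t) y x = ∏ m, A m (y m) (x (π.symm m)) := by
  rw [Matrix.mul_apply]
  have hkey : ∀ w : Fin t → Fin k, (x = w ∘ π) ↔ (w = x ∘ π.symm) := by
    intro w; constructor
    · rintro rfl; simp [Function.comp_assoc]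
    · rintro rfl; simp [Function.comp_assoc]
  simp only [factorPerm, Matrix.of_apply, hkey, mul_ite, mul_one, mul_zero, Finset.sum_ite_eq', mem_univ, if_true,
    pureMat, Function.comp_apply]

namespace Gram

variable (𝕘 : Gram F k)

theorem adj_pure (X : Fin t → Matrix (Fin k) (Fin k) F) :
    𝕘.adj (pureMat X : Mat F k t) = pureMat fun i => 𝕘.adjD (X i) :=
  𝕘.adj_eq (by
    rw [Aschbacher.pureMat_transpose, big, Aschbacher.pureMat_mul, Aschbacher.pureMat_mul]
    congr 1
    funext i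
    rw [adjD, ← mul_assoc, ← mul_assoc, Matrix.mul_nonsing_inv _ 𝕘.det_G, one_mul])

variable {𝕘} {v v' z : Fin k → F}

theorem mono_pow (A : Fin t → (Matrix (Fin k) (Fin k) F)ˣ) (π : Equiv.Perm (Fin t)) : ∀ n : ℕ,
    ∃ B : Fin t → (Matrix (Fin k) (Fin k) F)ˣ,
      (pureMat (fun j => (A j : Matrix (Fin k) (Fin k) F)) * factorPerm π : Mat F k t) ^ n =
        pureMat (fun j => (B j : Matrix (Fin k) (Fin k) F)) * factorPerm (π ^ n)
  | 0 => ⟨fun _ => 1, by simp [fp_one, Aschbacher.pureMat_one]⟩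
  | n + 1 => by
    obtain ⟨B, hB⟩ := mono_pow A π n
    refine ⟨fun j => B j * A ((π ^ n).symm j), ?_⟩
    rw [pow_succ, hB, pow_succ π, mul_assoc, ← mul_assoc (factorPerm (π ^ n)), Aschbacher.factorPerm_conj, mul_assoc,
      fp_mul, ← mul_assoc, Aschbacher.pureMat_mul]
    simp only [Units.val_mul]

theorem perm_eq_one (hk : 3 ≤ k) (h : 𝕘.Hyp v v') {A : Fin t → (Matrix (Fin k) (Fin k) F)ˣ}
    {π : Equiv.Perm (Fin t)}
    (e : (pureMat (fun j => (A j : Matrix (Fin k) (Fin k) F)) * factorPerm π : Mat F k t) = 1) : π = 1 := by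
  refine Equiv.ext fun i => ?_
  by_contra hne
  have hg : (pureGL A * factorPermGL π : (Mat F k t)ˣ) = 1 := Units.ext e
  have h1 := sl_conj_mono A π i (𝕘.tau v v)
  rw [hg, inv_one, Units.val_one, one_mul, mul_one] at h1
  obtain ⟨c, hc⟩ := Aschbacher.slot_eq_smul_one (by omega : 0 < k) (fun e' => hne e'.symm)
    (𝕘.tau_ne_zero h.v_ne h.v_ne) h1
  have h2 := congrArg (fun M => M *ᵥ v') hc
  have h3 := congrArg (fun M => M *ᵥ v) hc
  simp only [tau_mulVec, h.vw, h.vv, one_smul, zero_smul, smul_mulVec, one_mulVec] at h2 h3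
  have hc0 : c = 0 := (smul_eq_zero.1 h3.symm).resolve_right h.v_ne
  rw [hc0, zero_smul] at h2
  exact h.v_ne h2

theorem ueU_pow {v z : Fin k → F} (hv : 𝕘.β v v = 0) (hz : 𝕘.β v z = 0) : ∀ n : ℕ,
    (𝕘.ue v z) ^ n = 𝕘.ue v ((n : F) • z)
  | 0 => by simp [ue_zero]
  | n + 1 => by
    rw [pow_succ, ueU_pow hv hz n, ue_mul 𝕘 hv (by rw [β_smul_right, hz, mul_zero]) hz, Nat.cast_succ, add_smul,
      one_smul]

theorem rank_le_two (v z : Fin k → F) (b : F) : (𝕘.N v z - b • 𝕘.tau v v).rank ≤ 2 := by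
  have e : 𝕘.N v z - b • 𝕘.tau v v = 𝕘.tau v (z - b • v) + 𝕘.tau (-z) v := by
    rw [N, sub_eq_add_neg z (b • v), tau_add_right, ← neg_smul b v, tau_smul_right, ← neg_one_smul F z, tau_smul_left]
    module
  rw [e]
  exact (rank_add_le' _ _).trans (Nat.add_le_add (Matrix.rank_vecMulVec_le _ _) (Matrix.rank_vecMulVec_le _ _))

/-- No square-zero unipotent isometries in small dimensions. -/
theorem sq_ne_zero [Finite F] (hB : 𝕘.Big) (hk : k = 3 ∨ k = 4) {Q : Matrix (Fin k) (Fin k) F} (hQ : 𝕘.IsoD Q)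
    (hn : IsNilpotent (Q - 1)) (hne : Q - 1 ≠ 0) : (Q - 1) * (Q - 1) ≠ 0 := by
  intro h0
  have hs : 𝕘.adjD Q = 1 - (Q - 1) := by
    have h1 : Q * (1 - (Q - 1)) = 1 := by
      have : Q * (1 - (Q - 1)) = 1 - (Q - 1) * (Q - 1) := by noncomm_ring
      rw [this, h0, sub_zero]
    calc 𝕘.adjD Q = 𝕘.adjD Q * (Q * (1 - (Q - 1))) := by rw [h1, mul_one]
      _ = 1 - (Q - 1) := by rw [← mul_assoc, 𝕘.adjD_mul_of_iso hQ, one_mul]
  have hts : ∀ a b, 𝕘.β ((Q - 1) *ᵥ a) ((Q - 1) *ᵥ b) = 0 := fun a b => by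
    rw [sub_mulVec, one_mulVec, β_sub_left, β_adjD, hs, sub_mulVec, one_mulVec, β_sub_right, mulVec_mulVec,
      sub_sub_cancel_left, h0, zero_mulVec, β_zero_right, neg_zero]
  have h2 := 𝕘.two_le_rank_unip hQ hn hne
  obtain ⟨u, hu⟩ : ∃ u, (Q - 1) *ᵥ u ≠ 0 := by
    by_contra hh
    push Not at hh
    exact hne (Matrix.ext_iff_mulVec.2 fun u => by rw [hh, zero_mulVec])
  set x := (Q - 1) *ᵥ u with hx
  have hsub : LinearMap.range (Q - 1).mulVecLin ≤ F ∙ x := by
    rintro _ ⟨w, rfl⟩
    rw [Matrix.mulVecLin_apply, Submodule.mem_span_singleton]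
    rcases hk with hk | hk
    · obtain ⟨x', hh⟩ := 𝕘.exists_hyp hu (hts u u)
      obtain ⟨z, hz, hzn⟩ := hh.aniso (by omega)
      set y := (Q - 1) *ᵥ w
      have hxy : 𝕘.β x y = 0 := hts u w
      have hp := eq_smul_of_three 𝕘 hh hk hz hzn (𝕘.pr_inU hh y)
      have hpn : 𝕘.β (𝕘.pr x x' y) (𝕘.pr x x' y) = 0 := by
        simp [pr, hxy, β_sub_left, β_sub_right, β_smul_left, β_smul_right, hh.vv, hts w w, y, x, 𝕘.β_comm x y]
      rw [hp, β_smul_left, β_smul_right] at hpn
      have hc : 𝕘.β z (𝕘.pr x x' y) / 𝕘.β z z = 0 := by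
        have := mul_eq_zero.1 hpn
        rcases this with h' | h'
        · exact h'
        · exact (mul_eq_zero.1 h').resolve_right hzn
      rw [hc, zero_smul, pr, hxy, zero_smul, sub_zero, sub_eq_zero] at hp
      exact ⟨_, hp.symm⟩
    · obtain ⟨c, hc⟩ := hB.2.2 hk x _ hu (hts u u) (hts w w) (hts u w)
      exact ⟨c, hc.symm⟩
  have h3 := Submodule.finrank_mono hsub
  rw [finrank_span_singleton hu] at h3
  exact absurd (h2.trans h3) (by norm_num)

/-- A self-adjoint map of rank one is a multiple of a symmetric rank one map. -/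
theorem eq_tau_of_rank_one {A : Matrix (Fin k) (Fin k) F} (hA : A ≠ 0) (hr : A.rank ≤ 1) (hs : 𝕘.adjD A = A) :
    ∃ (c : F) (w : Fin k → F), c ≠ 0 ∧ w ≠ 0 ∧ A = c • 𝕘.tau w w := by
  obtain ⟨x, y, hx, hy, rfl⟩ : ∃ x y, x ≠ 0 ∧ y ≠ 0 ∧ A = 𝕘.tau x y := by
    by_contra hc
    push Not at hc
    exact absurd ((𝕘.two_le_rank hA hc).trans hr) (by norm_num)
  obtain ⟨a, ha⟩ := 𝕘.exists_one hx
  rw [adjD_tau] at hs
  have h1 := congrArg (fun M => M *ᵥ a) hs
  simp only [tau_mulVec, ha, one_smul] at h1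
  refine ⟨𝕘.β y a, x, fun e => hy (by rw [h1, e, zero_smul]), hx, ?_⟩
  conv_lhs => rw [h1, tau_smul_right]

variable {H : Subgroup (Mat F k t)ˣ} {j : Fin t}

/-- The conjugate of a slot Siegel element, as a matrix. -/
theorem conj_siegel (x : (Mat F k t)ˣ) (hv : 𝕘.β v v = 0) (hz : 𝕘.β v z = 0) :
    ((x⁻¹ * slU j (𝕘.ueU hv hz) * x : (Mat F k t)ˣ) : Mat F k t) - 1 =
      ((x⁻¹ : (Mat F k t)ˣ) : Mat F k t) * sl j (𝕘.N v z - (2⁻¹ * 𝕘.β z z) • 𝕘.tau v v) * (x : Mat F k t) := by
  rw [Units.val_mul, Units.val_mul, slU_val, ueU_val, ← ue_sub_one, sl_sub, sl_one, mul_sub, mul_one, sub_mul,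
    x.inv_mul]

/-- A monomial conjugate of the family of a slot Siegel element lies in one slot. -/
theorem classify [Finite F] [NeZero k] [NeZero t] (hH : 𝕘.Over H) (hk : 3 ≤ k) (h : 𝕘.Hyp v v')
    (hz : 𝕘.InU v v' z) (hzn : 𝕘.β z z ≠ 0) {x : (Mat F k t)ˣ} (hx : x ∈ H)
    (hmono : ∀ c : F, Mono ((x⁻¹ * slU j (𝕘.ueU h.vv (𝕘.inU_smul hz c).1) * x : (Mat F k t)ˣ) : Mat F k t)) :
    ∃ (l : Fin t) (w : Fin k → F) (c : F), Maps 𝕘 x j v l w c := by
  classical
  have hB := hH.big hk
  set p := ringChar F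
  have hp : p.Prime := CharP.char_is_prime F p
  haveI : Fact p.Prime := ⟨hp⟩
  haveI : Nonempty (Fin t → Fin k) := ⟨fun _ => ⟨0, by omega⟩⟩
  set a := k ^ (t - 1) with ha
  set xi := ((x⁻¹ : (Mat F k t)ˣ) : Mat F k t) with hxi
  set X := 𝕘.N v z - (2⁻¹ * 𝕘.β z z) • 𝕘.tau v v with hX
  set su : (Mat F k t)ˣ := x⁻¹ * slU j (𝕘.ueU h.vv hz.1) * x with hsu
  set s := (su : Mat F k t) with hs
  have hs1 : s - 1 = xi * sl j X * (x : Mat F k t) := conj_siegel x h.vv hz.1
  have hcj : ∀ P Q : Mat F k t, xi * P * (x : Mat F k t) * (xi * Q * (x : Mat F k t)) = xi * (P * Q) * (x : Mat F k t) :=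
    fun P Q => by simp only [xi, mul_assoc, Units.mul_inv_cancel_left]
  have hX2 : X * X = -𝕘.β z z • 𝕘.tau v v := by
    rw [hX, sub_mul, mul_sub, mul_sub, smul_mul_assoc, mul_smul_comm, smul_mul_assoc, mul_smul_comm,
      N_mul_N 𝕘 h.vv hz.1 hz.1, N_mul_tau 𝕘 h.vv hz.1, tau_mul_N 𝕘 h.vv hz.1, tau_sq 𝕘 h.vv]
    simp
  have hs2 : (s - 1) * (s - 1) = -𝕘.β z z • (xi * sl j (𝕘.tau v v) * (x : Mat F k t)) := by
    rw [hs1, hcj, sl_mul, hX2, sl_smul, mul_smul_comm, smul_mul_assoc]
  have hr1 : (s - 1).rank ≤ 2 * a := by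
    rw [hs1, hxi, rank_conj, rank_sl, mul_comm, ← ha]
    exact Nat.mul_le_mul_right _ (rank_le_two v z _)
  have hr2 : ((s - 1) * (s - 1)).rank ≤ a := by
    rw [hs1, hcj, hxi, rank_conj, sl_mul, rank_sl, hX2, ← tau_smul_left, ← ha]
    exact (Nat.mul_le_mul_left _ (Matrix.rank_vecMulVec_le _ _)).trans (by rw [mul_one])
  have hsp : s ^ p = 1 := by
    have hu : (slU j (𝕘.ueU h.vv hz.1) : (Mat F k t)ˣ) ^ p = 1 := by
      rw [← map_pow, show 𝕘.ueU h.vv hz.1 ^ p = 1 from Units.ext (by
        rw [Units.val_pow_eq_pow_val, ueU_val, ueU_pow h.vv hz.1, CharP.cast_eq_zero, zero_smul, ue_zero,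
          Units.val_one]), map_one]
    have h1 : su ^ p = 1 := by
      have := conj_pow (a := x⁻¹) (b := slU j (𝕘.ueU h.vv hz.1)) (i := p)
      rw [inv_inv] at this
      rw [hsu, this, hu, mul_one, inv_mul_cancel]
    rw [hs, ← Units.val_pow_eq_pow_val, h1, Units.val_one]
  obtain ⟨A, π, hsA⟩ : Mono s := by
    have := hmono 1
    simp only [one_smul] at this
    exact this
  have hiso : 𝕘.Iso s := hH.iso su
    (H.mul_mem (H.mul_mem (H.inv_mem hx) (hH.om j _ (𝕘.ueU_mem hB h.vv hz.1))) hx)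
  -- the relation for more than three elements
  have hrel : 3 < Nat.card F → ∃ α ε γ : F, α ≠ 0 ∧ ε ≠ 0 ∧ Mono (α • 1 + ε • s + γ • (s * s)) := by
    intro hq
    obtain ⟨c, hc0, hc1, hc2⟩ : ∃ c : F, c ≠ 0 ∧ c ≠ 1 ∧ c ≠ 2 := by
      letI : Fintype F := Fintype.ofFinite F
      rw [Nat.card_eq_fintype_card] at hq
      have hcard : ({0, 1, 2} : Finset F).card < Fintype.card F := lt_of_le_of_lt Finset.card_le_three hq
      rw [← Finset.card_univ] at hcard
      obtain ⟨c, -, hc⟩ := Finset.exists_mem_notMem_of_card_lt_card hcard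
      simp only [Finset.mem_insert, Finset.mem_singleton, not_or] at hc
      exact ⟨c, hc⟩
    have h2 := 𝕘.two
    refine ⟨(c - 1) * (c - 2) * 2⁻¹, c * (2 - c), (c * c - c) * 2⁻¹,
      mul_ne_zero (mul_ne_zero (sub_ne_zero.2 hc1) (sub_ne_zero.2 hc2)) (inv_ne_zero h2),
      mul_ne_zero hc0 (sub_ne_zero.2 hc2.symm), ?_⟩
    have hc' := hmono c
    have e := conj_siegel (j := j) x h.vv (𝕘.inU_smul hz c).1
    have e2 : 𝕘.N v (c • z) - (2⁻¹ * 𝕘.β (c • z) (c • z)) • 𝕘.tau v v = c • X + ((c * c - c) * 2⁻¹) • (X * X) := by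
      rw [hX2, hX, N_smul, β_smul_left, β_smul_right]
      match_scalars
      · ring
      · field_simp; ring
    have e3 : ((x⁻¹ * slU j (𝕘.ueU h.vv (𝕘.inU_smul hz c).1) * x : (Mat F k t)ˣ) : Mat F k t) =
        1 + c • (s - 1) + ((c * c - c) * 2⁻¹) • ((s - 1) * (s - 1)) := by
      rw [← sub_add_cancel (((x⁻¹ * slU j (𝕘.ueU h.vv (𝕘.inU_smul hz c).1) * x : (Mat F k t)ˣ) : Mat F k t)) 1, e,
        e2, hs1, hcj, sl_add, sl_smul, sl_smul, sl_mul, mul_add, add_mul, mul_smul_comm, mul_smul_comm,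
        smul_mul_assoc, smul_mul_assoc]
      abel
    convert hc' using 1
    rw [e3]
    simp only [mul_sub, sub_mul, mul_one, one_mul]
    match_scalars <;> field_simp <;> ring
  -- the permutation is trivial
  have hπp : π ^ p = 1 := by
    obtain ⟨B, hBp⟩ := mono_pow A π p
    rw [← hsA, hsp] at hBp
    exact perm_eq_one hk h hBp.symm
  have hπ : π = 1 := by
    by_contra hne
    obtain ⟨i0, hi0⟩ : ∃ i, π i ≠ i := not_forall.1 fun hh => hne (Equiv.ext hh)
    have hp2 : p ≠ 2 := fun e => 𝕘.two (by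
      have h0 : ((p : ℕ) : F) = 0 := CharP.cast_eq_zero F p
      rw [e] at h0
      exact_mod_cast h0)
    have hi2 : π (π i0) ≠ i0 := fun e2 => hi0 (by
      obtain ⟨m, hm⟩ := hp.odd_of_ne_two hp2
      have h2 : ∀ m, (π ^ (2 * m)) i0 = i0 := fun m => by
        induction m with
        | zero => rfl
        | succ m ih => rw [Nat.mul_succ, pow_add, Equiv.Perm.mul_apply, pow_two, Equiv.Perm.mul_apply, e2, ih]
      have h3 : (π ^ p) i0 = π i0 := by rw [hm, pow_succ', Equiv.Perm.mul_apply, h2]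
      rw [hπp] at h3
      exact h3.symm)
    set i1 := π i0 with hi1d
    set i2 := π i1 with hi2d
    have h10 : i1 ≠ i0 := hi0
    have h20 : i2 ≠ i0 := hi2
    have h21 : i2 ≠ i1 := fun e => hi0 (π.injective e)
    by_cases hq : 3 < Nat.card F
    · obtain ⟨α, ε, γ, hα, hε, D, ρ, hD⟩ := hrel hq
      set b0 : Fin k → F := Pi.single ⟨0, by omega⟩ 1
      set b1 : Fin k → F := Pi.single ⟨1, by omega⟩ 1
      set e2 : Fin k := ⟨2, by omega⟩
      have hli : ∀ y : Fin k → F, y e2 ≠ 0 → LinearIndependent F ![b1, b0, y] := by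
        intro y hy
        rw [Fintype.linearIndependent_iff]
        intro g hg
        rw [Fin.sum_univ_three] at hg
        simp only [Matrix.cons_val_zero, Matrix.cons_val_one, Matrix.cons_val_two, Matrix.head_cons,
          Matrix.tail_cons] at hg
        have g2 : g 2 = 0 := by
          have := congrFun hg e2
          simp [b0, b1, e2, Pi.single_apply, hy, Fin.ext_iff] at this
          exact this
        rw [g2, zero_smul, add_zero] at hg
        have g0 := congrFun hg ⟨1, by omega⟩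
        have g1 := congrFun hg ⟨0, by omega⟩
        simp [b0, b1, Pi.single_apply, Fin.ext_iff] at g0 g1
        intro i; fin_cases i <;> assumption
      set M0 := (A i0 : Matrix (Fin k) (Fin k) F)
      set M1 := (((A i2 * A i1)⁻¹ : (Matrix (Fin k) (Fin k) F)ˣ) : Matrix (Fin k) (Fin k) F)
      have hrow : ∀ (M : Matrix (Fin k) (Fin k) F), IsUnit M → M e2 ≠ 0 := fun M hM e0 => by
        obtain ⟨u, rfl⟩ := hM
        have := congrFun (congrFun u.mul_inv e2) e2
        rw [Matrix.mul_apply, Matrix.one_apply_eq] at this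
        simp [e0] at this
      obtain ⟨w, hw0, hw1⟩ := exists_dot_two (hrow M0 (A i0).isUnit) (hrow M1 (Units.isUnit _))
      let ω : Fin t → Fin k → F :=
        Function.update (Function.update (fun _ => w) i1 ((A i1 : Matrix (Fin k) (Fin k) F) *ᵥ b1)) i0 b0
      have hw : w ≠ 0 := fun e0 => hw0 (by rw [e0]; exact dotProduct_zero _)
      have hω0 : ω i0 = b0 := Function.update_self ..
      have hω1 : ω i1 = (A i1 : Matrix (Fin k) (Fin k) F) *ᵥ b1 := by
        simp only [ω, Function.update_of_ne h10, Function.update_self]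
      have hω2 : ∀ i, i ≠ i0 → i ≠ i1 → ω i = w := fun i a b => by
        simp only [ω, Function.update_of_ne a, Function.update_of_ne b]
      have hωne : ∀ i, ω i ≠ 0 := fun i => by
        rcases eq_or_ne i i0 with rfl | hi
        · rw [hω0]; simp [b0]
        rcases eq_or_ne i i1 with rfl | hi'
        · rw [hω1]
          exact fun e0 => by
            have := Matrix.mulVec_injective_iff_isUnit.2 (A i1).isUnit (e0.trans (mulVec_zero _).symm)
            simp [b1] at this
        · rw [hω2 i hi hi']; exact hw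
      let ω1 : Fin t → Fin k → F := fun i => (A i : Matrix (Fin k) (Fin k) F) *ᵥ ω (π.symm i)
      let ω2 : Fin t → Fin k → F := fun i => (A i : Matrix (Fin k) (Fin k) F) *ᵥ ω1 (π.symm i)
      have hω1ne : ∀ i, ω1 i ≠ 0 := fun i e0 => hωne (π.symm i)
        (Matrix.mulVec_injective_iff_isUnit.2 (A i).isUnit (e0.trans (mulVec_zero _).symm))
      have hsv : ∀ u, s *ᵥ pureVec u = pureVec fun i => (A i : Matrix (Fin k) (Fin k) F) *ᵥ u (π.symm i) :=
        fun u => by rw [hsA, ← mulVec_mulVec, Aschbacher.factorPerm_mulVec, Aschbacher.pureMat_mulVec]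
      have hsum : pureVec (fun i => (D i : Matrix (Fin k) (Fin k) F) *ᵥ ω (ρ.symm i)) =
          α • pureVec ω + ε • pureVec ω1 + γ • pureVec ω2 := by
        rw [← Aschbacher.pureMat_mulVec, ← Aschbacher.factorPerm_mulVec, mulVec_mulVec, ← hD, add_mulVec,
          add_mulVec, smul_mulVec, smul_mulVec, smul_mulVec, one_mulVec, ← mulVec_mulVec, hsv, hsv]
      have hs10 : π.symm i1 = i0 := by rw [hi1d, Equiv.symm_apply_apply]
      have hs21 : π.symm i2 = i1 := by rw [hi2d, Equiv.symm_apply_apply]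
      have hm0 : π.symm i0 ≠ i0 := fun e => h10 (by rw [hi1d]; conv_lhs => rw [← e, Equiv.apply_symm_apply])
      have hm1 : π.symm i0 ≠ i1 := fun e => h20 (by rw [hi2d, ← e, Equiv.apply_symm_apply])
      have hU : ∀ P : (Matrix (Fin k) (Fin k) F)ˣ, IsUnit (P : Matrix (Fin k) (Fin k) F) := fun P => P.isUnit
      have l1 := li_mul (hli (M0 *ᵥ w) hw0) (hU (A i1))
      have l2 := li_mul (hli (M1 *ᵥ w) hw1) (hU (A i2 * A i1))
      have q1 : ω i1 = (A i1 : Matrix (Fin k) (Fin k) F) *ᵥ b1 ∧ ω1 i1 = (A i1 : Matrix (Fin k) (Fin k) F) *ᵥ b0 ∧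
          ω2 i1 = (A i1 : Matrix (Fin k) (Fin k) F) *ᵥ (M0 *ᵥ w) := by
        refine ⟨hω1, ?_, ?_⟩
        · show _ *ᵥ ω (π.symm i1) = _
          rw [hs10, hω0]
        · show _ *ᵥ ((A (π.symm i1) : Matrix (Fin k) (Fin k) F) *ᵥ ω (π.symm (π.symm i1))) = _
          rw [hs10, hω2 _ hm0 hm1]
      set P21 : Matrix (Fin k) (Fin k) F := ((A i2 * A i1 : (Matrix (Fin k) (Fin k) F)ˣ) : Matrix (Fin k) (Fin k) F)
      have q2 : ω i2 = P21 *ᵥ (M1 *ᵥ w) ∧ ω1 i2 = P21 *ᵥ b1 ∧ ω2 i2 = P21 *ᵥ b0 := by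
        refine ⟨?_, ?_, ?_⟩
        · rw [hω2 _ h20 h21, mulVec_mulVec, ← Units.val_mul, mul_inv_cancel, Units.val_one, one_mulVec]
        · show _ *ᵥ ω (π.symm i2) = _
          rw [hs21, hω1, mulVec_mulVec, ← Units.val_mul]
        · show _ *ᵥ ((A (π.symm i2) : Matrix (Fin k) (Fin k) F) *ᵥ ω (π.symm (π.symm i2))) = _
          rw [hs21, hs10, hω0, mulVec_mulVec, ← Units.val_mul]
      obtain ⟨a1, a2, -⟩ := sep_of_li l1
      obtain ⟨c1, -, c3⟩ := sep_of_li l2
      refine no_sum h21.symm ω ω1 ω2 _ hα hε hωne hω1ne ?_ ?_ hsum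
      · rw [q1.1, q1.2.1, q1.2.2]; exact ⟨a1, a2⟩
      · rw [q2.1, q2.2.1, q2.2.2]
        refine ⟨c3, ?_⟩
        rw [Set.pair_comm]
        exact c1
    · obtain ⟨hF3, hk4⟩ := card_eq_three hB hq
      have hp3 : p = 3 := by
        letI : Fintype F := Fintype.ofFinite F
        obtain ⟨n, hn1, hn2⟩ := FiniteField.card F p
        rw [← Nat.card_eq_fintype_card, hF3] at hn2
        have hdvd : p ∣ 3 := ⟨p ^ ((n : ℕ) - 1), by rw [← pow_succ', show (n : ℕ) - 1 + 1 = n from Nat.sub_add_cancel n.2, ← hn2]⟩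
        exact (Nat.prime_dvd_prime_iff_eq hp Nat.prime_three).1 hdvd
      have h30 : π i2 = i0 := by
        have := congrArg (fun σ : Equiv.Perm (Fin t) => σ i0) hπp
        simpa [hp3, pow_succ, Equiv.Perm.mul_apply] using this
      -- the product along the cycle
      have hsq : s * s = pureMat (fun i => (A i : Matrix (Fin k) (Fin k) F) * (A (π.symm i) : Matrix (Fin k) (Fin k) F)) *
          factorPerm (π * π) := by
        rw [hsA, mul_assoc, ← mul_assoc (factorPerm π), Aschbacher.factorPerm_conj, mul_assoc, fp_mul, ← mul_assoc,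
          Aschbacher.pureMat_mul]
      have hπ3 : π * π * π = 1 := by
        rw [hp3] at hπp
        rw [← hπp, pow_succ, pow_two]
      have hcube : (pureMat fun i => (A i : Matrix (Fin k) (Fin k) F) * (A (π.symm i) : Matrix (Fin k) (Fin k) F) *
          (A ((π * π).symm i) : Matrix (Fin k) (Fin k) F) : Mat F k t) =
          pureMat fun _ => (1 : Matrix (Fin k) (Fin k) F) := by
        rw [hp3, show s ^ 3 = s * s * s by rw [pow_succ, pow_two], hsq, hsA, mul_assoc, ← mul_assoc (factorPerm (π * π)),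
          Aschbacher.factorPerm_conj, mul_assoc, fp_mul, hπ3, fp_one, mul_one, Aschbacher.pureMat_mul] at hsp
        rw [hsp, Aschbacher.pureMat_one]
      haveI : Nontrivial (Matrix (Fin k) (Fin k) F) := inferInstance
      obtain ⟨d, hd0, hd⟩ := Aschbacher.pureMat_unique (fun i =>
        (((A i).isUnit.mul (A (π.symm i)).isUnit).mul (A ((π * π).symm i)).isUnit).ne_zero) hcube i0
      have hs02 : π.symm i0 = i2 := by rw [← h30, Equiv.symm_apply_apply]
      have hs10 : π.symm i1 = i0 := by rw [hi1d, Equiv.symm_apply_apply]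
      have hs21 : π.symm i2 = i1 := by rw [hi2d, Equiv.symm_apply_apply]
      have hss : ∀ i, (π * π).symm i = π.symm (π.symm i) := fun i => rfl
      rw [hss, hs02, hs21] at hd
      -- a basis adapted to the cycle
      let C : Fin t → (Matrix (Fin k) (Fin k) F)ˣ :=
        Function.update (Function.update (fun _ => 1) i1 (A i1)) i2 (A i2 * A i1)
      let A' : Fin t → (Matrix (Fin k) (Fin k) F)ˣ := fun i => (C i)⁻¹ * A i * C (π.symm i)
      have hC0 : C i0 = 1 := by simp [C, h10.symm, h20.symm]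
      have hC1 : C i1 = A i1 := by simp [C, h21.symm]
      have hC2 : C i2 = A i2 * A i1 := by simp [C]
      have hA1 : A' i1 = 1 := by
        show (C i1)⁻¹ * A i1 * C (π.symm i1) = 1
        rw [hs10, hC0, hC1, mul_one, inv_mul_cancel]
      have hA2 : A' i2 = 1 := by
        show (C i2)⁻¹ * A i2 * C (π.symm i2) = 1
        rw [hs21, hC1, hC2]; group
      have hA0 : (A' i0 : Matrix (Fin k) (Fin k) F) = d • 1 := by
        show (((C i0)⁻¹ * A i0 * C (π.symm i0) : (Matrix (Fin k) (Fin k) F)ˣ) : Matrix (Fin k) (Fin k) F) = _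
        rw [hs02, hC0, hC2, inv_one, one_mul, Units.val_mul, Units.val_mul, ← mul_assoc]
        exact hd
      set Cp : (Mat F k t)ˣ := pureGL C
      set s' := ((Cp⁻¹ : (Mat F k t)ˣ) : Mat F k t) * s * (Cp : Mat F k t) with hs'
      have hs'A : s' = pureMat (fun i => (A' i : Matrix (Fin k) (Fin k) F)) * factorPerm π := by
        rw [hs', hsA, show ((Cp⁻¹ : (Mat F k t)ˣ) : Mat F k t) = pureMat (fun i => (((C i)⁻¹ : (Matrix (Fin k) (Fin k) F)ˣ) : Matrix (Fin k) (Fin k) F)) from rfl,
          show (Cp : Mat F k t) = pureMat (fun i => (C i : Matrix (Fin k) (Fin k) F)) from rfl, mul_assoc, mul_assoc,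
          Aschbacher.factorPerm_conj, ← mul_assoc, ← mul_assoc, Aschbacher.pureMat_mul, Aschbacher.pureMat_mul]
        simp only [A', Units.val_mul]
      let S : Finset (Fin t → Fin k) := univ.filter fun y =>
        (y i0 < y i1 ∧ y i0 < y i2) ∨ (y i0 = y i1 ∧ y i1 < y i2)
      have hsub : (1 + s' + s' * s').submatrix (Subtype.val : ↥S → Fin t → Fin k) (Subtype.val : ↥S → Fin t → Fin k) =
          (1 : Matrix ↥S ↥S F) := by
        have hs'2 : s' * s' = pureMat (fun i => (A' i : Matrix (Fin k) (Fin k) F) * (A' (π.symm i) : Matrix (Fin k) (Fin k) F)) *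
            factorPerm (π * π) := by
          rw [hs'A, mul_assoc, ← mul_assoc (factorPerm π), Aschbacher.factorPerm_conj, mul_assoc, fp_mul, ← mul_assoc,
            Aschbacher.pureMat_mul]
        ext ⟨y, hy⟩ ⟨u, hu⟩
        simp only [S, mem_filter, mem_univ, true_and] at hy hu
        have z1 : s' y u = 0 := by
          by_contra hne1
          rw [hs'A, mono_apply, ← ne_eq, Finset.prod_ne_zero_iff] at hne1
          have a0 := hne1 i0 (mem_univ _)
          have a1 := hne1 i1 (mem_univ _)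
          have a2 := hne1 i2 (mem_univ _)
          rw [hA0, hs02, Matrix.smul_apply, Matrix.one_apply, smul_ne_zero_iff, ite_ne_right_iff] at a0
          rw [hA1, hs10, Units.val_one, Matrix.one_apply, ite_ne_right_iff] at a1
          rw [hA2, hs21, Units.val_one, Matrix.one_apply, ite_ne_right_iff] at a2
          have e0 := a0.2.1
          have e1 := a1.1
          have e2 := a2.1
          simp only [Fin.lt_def, Fin.ext_iff] at hy hu e0 e1 e2
          omega
        have z2 : (s' * s') y u = 0 := by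
          by_contra hne1
          rw [hs'2, mono_apply, ← ne_eq, Finset.prod_ne_zero_iff] at hne1
          have a0 := hne1 i0 (mem_univ _)
          have a1 := hne1 i1 (mem_univ _)
          have a2 := hne1 i2 (mem_univ _)
          rw [hA0, hs02, hA2, hss, hs02, hs21, Units.val_one, mul_one, Matrix.smul_apply, Matrix.one_apply,
            smul_ne_zero_iff, ite_ne_right_iff] at a0
          rw [hA1, hs10, hA0, hss, hs10, hs02, Units.val_one, one_mul, Matrix.smul_apply, Matrix.one_apply,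
            smul_ne_zero_iff, ite_ne_right_iff] at a1
          rw [hA2, hs21, hA1, hss, hs21, hs10, Units.val_one, one_mul, Matrix.one_apply, ite_ne_right_iff] at a2
          have e0 := a0.2.1
          have e1 := a1.2.1
          have e2 := a2.1
          simp only [Fin.lt_def, Fin.ext_iff] at hy hu e0 e1 e2
          omega
        simp only [Matrix.submatrix_apply, Matrix.add_apply, z1, z2, add_zero, Matrix.one_apply, Subtype.mk.injEq]
      have hcard : S.card ≤ a := by
        have h1 := Matrix.rank_submatrix_le (1 + s' + s' * s') (Subtype.val : ↥S → Fin t → Fin k)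
          (Subtype.val : ↥S → Fin t → Fin k)
        rw [hsub, Matrix.rank_one, Fintype.card_coe] at h1
        have e3 : (3 : F) = 0 := by
          have h0 : ((p : ℕ) : F) = 0 := CharP.cast_eq_zero F p
          rw [hp3] at h0
          exact_mod_cast h0
        have e : 1 + s' + s' * s' = ((Cp⁻¹ : (Mat F k t)ˣ) : Mat F k t) * ((s - 1) * (s - 1)) * (Cp : Mat F k t) := by
          have e4 : (s - 1) * (s - 1) = 1 + s + s * s := by
            simp only [mul_sub, sub_mul, mul_one, one_mul]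
            rw [← sub_eq_zero]
            trans (-3 : F) • s
            · module
            · rw [e3, neg_zero, zero_smul]
          rw [e4, mul_add, mul_add, add_mul, add_mul, mul_one, Cp.inv_mul, hs']
          simp only [mul_assoc, Units.mul_inv_cancel_left]
        rw [e, rank_conj] at h1
        exact h1.trans hr2
      -- counting the representatives
      let E : Finset (Fin t → Fin k) := univ.filter fun y => y i0 = y i1
      let D : Finset (Fin t → Fin k) := univ.filter fun y => y i0 = y i1 ∧ y i1 = y i2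
      have hE : E.card ≤ a := by
        have h1 : Fintype.card ({i // i ≠ i1} → Fin k) = a := by
          rw [Fintype.card_fun, Fintype.card_fin, Fintype.card_subtype_compl, Fintype.card_fin,
            Fintype.card_subtype_eq, ha]
        rw [← h1, ← Finset.card_univ]
        refine Finset.card_le_card_of_injOn (fun y i => y i.1) (fun _ _ => mem_univ _) fun y hy u hu hyu => ?_
        simp only [E, coe_filter, mem_univ, true_and, Set.mem_ofPred_eq] at hy hu
        funext i
        rcases eq_or_ne i i1 with rfl | hi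
        · rw [← hy, ← hu]; exact congrFun hyu ⟨i0, h10.symm⟩
        · exact congrFun hyu ⟨i, hi⟩
      have hD : D.card < a := by
        refine lt_of_lt_of_le (Finset.card_lt_card ?_) hE
        rw [Finset.ssubset_iff_of_subset (fun y hy => by simp only [D, E, mem_filter] at hy ⊢; exact ⟨hy.1, hy.2.1⟩)]
        refine ⟨Function.update (fun _ => ⟨0, by omega⟩) i2 ⟨1, by omega⟩, ?_, ?_⟩
        · simp [E, h20.symm, h21.symm]
        · simp [D, h20.symm, h21.symm, Fin.ext_iff]
      have hcov : (univ : Finset (Fin t → Fin k)) ⊆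
          S ∪ S.image (fun y => y ∘ π) ∪ S.image (fun y => y ∘ π ∘ π) ∪ D := by
        intro y _
        simp only [S, D, mem_union, mem_image, mem_filter, mem_univ, true_and]
        have hr : ∀ y : Fin t → Fin k, (y ∘ π) i0 = y i1 ∧ (y ∘ π) i1 = y i2 ∧ (y ∘ π) i2 = y i0 :=
          fun y => ⟨rfl, rfl, congrArg y h30⟩
        have hπ3' : ∀ i, π (π (π i)) = i := fun i => by
          have := congrArg (fun σ : Equiv.Perm (Fin t) => σ i) hπ3
          simpa [Equiv.Perm.mul_apply] using this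
        by_cases hd' : y i0 = y i1 ∧ y i1 = y i2
        · exact Or.inr hd'
        by_cases h1 : (y i0 < y i1 ∧ y i0 < y i2) ∨ (y i0 = y i1 ∧ y i1 < y i2)
        · exact Or.inl (Or.inl (Or.inl h1))
        by_cases h2 : (y i1 < y i2 ∧ y i1 < y i0) ∨ (y i1 = y i2 ∧ y i2 < y i0)
        · refine Or.inl (Or.inr ⟨y ∘ π, ?_, funext fun i => by simp [hπ3']⟩)
          obtain ⟨r0, r1, r2⟩ := hr y
          rw [r0, r1, r2]; exact h2
        · refine Or.inl (Or.inl (Or.inr ⟨y ∘ π ∘ π, ?_, funext fun i => by simp [hπ3']⟩))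
          obtain ⟨r0, r1, r2⟩ := hr y
          obtain ⟨q0, q1, q2⟩ := hr (y ∘ π)
          rw [show (y ∘ π ∘ π) = (y ∘ π) ∘ π from rfl, q0, q1, q2, r0, r1, r2]
          simp only [Fin.lt_def, Fin.ext_iff] at hd' h1 h2 ⊢
          omega
      have hall := Finset.card_le_card hcov
      rw [Finset.card_univ, Fintype.card_fun, Fintype.card_fin, Fintype.card_fin] at hall
      have hu1 := Finset.card_union_le (S ∪ S.image (fun y => y ∘ π) ∪ S.image (fun y => y ∘ π ∘ π)) D
      have hu2 := Finset.card_union_le (S ∪ S.image (fun y => y ∘ π)) (S.image (fun y => y ∘ π ∘ π))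
      have hu3 := Finset.card_union_le S (S.image (fun y => y ∘ π))
      have hi1c : (S.image (fun y => y ∘ π)).card ≤ S.card := Finset.card_image_le
      have hi2c : (S.image (fun y => y ∘ π ∘ π)).card ≤ S.card := Finset.card_image_le
      have hkt : 4 * a ≤ k ^ t := by
        rw [ha]
        calc 4 * k ^ (t - 1) ≤ k * k ^ (t - 1) := Nat.mul_le_mul_right _ hk4
          _ = k ^ t := by rw [← pow_succ', Nat.sub_add_cancel (Nat.pos_of_ne_zero (NeZero.ne t))]
      omega
  subst hπ
  rw [fp_one, mul_one] at hsA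
  -- normalising the factors
  have hAp : (pureMat fun i => (A i : Matrix (Fin k) (Fin k) F) ^ p : Mat F k t) = pureMat fun _ => (1 : Matrix (Fin k) (Fin k) F) := by
    rw [Aschbacher.pureMat_one, ← hsp, hsA]
    clear hsp hsA
    induction p with
    | zero => simp [Aschbacher.pureMat_one]
    | succ n ih =>
      rw [pow_succ (pureMat _ : Mat F k t), ← ih, Aschbacher.pureMat_mul]
      simp only [pow_succ]
  choose d hd0 hd using fun i => Aschbacher.pureMat_unique (fun i => ((A i).isUnit.pow p).ne_zero) hAp i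
  have hfrob : ∀ r : F, ∃ e : F, e ^ p = r := fun r =>
    (Finite.injective_iff_surjective.1 (frobenius_inj F p)) r
  choose e he using fun i => hfrob (d i)
  have he0 : ∀ i, e i ≠ 0 := fun i h0 => hd0 i (by rw [← he i, h0, zero_pow hp.ne_zero])
  let Q : Fin t → Matrix (Fin k) (Fin k) F := fun i => (e i)⁻¹ • (A i : Matrix (Fin k) (Fin k) F)
  have hQp : ∀ i, Q i ^ p = 1 := fun i => by
    simp only [Q, smul_pow, hd i, smul_smul, ← he i, ← mul_pow, inv_mul_cancel₀ (he0 i), one_pow, one_smul]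
  have hprodd : ∏ i, d i = 1 := by
    have h1 : (pureMat (fun i => d i • (1 : Matrix (Fin k) (Fin k) F)) : Mat F k t) = pureMat fun _ => 1 := by
      rw [← hAp]; congr 1; funext i; exact (hd i).symm
    rw [Aschbacher.pureMat_smul, Aschbacher.pureMat_one] at h1
    exact smul_left_injective F (one_ne_zero' (Mat F k t)) (h1.trans (one_smul F _).symm)
  have hprode : ∏ i, e i = 1 := by
    refine frobenius_inj F p ?_
    simp only [frobenius_def, one_pow]
    rw [← Finset.prod_pow, Finset.prod_congr rfl fun i _ => he i, hprodd]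
  have hsQ : s = pureMat Q := by
    rw [hsA]
    show _ = pureMat fun i => (e i)⁻¹ • (A i : Matrix (Fin k) (Fin k) F)
    rw [Aschbacher.pureMat_smul, Finset.prod_inv_distrib, hprode, inv_one, one_smul]
  have hQu : ∀ i, IsUnit (Q i) := fun i => IsUnit.of_pow_eq_one (hQp i) hp.ne_zero
  have hQn : ∀ i, IsNilpotent (Q i - 1) := fun i => by
    haveI : Nonempty (Fin k) := ⟨⟨0, by omega⟩⟩
    refine ⟨p, ?_⟩
    rw [sub_pow_char_of_commute p (Commute.one_right (Q i)), hQp, one_pow, sub_self]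
  have hQiso : ∀ i, 𝕘.IsoD (Q i) := fun i => by
    have h1 : (pureMat (fun i => 𝕘.adjD (Q i) * Q i) : Mat F k t) = pureMat fun _ => (1 : Matrix (Fin k) (Fin k) F) := by
      rw [Aschbacher.pureMat_one, ← (𝕘.iso_iff).1 hiso, hsQ, adj_pure, Aschbacher.pureMat_mul]
    have hne : ∀ i, 𝕘.adjD (Q i) * Q i ≠ 0 := fun i h0 => by
      have := (hQu i).mul_left_eq_zero.1 h0
      rw [adjD] at this
      have := congrArg (fun M => 𝕘.G * M) this
      simp only [← mul_assoc, Matrix.mul_nonsing_inv _ 𝕘.det_G, one_mul, mul_zero] at this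
      rw [𝕘.unit.mul_left_eq_zero] at this
      exact (hQu i).ne_zero (Matrix.transpose_eq_zero.1 this)
    obtain ⟨c, hc0, hc⟩ := Aschbacher.pureMat_unique hne h1 i
    have hcβ : ∀ a b, 𝕘.β (Q i *ᵥ a) (Q i *ᵥ b) = c * 𝕘.β a b := fun a b => by
      rw [β_adjD, mulVec_mulVec, hc, smul_mulVec, one_mulVec, β_smul_right]
    have hit : ∀ n a b, 𝕘.β ((Q i ^ n) *ᵥ a) ((Q i ^ n) *ᵥ b) = c ^ n * 𝕘.β a b := fun n => by
      induction n with
      | zero => intro a b; simp
      | succ n ih => intro a b; rw [pow_succ', ← mulVec_mulVec, ← mulVec_mulVec, hcβ, ih, pow_succ]; ring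
    have hcp : c ^ p = 1 := by
      have h2 := hit p v v'
      rw [hQp, one_mulVec, one_mulVec, h.vw, mul_one] at h2
      exact h2.symm
    have hc1 : c = 1 := frobenius_inj F p (by simp [frobenius_def, hcp])
    intro a b
    rw [hcβ, hc1, one_mul]
  -- at least one slot is not trivial
  have hX0 : X * X ≠ 0 := by
    rw [hX2]; exact smul_ne_zero (neg_ne_zero.2 hzn) (𝕘.tau_ne_zero h.v_ne h.v_ne)
  obtain ⟨l, hl⟩ : ∃ l, Q l - 1 ≠ 0 := by
    by_contra hh
    push Not at hh
    have hone : s - 1 = 0 := by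
      rw [hsQ, show Q = fun _ => 1 from funext fun i => sub_eq_zero.1 (hh i), Aschbacher.pureMat_one, sub_self]
    have h2 := hs2
    rw [hone, mul_zero, eq_comm, smul_eq_zero] at h2
    have h3 := congrArg (fun M => (x : Mat F k t) * M * xi) (h2.resolve_left (neg_ne_zero.2 hzn))
    simp only [xi, mul_assoc, Units.mul_inv_cancel_left, x.mul_inv, mul_one, mul_zero, zero_mul] at h3
    exact 𝕘.tau_ne_zero h.v_ne h.v_ne (sl_injective j (h3.trans (sl_zero j).symm))
  by_cases hone : ∀ i, i ≠ l → Q i = 1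
  · have hsl : s = sl l (Q l) := by
      rw [hsQ, sl, slotMat]; congr 1; funext i
      rcases eq_or_ne i l with rfl | hi
      · rw [Function.update_self]
      · rw [Function.update_of_ne hi, hone i hi]
    have hsq2 : sl l ((Q l - 1) * (Q l - 1)) = -𝕘.β z z • (xi * sl j (𝕘.tau v v) * (x : Mat F k t)) := by
      rw [← hs2, hsl, ← sl_one l, ← sl_sub, sl_mul]
    have hA0 : (Q l - 1) * (Q l - 1) ≠ 0 := fun h0 => by
      rw [h0, sl_zero, eq_comm, smul_eq_zero] at hsq2
      have h3 := congrArg (fun M => (x : Mat F k t) * M * xi) (hsq2.resolve_left (neg_ne_zero.2 hzn))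
      simp only [xi, mul_assoc, Units.mul_inv_cancel_left, x.mul_inv, mul_one, mul_zero, zero_mul] at h3
      exact 𝕘.tau_ne_zero h.v_ne h.v_ne (sl_injective j (h3.trans (sl_zero j).symm))
    have hrk : ((Q l - 1) * (Q l - 1)).rank ≤ 1 := by
      have h1 := hr2
      rw [hsl, ← sl_one l, ← sl_sub, sl_mul, rank_sl, ← ha] at h1
      exact Nat.le_of_mul_le_mul_left (by rwa [mul_one]) (Nat.pow_pos (by omega))
    have hadj : 𝕘.adjD ((Q l - 1) * (Q l - 1)) = (Q l - 1) * (Q l - 1) := by
      refine sl_injective (F := F) (k := k) (t := t) l ?_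
      show (sl l _ : Mat F k t) = sl l _
      rw [← adj_sl, hsq2, adj_smul, hxi, ← 𝕘.adj_inv (hH.iso x hx), adj_mul, adj_mul, adj_adj, adj_sl, adjD_tau,
        𝕘.adj_inv (hH.iso x hx), mul_assoc]
    obtain ⟨c, w, hc, hw, hcw⟩ := eq_tau_of_rank_one hA0 hrk hadj
    have hsing : 𝕘.β w w = 0 := by
      have h1 : sl l ((Q l - 1) * (Q l - 1)) * sl l ((Q l - 1) * (Q l - 1)) = (0 : Mat F k t) := by
        rw [hsq2, smul_mul_smul_comm, hcj, sl_mul, tau_sq 𝕘 h.vv, sl_zero, mul_zero, zero_mul, smul_zero]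
      rw [sl_mul, hcw, smul_mul_smul_comm, tau_mul_tau, smul_smul] at h1
      have h2 := sl_injective l (h1.trans (sl_zero l).symm)
      rw [smul_eq_zero] at h2
      rcases h2 with h2 | h2
      · exact (mul_eq_zero.1 h2).resolve_left (mul_ne_zero hc hc)
      · exact absurd h2 (𝕘.tau_ne_zero hw hw)
    refine ⟨l, w, (-𝕘.β z z)⁻¹ * c, mul_ne_zero (inv_ne_zero (neg_ne_zero.2 hzn)) hc, hw, hsing, ?_⟩
    rw [← smul_smul, eq_inv_smul_iff₀ (neg_ne_zero.2 hzn), ← hxi, ← sl_smul, ← hcw, hsq2]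
  · exfalso
    push Not at hone
    obtain ⟨l', hl', hQl'⟩ := hone
    by_cases hk4 : 4 ≤ k
    · set R : Mat F k t := pureMat (Function.update Q l 1)
      have hR : Off l R := off_pureMat (by rw [Function.update_self])
      have hsR : s = sl l (Q l) * R := by rw [hsQ, pureMat_eq_sl_mul]
      have hn : Off l (R - 1) := by
        rw [sub_eq_add_neg]
        exact hR.add (off_one l).neg
      have hRp : R ^ p = 1 := by
        have : ∀ n, R ^ n = pureMat fun i => (Function.update Q l 1 i) ^ n := fun n => by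
          induction n with
          | zero => simp [Aschbacher.pureMat_one]
          | succ n ih => rw [pow_succ, ih, Aschbacher.pureMat_mul]; simp only [pow_succ]
        rw [this, show (fun i => Function.update Q l 1 i ^ p) = fun _ => (1 : Matrix (Fin k) (Fin k) F) from
          funext fun i => by rcases eq_or_ne i l with rfl | hi <;> simp [*], Aschbacher.pureMat_one]
      have hnil : IsNilpotent (R - 1) := ⟨p, by
        rw [sub_pow_char_of_commute p (Commute.one_right R), hRp, one_pow, sub_self]⟩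
      have hn0 : R - 1 ≠ 0 := fun h0 => by
        have h1 : (pureMat (Function.update Q l 1) : Mat F k t) = pureMat fun _ => (1 : Matrix (Fin k) (Fin k) F) := by
          rw [Aschbacher.pureMat_one]; exact sub_eq_zero.1 h0
        obtain ⟨c, -, hc⟩ := Aschbacher.pureMat_unique (fun i => by
          rcases eq_or_ne i l with rfl | hi
          · rw [Function.update_self]; exact one_ne_zero
          · rw [Function.update_of_ne hi]; exact (hQu i).ne_zero) h1 l'
        rw [Function.update_of_ne hl'] at hc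
        have hc1 : c = 1 := frobenius_inj F p (by
          have := hQp l'
          rw [hc, smul_pow, one_pow] at this
          simp only [frobenius_def, one_pow]
          exact smul_left_injective F one_ne_zero (this.trans (one_smul F _).symm))
        exact hQl' (by rw [hc, hc1, one_smul])
      have h1 := 𝕘.rank_gt hB hk4 (A := Q l - 1) hn hnil hn0 (hQu l)
        (by rw [sub_mul, mul_sub, one_mul, mul_one]) (𝕘.two_le_rank_unip (hQiso l) (hQn l) hl)
        (fun e4 => sq_ne_zero hB (Or.inr e4) (hQiso l) (hQn l) hl)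
      have e : sl l (Q l - 1) + sl l (Q l) * (R - 1) = s - 1 := by
        rw [hsR, sl_sub, sl_one, mul_sub, mul_one]; abel
      rw [e, ← ha] at h1
      exact absurd (h1.trans_le hr1) (lt_irrefl _)
    · have hk3 : k = 3 := by omega
      obtain ⟨α, ε, γ, hα, hε, D, ρ, hD⟩ := hrel (hB.2.1.resolve_right hk4)
      have htri : ∀ i, Q i ≠ 1 → ∃ y, LinearIndependent F ![y, Q i *ᵥ y, Q i *ᵥ (Q i *ᵥ y)] := by
        intro i hi
        have hsq := sq_ne_zero hB (Or.inl hk3) (hQiso i) (hQn i) (sub_ne_zero.2 hi)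
        obtain ⟨y, hy⟩ : ∃ y, ((Q i - 1) * (Q i - 1)) *ᵥ y ≠ 0 := by
          by_contra hh
          push Not at hh
          exact hsq (Matrix.ext_iff_mulVec.2 fun u => by rw [hh, zero_mulVec])
        refine ⟨y, ?_⟩
        rw [Fintype.linearIndependent_iff]
        intro g hg
        rw [Fin.sum_univ_three] at hg
        simp only [Matrix.cons_val_zero, Matrix.cons_val_one, Matrix.cons_val_two, Matrix.head_cons,
          Matrix.tail_cons] at hg
        set M := Q i - 1 with hM
        have hM1 : Q i = 1 + M := by rw [hM, add_sub_cancel]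
        set n0 := g 0 + g 1 + g 2 with hn0
        set n1 := g 1 + 2 * g 2 with hn1
        have hg' : (n0 • 1 + n1 • M + g 2 • (M * M)) *ᵥ y = 0 := by
          rw [← hg, hM1, hn0, hn1]
          simp only [add_mulVec, smul_mulVec, one_mulVec, mulVec_add, ← mulVec_mulVec]
          module
        have hu : ∀ (c : F) (W : Matrix (Fin k) (Fin k) F), c ≠ 0 → Commute M W → IsUnit (c • 1 + M * W) := fun c W hc hW => by
          refine IsNilpotent.isUnit_add_left_of_commute (hW.isNilpotent_mul_right (hQn i)) ?_ ((Commute.one_right _).smul_right c)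
          rw [← Algebra.algebraMap_eq_smul_one]; exact (isUnit_iff_ne_zero.2 hc).map _
        have hy0 : y ≠ 0 := fun e0 => hy (by rw [e0, mulVec_zero])
        have z0 : n0 = 0 := by
          by_contra hne
          have e : n0 • 1 + n1 • M + g 2 • (M * M) = n0 • 1 + M * (n1 • 1 + g 2 • M) := by
            rw [mul_add, mul_smul_comm, mul_one, mul_smul_comm, add_assoc]
          rw [e] at hg'
          have hinj := Matrix.mulVec_injective_iff_isUnit.2 (hu n0 (n1 • 1 + g 2 • M) hne
            (((Commute.one_right M).smul_right n1).add_right ((Commute.refl M).smul_right (g 2))))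
          exact hy0 (hinj (hg'.trans (mulVec_zero _).symm))
        have z1 : n1 = 0 := by
          by_contra hne
          rw [z0, zero_smul, zero_add] at hg'
          have e : n1 • M + g 2 • (M * M) = (n1 • 1 + M * (g 2 • 1)) * M := by
            rw [add_mul, smul_mul_assoc, one_mul, mul_smul_comm, mul_one, smul_mul_assoc]
          rw [e, ← mulVec_mulVec] at hg'
          have hinj := Matrix.mulVec_injective_iff_isUnit.2 (hu n1 (g 2 • 1) hne ((Commute.one_right M).smul_right _))
          exact hy (by rw [← mulVec_mulVec, hinj (hg'.trans (mulVec_zero _).symm), mulVec_zero])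
        have g2 : g 2 = 0 := by
          rw [z0, z1, zero_smul, zero_smul, zero_add, zero_add, smul_mulVec, smul_eq_zero] at hg'
          exact hg'.resolve_right hy
        rw [hn1, g2, mul_zero, add_zero] at z1
        rw [hn0, z1, g2, add_zero, add_zero] at z0
        intro i; fin_cases i <;> assumption
      obtain ⟨y, hy⟩ := htri l (fun e0 => hl (sub_eq_zero.2 e0))
      obtain ⟨y', hy'⟩ := htri l' hQl'
      have hyne : y ≠ 0 := by have := hy.ne_zero 0; simpa using this
      let ω : Fin t → Fin k → F := Function.update (fun _ => y') l y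
      have hωne : ∀ i, ω i ≠ 0 := fun i => by
        rcases eq_or_ne i l with rfl | hi
        · simpa [ω] using hyne
        · simp only [ω, Function.update_of_ne hi]
          have := hy'.ne_zero 0; simpa using this
      have hsum : pureVec (fun i => (D i : Matrix (Fin k) (Fin k) F) *ᵥ ω (ρ.symm i)) =
          α • pureVec ω + ε • pureVec (fun i => Q i *ᵥ ω i) + γ • pureVec (fun i => Q i *ᵥ (Q i *ᵥ ω i)) := by
        rw [← Aschbacher.pureMat_mulVec, ← Aschbacher.factorPerm_mulVec, mulVec_mulVec, ← hD, add_mulVec,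
          add_mulVec, smul_mulVec, smul_mulVec, smul_mulVec, one_mulVec, ← mulVec_mulVec, hsQ,
          Aschbacher.pureMat_mulVec, Aschbacher.pureMat_mulVec]
      obtain ⟨a1, a2, -⟩ := sep_of_li hy
      obtain ⟨b1, b2, -⟩ := sep_of_li hy'
      refine no_sum hl'.symm ω _ _ _ hα hε hωne (fun i e0 => hωne i
        (Matrix.mulVec_injective_iff_isUnit.2 (hQu i) (e0.trans (mulVec_zero _).symm))) ?_ ?_ hsum
      · simp only [ω, Function.update_self]; exact ⟨a1, a2⟩
      · simp only [ω, Function.update_of_ne hl']; exact ⟨b1, b2⟩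

end Gram

end Cfsg.Agent.H24.OWr
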