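import Cfsg.Agent.H24.OWr.Root

/-!
A group with a slot root contains the long pure roots with a single skew slot.
-/

set_option autoImplicit false
set_option linter.unusedVariables false
set_option linter.unusedSimpArgs false
set_option linter.unusedSectionVars false

namespace Cfsg.Agent.H24.OWr

open Matrix Finset
open Cfsg.Agent.Aschbacher (pureMat slotMat factorPerm)
open Cfsg.Agent.H24.Wreath (Mat sl Off off_one off_sl sl_mul sl_one sl_add sl_smul sl_zero sl_neg sl_sub sl_comm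
  off_pureMat pureMat_eq_sl_mul eq_sl_of_off eq_smul_one_of_off)

variable {F : Type*} [Field F] {k t : ℕ}

namespace Gram

variable {𝕘 : Gram F k} {H : Subgroup (Mat F k t)ˣ} {v v' z : Fin k → F}

/-! ### Small facts -/

/-- A commutator carrying `v` to a multiple of `v'`. -/
theorem Hyp.swap_mem [Finite F] (h : 𝕘.Hyp v v') (hB : 𝕘.Big) :
    ∃ P ∈ 𝕘.Om, ∃ c : F, c ≠ 0 ∧ (P : Matrix (Fin k) (Fin k) F) *ᵥ v = c • v' := by
  obtain ⟨z, hz, hzn⟩ := h.aniso hB.1
  have hs : 𝕘.β v ((2⁻¹ * 𝕘.β z z)⁻¹ • z) = 0 := by rw [β_smul_right, hz.1, mul_zero]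
  refine ⟨𝕘.ueU h.vv hs * 𝕘.ueU h.ww hz.2, mul_mem (𝕘.ueU_mem hB h.vv hs) (𝕘.ueU_mem hB h.ww hz.2),
    -(2⁻¹ * 𝕘.β z z), neg_ne_zero.2 (mul_ne_zero (inv_ne_zero 𝕘.two) hzn), ?_⟩
  have e1 : 𝕘.ue v' z *ᵥ v = v + (-1 : F) • z + (-(2⁻¹ * 𝕘.β z z)) • v' := by
    rw [ue_mulVec, hz.comm.1, h.wv]; module
  rw [Units.val_mul, ueU_val, ueU_val, ← mulVec_mulVec, e1, ue_mulVec]
  simp only [β_add_right, β_smul_left, β_smul_right, h.vv, h.vw, hz.1, hz.comm.1, hz.comm.2]
  have := 𝕘.two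
  match_scalars <;> field_simp <;> ring

/-- The span of the orbit of the map fixing `v` and negating `v'` contains the skew maps at `v`. -/
theorem gen_h [Finite F] (hB : 𝕘.Big) (h : 𝕘.Hyp v v') {r : Fin k → F} (hr : 𝕘.InU v v' r) :
    𝕘.Gen (𝕘.N v v') (𝕘.N v r) := by
  intro V hst hh
  have h1 := hst _ (𝕘.ueU_mem hB h.vv hr.1) _ hh
  rw [ueU_val, ueU_inv, conj_N 𝕘 (𝕘.ue_iso h.vv hr.1) (by
    rw [ue_mul 𝕘 h.vv hr.1 (by rw [β_neg_right, hr.1, neg_zero]), add_neg_cancel, ue_zero])] at h1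
  have e1 : 𝕘.ue v r *ᵥ v = v := by
    rw [ue_mulVec, hr.comm.1, h.vv]; module
  have e2 : 𝕘.ue v r *ᵥ v' = v' + (-1 : F) • r + (-(2⁻¹ * 𝕘.β r r)) • v := by
    rw [ue_mulVec, hr.comm.2, h.vw]; module
  rw [e1, e2] at h1
  convert Submodule.sub_mem _ hh h1 using 1
  simp only [N_add, N_smul, N_self, smul_zero]
  module

/-! ### The space of the roots in a slot -/

theorem slot_root_mul (hv : 𝕘.β v v = 0) {l : Fin t} {A : Mat F k t} (hA : Off l A) (B : Mat F k t) :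
    sl l (𝕘.tau v v) * A * (sl l (𝕘.tau v v) * B) = 0 := by
  rw [mul_assoc, ← mul_assoc A, ← hA, ← mul_assoc, ← mul_assoc, sl_mul, tau_sq 𝕘 hv, sl_zero, zero_mul, zero_mul]

variable (𝕘) in
/-- The factors off the slot of the elements with a given slot root. -/
def RK (H : Subgroup (Mat F k t)ˣ) (l : Fin t) (hv : 𝕘.β v v = 0) : AddSubgroup (Unit → Mat F k t) where
  carrier := {f | Off l (f ()) ∧ ∃ g ∈ H, (g : Mat F k t) = 1 + sl l (𝕘.tau v v) * f ()}
  zero_mem' := ⟨fun X => by simp, 1, H.one_mem, by simp⟩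
  add_mem' := by
    rintro f f' ⟨ho, g, hg, e⟩ ⟨ho', g', hg', e'⟩
    refine ⟨ho.add ho', g * g', H.mul_mem hg hg', ?_⟩
    have h0 := slot_root_mul hv ho (f' ())
    rw [Units.val_mul, e, e', add_mul, mul_add, mul_add, one_mul, one_mul, mul_one, h0, add_zero, Pi.add_apply,
      mul_add]
    abel
  neg_mem' := by
    rintro f ⟨ho, g, hg, e⟩
    refine ⟨ho.neg, g⁻¹, H.inv_mem hg, ?_⟩
    have h0 := slot_root_mul hv ho (f ())
    refine Units.inv_eq_of_mul_eq_one_right ?_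
    rw [e, Pi.neg_apply, mul_neg, add_mul, one_mul, mul_add, mul_one, mul_neg, h0, neg_zero, add_zero,
      neg_add_cancel_right]

theorem RK.stab [Finite F] (hH : 𝕘.Over H) {l m : Fin t} (h : 𝕘.Hyp v v') (hml : m ≠ l) :
    𝕘.SStab m (𝕘.RK H l h.vv) := by
  refine ⟨fun P hP f hf => ?_, fun a ha f hf => ?_⟩
  · obtain ⟨ho, g, hg, e⟩ := hf
    refine ⟨off_ad hml.symm ho P, slU m P * g * (slU m P)⁻¹,
      H.mul_mem (H.mul_mem (hH.om m P hP) hg) (H.inv_mem (hH.om m P hP)), ?_⟩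
    rw [Units.val_mul, Units.val_mul, slU_val, slU_inv, e, mul_add, mul_one, add_mul, sl_mul, P.mul_inv, sl_one,
      ← mul_assoc, sl_comm hml]
    simp only [ad, mul_assoc]
  · obtain ⟨ho, g, hg, e⟩ := hf
    obtain ⟨P, hP, hPv⟩ := h.dia_sq ha
    refine ⟨ho.smul _, slU l P * g * (slU l P)⁻¹,
      H.mul_mem (H.mul_mem (hH.om l P hP) hg) (H.inv_mem (hH.om l P hP)), ?_⟩
    have hτ : (P : Matrix (Fin k) (Fin k) F) * 𝕘.tau v v *
        ((P⁻¹ : (Matrix (Fin k) (Fin k) F)ˣ) : Matrix (Fin k) (Fin k) F) = a ^ 4 • 𝕘.tau v v := by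
      rw [conj_tau 𝕘 (by rw [hPv]; exact h.dia_iso (mul_ne_zero ha ha)) P.mul_inv, hPv, h.dia_v, tau_smul_left,
        tau_smul_right, smul_smul]
      congr 1
      ring
    rw [Units.val_mul, Units.val_mul, slU_val, slU_inv, e, mul_add, mul_one, add_mul, sl_mul, P.mul_inv, sl_one,
      Pi.smul_apply, mul_assoc, mul_assoc, ← ho, ← mul_assoc, ← mul_assoc, sl_mul, sl_mul, hτ, sl_smul,
      smul_mul_assoc, mul_smul_comm]

theorem RK.rstab (hH : 𝕘.Over H) (h4 : k = 4) (ht : 3 ≤ t) {l m : Fin t} (hv : 𝕘.β v v = 0) (hml : m ≠ l) :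
    𝕘.RStab m (𝕘.RK H l hv) := by
  rintro y hy f ⟨ho, g, hg, e⟩
  refine ⟨off_ad hml.symm ho _, slU m (𝕘.reflU hy) * g * (slU m (𝕘.reflU hy))⁻¹,
    H.mul_mem (H.mul_mem (hH.refl h4 ht m y hy) hg) (H.inv_mem (hH.refl h4 ht m y hy)), ?_⟩
  rw [Units.val_mul, Units.val_mul, slU_val, slU_inv, e, mul_add, mul_one, add_mul, sl_mul, Units.mul_inv, sl_one,
    ← mul_assoc, sl_comm hml]
  simp only [ad, mul_assoc]

theorem RK.skew [NeZero k] (hH : 𝕘.Over H) {l : Fin t} (h : 𝕘.Hyp v v') {f : Unit → Mat F k t}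
    (hf : f ∈ 𝕘.RK H l h.vv) : 𝕘.adj (f ()) = -f () := by
  obtain ⟨ho, g, hg, e⟩ := hf
  set S : Mat F k t := sl l (𝕘.tau v v)
  have ho' := 𝕘.adj_off ho
  have h1 := (𝕘.iso_iff).1 (hH.iso g hg)
  have h0 : S * 𝕘.adj (f ()) * (S * f ()) = 0 := slot_root_mul h.vv ho' (f ())
  rw [e, adj_add, adj_one, adj_mul, adj_sl, adjD_tau, ← ho', add_mul, mul_add, mul_add, one_mul, one_mul, mul_one,
    h0, add_zero, add_assoc, add_eq_left, ← mul_add] at h1
  have h2 := congrArg (𝕘.ct l v' v') h1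
  rw [𝕘.ct_sl_mul (ho.add ho'), ct_zero, tau_mulVec, β_smul_right, h.vw, h.wv, mul_one, one_smul,
    add_comm] at h2
  exact eq_neg_of_add_eq_zero_left h2

theorem RK.single [NeZero k] {l m : Fin t} (hv : 𝕘.β v v = 0) (hB : 𝕘.Big) (h4 : k = 4)
    (hall : ∀ j, j ≠ m → j = l) : 𝕘.Single m (𝕘.RK H l hv) := by
  rintro g ⟨ho, -⟩ w w' hw hNF
  obtain ⟨W, hW⟩ := eq_sl_of_off m (M := g ()) fun j hj => by rw [hall j hj]; exact ho
  have hct : ∀ x y, 𝕘.ct m x y (g ()) = 𝕘.β x (W *ᵥ y) • 1 := fun x y => by rw [hW, ct_sl]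
  set p := 𝕘.pr w w' (W *ᵥ w') with hp
  have hpU : 𝕘.InU w w' p := 𝕘.pr_inU hw _
  have hx : ∀ x, 𝕘.InU w w' x → 𝕘.β x (W *ᵥ w') = 𝕘.β p x := fun x hx => by
    rw [hp, pr, β_sub_left, β_sub_left, β_smul_left, β_smul_left, hx.1, hx.2, mul_zero, mul_zero, sub_zero, sub_zero,
      𝕘.β_comm x]
  by_cases hpn : 𝕘.β p p = 0
  · left
    obtain ⟨c, hc⟩ := hB.2.2 h4 w p hw.v_ne hw.vv hpn hpU.1
    have hp0 : p = 0 := by
      have h2 := hpU.2
      rw [hc, β_smul_right, hw.wv, mul_one] at h2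
      rw [hc, h2, zero_smul]
    funext u
    refine 𝕘.ext_ct m fun x y => ?_
    rw [hNF u x y, hct, hct, hx _ (𝕘.pr_inU hw x), hx _ (𝕘.pr_inU hw y), hp0, β_zero_left, β_zero_left, zero_smul,
      smul_zero, smul_zero, sub_zero, Pi.zero_apply, ct_zero]
  · refine Or.inr ⟨p, hpU, hpn, fun u x hxU => ?_⟩
    rw [hct, hct, hx x hxU, hx p hpU, smul_smul, div_mul_cancel₀ _ hpn]

/-! ### A pure root -/

/-- A group with a slot root has a pure root. -/
theorem Over.exists_pure [Finite F] [NeZero k] (hH : 𝕘.Over H) (hk : 3 ≤ k) (hr : ¬ 𝕘.NoRoot H) :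
    ∃ (v v' : Fin k → F) (l : Fin t) (X : Fin t → Matrix (Fin k) (Fin k) F), 𝕘.Hyp v v' ∧ X l = 𝕘.tau v v ∧
      (∀ m, m ≠ l → X m = 1 ∨ 𝕘.Piece (X m)) ∧
      (∃ m w w' b, m ≠ l ∧ 𝕘.Hyp w w' ∧ 𝕘.InU w w' b ∧ 𝕘.β b b ≠ 0 ∧ X m = 𝕘.N w b) ∧
      Root H (pureMat X : Mat F k t) := by
  classical
  have hB := hH.big hk
  simp only [NoRoot, not_forall] at hr
  obtain ⟨l, v, hv0, hvv, K, hK, hg, hK0⟩ := hr
  obtain ⟨v', h⟩ := 𝕘.exists_hyp hv0 hvv
  set 𝒦 := 𝕘.RK H l h.vv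
  have hf : (fun _ => K : Unit → Mat F k t) ∈ 𝒦 := ⟨hK, hg⟩
  have hne : ∃ u : Unit, ∃ m ∈ univ.erase l, ¬ Off m ((fun _ => K : Unit → Mat F k t) u) := by
    by_contra hc
    push Not at hc
    obtain ⟨c, hc'⟩ := eq_smul_one_of_off (M := K) fun j => by
      rcases eq_or_ne j l with rfl | hj
      · exact hK
      · exact hc () j (mem_erase.2 ⟨hj, mem_univ j⟩)
    have h1 := RK.skew hH h hf
    rw [hc', adj_smul, adj_one, eq_neg_iff_add_eq_zero, ← two_smul F, smul_smul] at h1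
    refine hK0 ?_
    rw [hc']
    rcases smul_eq_zero.1 h1 with h2 | h2
    · rw [(mul_eq_zero.1 h2).resolve_left 𝕘.two, zero_smul]
    · rw [h2, smul_zero]
  obtain ⟨p, g, hg0, hgoff, hp, ⟨m₁, hm₁, hm₁p⟩, hmem⟩ := 𝕘.extract hB (univ.erase l) (K := 𝒦)
    (fun m hm => RK.stab hH h (ne_of_mem_erase hm)) (fun h4 => by
      by_cases ht : 3 ≤ t
      · exact Or.inl fun m hm => RK.rstab hH h4 ht h.vv (ne_of_mem_erase hm)
      · refine Or.inr ⟨?_, fun m hm => RK.single h.vv hB h4 fun j hj => ?_⟩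
        · rw [card_erase_of_mem (mem_univ l), card_univ, Fintype.card_fin]; omega
        · have hml := ne_of_mem_erase hm
          by_contra hjl
          have : 2 < t := by
            calc 2 < ({j, m, l} : Finset (Fin t)).card + 0 := by
                  rw [card_insert_of_notMem (by simp [hj, hjl]), card_pair hml]; omega
              _ ≤ t := by simpa using card_le_univ ({j, m, l} : Finset (Fin t))
          omega) hf hne
  have hpl : p l = 1 := (hp l).resolve_right fun e => (mem_erase.1 e.1).1 rfl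
  have hp0 : ∀ m, p m ≠ 0 := fun m => by
    rcases hp m with e | ⟨-, e⟩
    · rw [e]
      have : Nonempty (Fin k) := ⟨⟨0, by omega⟩⟩
      exact one_ne_zero
    · exact 𝕘.piece_ne_zero e
  obtain ⟨G, hG⟩ := eq_sl_of_off l (M := g ()) fun j hj => hgoff () j (mem_erase.2 ⟨hj, mem_univ j⟩)
  have hopp : Off l (pureMat p * g ()) := hmem.1
  have hct : ∀ x y, 𝕘.ct l x y (pureMat p * g ()) = 𝕘.β x (G *ᵥ y) • pureMat p := fun x y => by
    rw [hG, off_pureMat hpl G |>.symm, 𝕘.ct_sl_mul (off_pureMat hpl)]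
  set c := 𝕘.β v (G *ᵥ v') with hcdef
  have hgc : pureMat p * g () = c • pureMat p := by
    have h1 := 𝕘.ct_of_off hopp v v'
    rw [hct, h.vw, one_smul] at h1
    exact h1.symm
  have hc0 : c ≠ 0 := by
    intro hc
    refine hg0 (funext fun _ => ?_)
    have hG0 : G = 0 := 𝕘.mat_ext fun x y => by
      have h1 := hct x y
      rw [hgc, hc, zero_smul, ct_zero, eq_comm, smul_eq_zero] at h1
      rw [h1.resolve_right (Aschbacher.pureMat_ne_zero hp0), zero_mulVec, β_zero_right]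
    rw [hG, hG0, sl_zero, Pi.zero_apply]
  set X := Function.update p l (𝕘.tau v v) with hX
  have hXe : (pureMat X : Mat F k t) = sl l (𝕘.tau v v) * pureMat p := by
    rw [pureMat_eq_sl_mul X l, hX, Function.update_self, Function.update_idem]
    congr 2
    rw [← hpl, Function.update_eq_self]
  have hX2 : (pureMat X : Mat F k t) * pureMat X = 0 := by
    rw [hXe, mul_assoc, ← mul_assoc (pureMat p), ← off_pureMat hpl, mul_assoc, ← mul_assoc, sl_mul, tau_sq 𝕘 h.vv,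
      sl_zero, zero_mul]
  -- a skew slot
  have hskew : ∃ m, m ≠ l ∧ ∃ w w' b, 𝕘.Hyp w w' ∧ 𝕘.InU w w' b ∧ 𝕘.β b b ≠ 0 ∧ p m = 𝕘.N w b := by
    by_contra hc'
    push Not at hc'
    have h1 := RK.skew hH h hmem
    have e : (fun i => 𝕘.adjD (p i)) = p := funext fun i => by
      rcases hp i with e | ⟨hi, e⟩
      · rw [e, adjD_one]
      · rcases e with ⟨w, hw0, hww, e⟩ | ⟨w, w', b, hw, hb, hbn, e⟩
        · rw [e, adjD_tau]
        · exact absurd e (hc' i (ne_of_mem_erase hi) w w' b hw hb hbn)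
    simp only [hgc, adj_smul, adj_pure, e] at h1
    rw [eq_neg_iff_add_eq_zero, ← two_smul F, smul_smul, smul_eq_zero] at h1
    rcases h1 with h1 | h1
    · exact hc0 ((mul_eq_zero.1 h1).resolve_left 𝕘.two)
    · exact Aschbacher.pureMat_ne_zero hp0 h1
  obtain ⟨m₀, hm₀, w, w', b, hw, hb, hbn, hpm⟩ := hskew
  have hsq : ∀ a d : F, (∃ u ∈ H, (u : Mat F k t) = 1 + d • pureMat X) →
      ∃ u ∈ H, (u : Mat F k t) = 1 + (a * a * d) • pureMat X := by
    rintro a d ⟨u, hu, eu⟩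
    rcases eq_or_ne a 0 with rfl | ha
    · exact ⟨1, H.one_mem, by simp⟩
    obtain ⟨P, hP, hPv⟩ := hw.dia_sq ha
    refine ⟨slU m₀ P * u * (slU m₀ P)⁻¹, H.mul_mem (H.mul_mem (hH.om m₀ P hP) hu) (H.inv_mem (hH.om m₀ P hP)), ?_⟩
    have hN : (P : Matrix (Fin k) (Fin k) F) * 𝕘.N w b *
        ((P⁻¹ : (Matrix (Fin k) (Fin k) F)ˣ) : Matrix (Fin k) (Fin k) F) = (a * a) • 𝕘.N w b := by
      rw [conj_N 𝕘 (by rw [hPv]; exact hw.dia_iso (mul_ne_zero ha ha)) P.mul_inv, hPv, hw.dia_v, dia_fix 𝕘 hb,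
        N_smul_left, N_smul]
    have hXm : X m₀ = 𝕘.N w b := by rw [hX, Function.update_of_ne hm₀, hpm]
    have hoff : Off m₀ (pureMat (Function.update X m₀ 1) : Mat F k t) := off_pureMat (by rw [Function.update_self])
    rw [Units.val_mul, Units.val_mul, slU_val, slU_inv, eu, mul_add, mul_one, add_mul, sl_mul, P.mul_inv, sl_one,
      mul_smul_comm, smul_mul_assoc, pureMat_eq_sl_mul X m₀, hXm, ← mul_assoc, sl_mul, mul_assoc, ← hoff, ← mul_assoc,
      sl_mul, hN, sl_smul, smul_mul_assoc, smul_smul, mul_comm d]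
  have hadd : ∀ a d : F, (∃ u ∈ H, (u : Mat F k t) = 1 + a • pureMat X) →
      (∃ u ∈ H, (u : Mat F k t) = 1 + d • pureMat X) → ∃ u ∈ H, (u : Mat F k t) = 1 + (a + d) • pureMat X := by
    rintro a d ⟨u, hu, eu⟩ ⟨u', hu', eu'⟩
    refine ⟨u * u', H.mul_mem hu hu', ?_⟩
    rw [Units.val_mul, eu, eu', mul_add, mul_one, add_mul, one_mul, smul_mul_smul_comm, hX2, smul_zero, add_zero,
      add_smul, add_assoc]
  have hneg : ∀ a : F, (∃ u ∈ H, (u : Mat F k t) = 1 + a • pureMat X) →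
      ∃ u ∈ H, (u : Mat F k t) = 1 + (-a) • pureMat X := by
    rintro a ⟨u, hu, eu⟩
    refine ⟨u⁻¹, H.inv_mem hu, Units.inv_eq_of_mul_eq_one_right ?_⟩
    rw [eu, mul_add, mul_one, add_mul, one_mul, smul_mul_smul_comm, hX2, smul_zero, add_zero, add_assoc, ← add_smul,
      add_neg_cancel, zero_smul, add_zero]
  have hcmem : ∃ u ∈ H, (u : Mat F k t) = 1 + c • pureMat X := by
    obtain ⟨u, hu, eu⟩ := hmem.2
    exact ⟨u, hu, by simp only [eu, hgc, mul_smul_comm, hXe]⟩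
  refine ⟨v, v', l, X, h, by rw [hX, Function.update_self], fun m hm => ?_,
    ⟨m₀, w, w', b, hm₀, hw, hb, hbn, by rw [hX, Function.update_of_ne hm₀, hpm]⟩, hX2, fun d => ?_⟩
  · rw [hX, Function.update_of_ne hm]
    exact (hp m).imp_right And.right
  · have e : d = (d / c + 1) / 2 * ((d / c + 1) / 2) * c + -((d / c - 1) / 2 * ((d / c - 1) / 2) * c) := by
      have := 𝕘.two
      field_simp
      ring
    rw [e]
    exact hadd _ _ (hsq _ c hcmem) (hneg _ (hsq _ c hcmem))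

/-! ### The climb -/

variable (𝕘) in
/-- The pattern with roots on `T` and skew maps on `S`. -/
def pat (v z : Fin k → F) (T S : Finset (Fin t)) : Fin t → Matrix (Fin k) (Fin k) F := fun m =>
  if m ∈ T then 𝕘.tau v v else if m ∈ S then 𝕘.N v z else 1

theorem Over.exists_pat [Finite F] [NeZero k] (hH : 𝕘.Over H) (hk : 3 ≤ k) (hr : ¬ 𝕘.NoRoot H) :
    ∃ (v v' z : Fin k → F) (T S : Finset (Fin t)), 𝕘.Hyp v v' ∧ 𝕘.InU v v' z ∧ 𝕘.β z z ≠ 0 ∧ Disjoint T S ∧
      T.Nonempty ∧ S.Nonempty ∧ Root H (pureMat (𝕘.pat v z T S) : Mat F k t) := by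
  classical
  have hB := hH.big hk
  obtain ⟨v, v', l, X, h, hXl, hp, ⟨m₀, w, w', b, hm₀, hw, hb, hbn, hXm₀⟩, hR⟩ := hH.exists_pure hk hr
  obtain ⟨z, hz, hzn⟩ := h.aniso hk
  set T : Finset (Fin t) := {m | ∃ u, u ≠ 0 ∧ 𝕘.β u u = 0 ∧ X m = 𝕘.tau u u} with hT
  set S : Finset (Fin t) := {m | m ∉ T ∧ X m ≠ 1} with hS
  have hl : l ∈ T := by simp only [hT, mem_filter_univ]; exact ⟨v, h.v_ne, h.vv, hXl⟩
  have hNτ : ∀ {u w w' b : Fin k → F}, 𝕘.Hyp w w' → 𝕘.InU w w' b → 𝕘.β b b ≠ 0 → 𝕘.β u u = 0 →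
      𝕘.N w b ≠ 𝕘.tau u u := by
    intro u w w' b hw hb hbn hu e
    have h1 := congrArg 𝕘.adjD e
    rw [adjD_N, adjD_tau, ← e, neg_eq_iff_add_eq_zero, ← two_smul F, smul_eq_zero] at h1
    have h2 := 𝕘.N_mulVec w b w'
    rw [h1.resolve_left 𝕘.two, zero_mulVec, hb.comm.2, hw.vw, zero_smul, one_smul, zero_sub, eq_comm,
      neg_eq_zero] at h2
    exact hbn (by rw [h2, β_zero_left])
  have hm₀S : m₀ ∈ S := by
    simp only [hS, hT, mem_filter_univ, not_exists, not_and]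
    refine ⟨fun u _ hu e => hNτ hw hb hbn hu (hXm₀ ▸ e), fun e => ?_⟩
    have h1 := congrArg (fun M => 𝕘.adjD M) e
    simp only [hXm₀, adjD_N, adjD_one] at h1 e
    rw [e, neg_eq_iff_add_eq_zero, ← two_smul F, smul_eq_zero] at h1
    have : Nonempty (Fin k) := ⟨⟨0, by omega⟩⟩
    exact one_ne_zero (h1.resolve_left 𝕘.two)
  refine ⟨v, v', z, T, S, h, hz, hzn, disjoint_left.2 fun m hm hm' => ?_, ⟨l, hl⟩, ⟨m₀, hm₀S⟩, ?_⟩
  · simp only [hS, mem_filter_univ] at hm'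
    exact hm'.1 hm
  refine hR.subst_all hH (l := l) (by rw [hXl, tau_sq 𝕘 h.vv]) (by rw [pat, if_pos hl, hXl]) fun m hm => ?_
  by_cases hmT : m ∈ T
  · rw [pat, if_pos hmT]
    simp only [hT, mem_filter_univ] at hmT
    obtain ⟨u, hu0, huu, e⟩ := hmT
    rw [e]
    exact gen_tau hB hu0 huu h.v_ne h.vv
  rw [pat, if_neg hmT]
  by_cases hmS : m ∈ S
  · rw [if_pos hmS]
    have hm1 : X m ≠ 1 := by simp only [hS, mem_filter_univ] at hmS; exact hmS.2
    rcases (hp m hm).resolve_left hm1 with ⟨u, hu0, huu, e⟩ | ⟨u, u', b', hu, hb', hb'n, e⟩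
    · exact absurd (by simp only [hT, mem_filter_univ]; exact ⟨u, hu0, huu, e⟩) hmT
    · rw [e]
      exact gen_skew hB hu hb' hb'n v z
  · rw [if_neg hmS]
    have : X m = 1 := by
      by_contra hne
      exact hmS (by simp only [hS, mem_filter_univ]; exact ⟨hmT, hne⟩)
    rw [this]
    exact gen_refl 1

theorem pureMat_mul_slot_zero {X Y : Fin t → Matrix (Fin k) (Fin k) F} (l : Fin t) (h : X l * Y l = 0) :
    (pureMat X : Mat F k t) * pureMat Y = 0 := by
  rw [Aschbacher.pureMat_mul]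
  ext a c
  simp only [pureMat, Matrix.of_apply, Matrix.zero_apply]
  exact Finset.prod_eq_zero (mem_univ l) (by rw [h, Matrix.zero_apply])

variable {T S : Finset (Fin t)}

/-- Adding a free slot. -/
theorem climb_free [Finite F] [NeZero k] (hH : 𝕘.Over H) (hB : 𝕘.Big) (h : 𝕘.Hyp v v') (hz : 𝕘.InU v v' z)
    (hzn : 𝕘.β z z ≠ 0) (hTS : Disjoint T S) {l l' o : Fin t} (hl : l ∈ T) (hl' : l' ∈ S) (hoT : o ∉ T)
    (hoS : o ∉ S) (hR : Root H (pureMat (𝕘.pat v z T S) : Mat F k t)) :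
    Root H (pureMat (𝕘.pat v z (T ∪ S) {o}) : Mat F k t) := by
  classical
  obtain ⟨hhτ, hτh, -⟩ := h_facts h hz
  obtain ⟨y, hy, hτy, hyτ⟩ := gen_fix hB h
  have hll : l ≠ l' := fun e => disjoint_left.1 hTS hl (e ▸ hl')
  have hlo : l ≠ o := fun e => hoT (e ▸ hl)
  have hl'o : l' ≠ o := fun e => hoS (e ▸ hl')
  have hlS : l ∉ S := disjoint_left.1 hTS hl
  have hl'T : l' ∉ T := disjoint_right.1 hTS hl'
  have hττ := 𝕘.tau_sq h.vv
  set π : Equiv.Perm (Fin t) := Equiv.swap l o * Equiv.swap l l' with hπ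
  have hπ3 : π.IsThreeCycle := Equiv.Perm.isThreeCycle_swap_mul_swap_same hlo hll hl'o.symm
  set X := 𝕘.pat v z T S
  -- the cycled root, substituted
  let Z : Fin t → Matrix (Fin k) (Fin k) F := fun m =>
    if m = l' then 𝕘.tau v v else if m = o then 𝕘.N v z else if m = l then 1 else
      if m ∈ T then y else X m
  have hπs : ∀ m, m ≠ l → m ≠ l' → m ≠ o → π.symm m = m := fun m a b c => by
    rw [Equiv.symm_apply_eq, hπ, Equiv.Perm.mul_apply, Equiv.swap_apply_of_ne_of_ne a b,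
      Equiv.swap_apply_of_ne_of_ne a c]
  have hs1 : π.symm l' = l := by
    rw [Equiv.symm_apply_eq, hπ, Equiv.Perm.mul_apply, Equiv.swap_apply_left, Equiv.swap_apply_of_ne_of_ne hll.symm hl'o]
  have hs2 : π.symm o = l' := by
    rw [Equiv.symm_apply_eq, hπ, Equiv.Perm.mul_apply, Equiv.swap_apply_right, Equiv.swap_apply_left]
  have hs3 : π.symm l = o := by
    rw [Equiv.symm_apply_eq, hπ, Equiv.Perm.mul_apply, Equiv.swap_apply_of_ne_of_ne hlo.symm hl'o.symm,
      Equiv.swap_apply_right]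
  have hXl : X l = 𝕘.tau v v := if_pos hl
  have hXl' : X l' = 𝕘.N v z := by simp [X, pat, hl'T, hl']
  have hXo : X o = 1 := by simp [X, pat, hoT, hoS]
  have hZ : Root H (pureMat Z : Mat F k t) := by
    refine (root_cycle hH hR hπ3).subst_all hH (l := l') ?_ ?_ fun m hm => ?_
    · rw [hs1, hXl, hττ]
    · simp only [Z, if_pos rfl, hs1, hXl]
    · simp only [Z, if_neg hm]
      split_ifs with h1 h2 h3
      · rw [h1, hs2, hXl']; exact gen_refl _
      · rw [h2, hs3, hXo]; exact gen_refl _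
      · rw [hπs m h2 hm h1, show X m = 𝕘.tau v v from if_pos h3]; exact hy
      · rw [hπs m h2 hm h1]; exact gen_refl _
  have hY : Root H (pureMat (Function.update X l' (𝕘.N v v')) : Mat F k t) :=
    hR.subst hH hll (by rw [hXl, hττ]) (by rw [hXl']; exact gen_skew hB h hz hzn v v')
  set Y := Function.update X l' (𝕘.N v v') with hYdef
  have hYl : Y l = 𝕘.tau v v := by rw [hYdef, Function.update_of_ne hll, hXl]
  have hYl' : Y l' = 𝕘.N v v' := by rw [hYdef, Function.update_self]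
  have hZl : Z l = 1 := by simp [Z, hll, hlo]
  have hZl' : Z l' = 𝕘.tau v v := by simp [Z]
  set a : Fin t → F := fun m => if m = l' then 1 else if m ∈ S then -𝕘.β z z else 1 with ha
  set s : Fin t → F := Function.update (fun _ => 1) l' (-1) with hs
  set W := 𝕘.pat v z (T ∪ S) {o} with hW
  have e1 : (pureMat Y : Mat F k t) * pureMat Z = (∏ m, a m) • pureMat W := by
    rw [Aschbacher.pureMat_mul, ← Wreath.pureMat_smul]
    congr 1
    funext m
    rcases eq_or_ne m l' with rfl | hm'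
    · simp [hYl', hZl', ha, hW, pat, hl', hhτ]
    rw [show Y m = X m by rw [hYdef, Function.update_of_ne hm']]
    rcases eq_or_ne m o with rfl | hmo
    · simp [Z, hm', hXo, ha, hoS, hW, pat, hoT]
    rcases eq_or_ne m l with rfl | hml
    · simp [hZl, hXl, ha, hm', hlS, hW, pat, hl]
    by_cases hmT : m ∈ T
    · simp [Z, X, pat, ha, hW, hm', hmo, hml, hmT, disjoint_left.1 hTS hmT, hτy]
    by_cases hmS : m ∈ S
    · simp [Z, X, pat, ha, hW, hm', hmo, hml, hmT, hmS, N_mul_N 𝕘 h.vv hz.1 hz.1]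
    · simp [Z, X, pat, ha, hW, hm', hmo, hml, hmT, hmS]
  have e2 : (pureMat Z : Mat F k t) * pureMat Y = (∏ m, s m * a m) • pureMat W := by
    rw [Aschbacher.pureMat_mul, ← Wreath.pureMat_smul]
    congr 1
    funext m
    rcases eq_or_ne m l' with rfl | hm'
    · simp [hYl', hZl', ha, hs, hW, pat, hl', hτh]
    rw [show Y m = X m by rw [hYdef, Function.update_of_ne hm']]
    rcases eq_or_ne m o with rfl | hmo
    · simp [Z, hm', hXo, ha, hs, hoS, hW, pat, hoT]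
    rcases eq_or_ne m l with rfl | hml
    · simp [hZl, hXl, ha, hs, hm', hlS, hW, pat, hl]
    by_cases hmT : m ∈ T
    · simp [Z, X, pat, ha, hs, hW, hm', hmo, hml, hmT, disjoint_left.1 hTS hmT, hyτ]
    by_cases hmS : m ∈ S
    · simp [Z, X, pat, ha, hs, hW, hm', hmo, hml, hmT, hmS, N_mul_N 𝕘 h.vv hz.1 hz.1]
    · simp [Z, X, pat, ha, hs, hW, hm', hmo, hml, hmT, hmS]
  have h1 : (pureMat Y : Mat F k t) * pureMat Z * pureMat Y = 0 := by
    rw [Aschbacher.pureMat_mul]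
    refine pureMat_mul_slot_zero l ?_
    rw [hYl, hZl, mul_one, hττ]
  have h2 : (pureMat Z : Mat F k t) * pureMat Y * pureMat Z = 0 := by
    rw [Aschbacher.pureMat_mul]
    refine pureMat_mul_slot_zero l' ?_
    rw [hYl', hZl', hτh, neg_mul, hττ, neg_zero]
  have hp : ∏ m, s m * a m = -(∏ m, a m) := by
    rw [Finset.prod_mul_distrib, hs, prod_update_of_mem (mem_univ l')]
    simp
  have h3 := Root.comm hY hZ h1 h2
  rw [e1, e2, hp, neg_smul, sub_neg_eq_add, ← add_smul] at h3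
  have hne : (∏ m, a m) + ∏ m, a m ≠ 0 := by
    rw [← two_mul]
    refine mul_ne_zero 𝕘.two (prod_ne_zero_iff.2 fun m _ => ?_)
    simp only [ha]
    split_ifs <;> simp [hzn]
  have h4 := h3.smul ((∏ m, a m) + ∏ m, a m)⁻¹
  rwa [smul_smul, inv_mul_cancel₀ hne, one_smul] at h4

/-- Merging the skew slots. -/
theorem climb_merge [Finite F] [NeZero k] (hH : 𝕘.Over H) (hB : 𝕘.Big) (h : 𝕘.Hyp v v') (hz : 𝕘.InU v v' z)
    (hzn : 𝕘.β z z ≠ 0) (hTS : Disjoint T S) (hall : ∀ m, m ∈ T ∨ m ∈ S) {l l' l'' : Fin t} (hl : l ∈ T)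
    (hl' : l' ∈ S) (hl'' : l'' ∈ S) (hne' : l' ≠ l'') (hR : Root H (pureMat (𝕘.pat v z T S) : Mat F k t)) :
    Root H (pureMat (𝕘.pat v z (univ.erase l'') {l''}) : Mat F k t) := by
  classical
  obtain ⟨hhτ, hτh, hhN⟩ := h_facts h hz
  obtain ⟨y, hy, hτy, hyτ⟩ := gen_fix hB h
  have hll : l ≠ l' := fun e => disjoint_left.1 hTS hl (e ▸ hl')
  have hll'' : l ≠ l'' := fun e => disjoint_left.1 hTS hl (e ▸ hl'')
  have hlS : l ∉ S := disjoint_left.1 hTS hl
  have hl'T : l' ∉ T := disjoint_right.1 hTS hl'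
  have hl''T : l'' ∉ T := disjoint_right.1 hTS hl''
  have hττ := 𝕘.tau_sq h.vv
  set π : Equiv.Perm (Fin t) := Equiv.swap l l'' * Equiv.swap l l' with hπ
  have hπ3 : π.IsThreeCycle := Equiv.Perm.isThreeCycle_swap_mul_swap_same hll'' hll hne'.symm
  set X := 𝕘.pat v z T S
  have hπs : ∀ m, m ≠ l → m ≠ l' → m ≠ l'' → π.symm m = m := fun m a b c => by
    rw [Equiv.symm_apply_eq, hπ, Equiv.Perm.mul_apply, Equiv.swap_apply_of_ne_of_ne a b,
      Equiv.swap_apply_of_ne_of_ne a c]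
  have hs1 : π.symm l' = l := by
    rw [Equiv.symm_apply_eq, hπ, Equiv.Perm.mul_apply, Equiv.swap_apply_left,
      Equiv.swap_apply_of_ne_of_ne hll.symm hne']
  have hs2 : π.symm l'' = l' := by
    rw [Equiv.symm_apply_eq, hπ, Equiv.Perm.mul_apply, Equiv.swap_apply_right, Equiv.swap_apply_left]
  have hs3 : π.symm l = l'' := by
    rw [Equiv.symm_apply_eq, hπ, Equiv.Perm.mul_apply, Equiv.swap_apply_of_ne_of_ne hll''.symm hne'.symm,
      Equiv.swap_apply_right]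
  have hXl : X l = 𝕘.tau v v := if_pos hl
  have hXS : ∀ m ∈ S, X m = 𝕘.N v z := fun m hm => by simp [X, pat, disjoint_right.1 hTS hm, hm]
  have hXT : ∀ m ∈ T, X m = 𝕘.tau v v := fun m hm => if_pos hm
  -- the root with two maps at `l'` and `l''`
  set Y := Function.update (Function.update X l' (𝕘.N v v')) l'' (𝕘.N v v') with hYdef
  have hY : Root H (pureMat Y : Mat F k t) := by
    refine hR.subst_all hH (l := l) (by rw [hXl, hττ]) (by simp [hYdef, hll, hll'']) fun m hm => ?_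
    rcases eq_or_ne m l'' with rfl | h2
    · rw [hYdef, Function.update_self, hXS _ hl'']; exact gen_skew hB h hz hzn v v'
    rw [hYdef, Function.update_of_ne h2]
    rcases eq_or_ne m l' with rfl | h3
    · rw [Function.update_self, hXS _ hl']; exact gen_skew hB h hz hzn v v'
    · rw [Function.update_of_ne h3]; exact gen_refl _
  let Z : Fin t → Matrix (Fin k) (Fin k) F := fun m =>
    if m = l' then 𝕘.tau v v else if m = l then 𝕘.N v v' else if m = l'' then 𝕘.N v z else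
      if m ∈ T then y else X m
  have hZ : Root H (pureMat Z : Mat F k t) := by
    refine (root_cycle hH hR hπ3).subst_all hH (l := l') (by rw [hs1, hXl, hττ]) (by simp [Z, hs1, hXl]) fun m hm => ?_
    simp only [Z, if_neg hm]
    split_ifs with h1 h2 h3
    · rw [h1, hs3, hXS _ hl'']; exact gen_skew hB h hz hzn v v'
    · rw [h2, hs2, hXS _ hl']; exact gen_refl _
    · rw [hπs m h1 hm h2, hXT _ h3]; exact hy
    · rw [hπs m h1 hm h2]; exact gen_refl _
  have hYl : Y l = 𝕘.tau v v := by simp [hYdef, hll, hll'', hXl]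
  have hYl' : Y l' = 𝕘.N v v' := by simp [hYdef, hne']
  have hYl'' : Y l'' = 𝕘.N v v' := by simp [hYdef]
  have hYm : ∀ m, m ≠ l' → m ≠ l'' → Y m = X m := fun m a b => by simp [hYdef, a, b]
  have hZl : Z l = 𝕘.N v v' := by simp [Z, hll]
  have hZl' : Z l' = 𝕘.tau v v := by simp [Z]
  have hZl'' : Z l'' = 𝕘.N v z := by simp [Z, hne'.symm, hll''.symm]
  set a : Fin t → F := fun m => if m = l then -1 else if m = l' then 1 else if m = l'' then 1 else
    if m ∈ S then -𝕘.β z z else 1 with ha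
  set s : Fin t → F := fun m => if m = l ∨ m = l' then -1 else 1 with hs
  set U : Fin t → Matrix (Fin k) (Fin k) F := fun _ => 𝕘.tau v v with hU
  have e1 : (pureMat Y : Mat F k t) * pureMat Z =
      (∏ m, a m) • pureMat (Function.update U l'' (𝕘.N v v' * 𝕘.N v z)) := by
    rw [Aschbacher.pureMat_mul, ← Wreath.pureMat_smul]
    congr 1
    funext m
    rcases eq_or_ne m l'' with rfl | h2
    · simp [hYl'', hZl'', ha, hll''.symm, hne'.symm]
    rcases eq_or_ne m l with rfl | h1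
    · simp [hYl, hZl, ha, hU, hτh, h2]
    rcases eq_or_ne m l' with rfl | h3
    · simp [hYl', hZl', ha, hU, hhτ, h1, h2]
    rw [hYm m h3 h2]
    rcases hall m with hm | hm
    · simp [Z, hXT m hm, ha, hU, h1, h2, h3, hm, disjoint_left.1 hTS hm, hτy]
    · simp [Z, hXS m hm, ha, hU, h1, h2, h3, hm, disjoint_right.1 hTS hm, N_mul_N 𝕘 h.vv hz.1 hz.1]
  have e2 : (pureMat Z : Mat F k t) * pureMat Y =
      (∏ m, s m * a m) • pureMat (Function.update U l'' (𝕘.N v z * 𝕘.N v v')) := by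
    rw [Aschbacher.pureMat_mul, ← Wreath.pureMat_smul]
    congr 1
    funext m
    rcases eq_or_ne m l'' with rfl | h2
    · simp [hYl'', hZl'', ha, hs, hll''.symm, hne'.symm]
    rcases eq_or_ne m l with rfl | h1
    · simp [hYl, hZl, ha, hs, hU, hhτ, h2]
    rcases eq_or_ne m l' with rfl | h3
    · simp [hYl', hZl', ha, hs, hU, hτh, h1, h2]
    rw [hYm m h3 h2]
    rcases hall m with hm | hm
    · simp [Z, hXT m hm, ha, hs, hU, h1, h2, h3, hm, disjoint_left.1 hTS hm, hyτ]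
    · simp [Z, hXS m hm, ha, hs, hU, h1, h2, h3, hm, disjoint_right.1 hTS hm, N_mul_N 𝕘 h.vv hz.1 hz.1]
  have h1 : (pureMat Y : Mat F k t) * pureMat Z * pureMat Y = 0 := by
    rw [Aschbacher.pureMat_mul]
    refine pureMat_mul_slot_zero l ?_
    rw [hYl, hZl, hτh, neg_mul, hττ, neg_zero]
  have h2 : (pureMat Z : Mat F k t) * pureMat Y * pureMat Z = 0 := by
    rw [Aschbacher.pureMat_mul]
    refine pureMat_mul_slot_zero l' ?_
    rw [hYl', hZl', hτh, neg_mul, hττ, neg_zero]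
  have hp : ∏ m, s m * a m = ∏ m, a m := by
    have e : ∏ m, s m = 1 := by
      rw [Fintype.prod_eq_mul l l' hll fun x hx => by simp [hs, hx.1, hx.2]]
      simp [hs]
    rw [Finset.prod_mul_distrib, e, one_mul]
  have h3 := Root.comm hY hZ h1 h2
  rw [e1, e2, hp, ← smul_sub] at h3
  have hsub : (pureMat (Function.update U l'' (𝕘.N v v' * 𝕘.N v z)) : Mat F k t) -
      pureMat (Function.update U l'' (𝕘.N v z * 𝕘.N v v')) = pureMat (𝕘.pat v z (univ.erase l'') {l''}) := by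
    rw [pureMat_eq_sl_mul (Function.update U l'' _) l'', pureMat_eq_sl_mul (Function.update U l'' (𝕘.N v z * _)) l'',
      Function.update_self, Function.update_self, Function.update_idem, Function.update_idem, ← sub_mul, ← sl_sub, hhN,
      pureMat_eq_sl_mul (𝕘.pat v z (univ.erase l'') {l''}) l'']
    congr 2
    · simp [pat]
    · funext m
      rcases eq_or_ne m l'' with rfl | hm
      · simp
      · simp [pat, hm, hU]
  rw [hsub] at h3
  have hne : ∏ m, a m ≠ 0 := prod_ne_zero_iff.2 fun m _ => by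
    simp only [ha]
    split_ifs <;> simp [hzn]
  have h4 := h3.smul (∏ m, a m)⁻¹
  rwa [smul_smul, inv_mul_cancel₀ hne, one_smul] at h4

variable (𝕘) in
/-- The long root with skew slot `b`. -/
def Top (H : Subgroup (Mat F k t)ˣ) (v z : Fin k → F) (b : Fin t) : Prop :=
  Root H (pureMat (Function.update (fun _ => 𝕘.tau v v) b (𝕘.N v z)) : Mat F k t)

theorem pat_erase (v z : Fin k → F) (b : Fin t) :
    𝕘.pat v z (univ.erase b) {b} = Function.update (fun _ => 𝕘.tau v v) b (𝕘.N v z) := by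
  funext m
  rcases eq_or_ne m b with rfl | hm
  · simp [pat]
  · simp [pat, hm]

/-- A group with a slot root has a long root with one skew slot. -/
theorem Over.exists_top [Finite F] [NeZero k] (hH : 𝕘.Over H) (hk : 3 ≤ k) (hr : ¬ 𝕘.NoRoot H) :
    ∃ (v v' z : Fin k → F) (b : Fin t), 𝕘.Hyp v v' ∧ 𝕘.InU v v' z ∧ 𝕘.β z z ≠ 0 ∧ 𝕘.Top H v z b := by
  classical
  have hB := hH.big hk
  obtain ⟨v, v', z, T, S, h, hz, hzn, hTS, hT, hS, hR⟩ := hH.exists_pat hk hr
  refine ⟨v, v', z, ?_⟩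
  suffices ∀ (n : ℕ) (T S : Finset (Fin t)), (univ \ (T ∪ S)).card = n → Disjoint T S → T.Nonempty → S.Nonempty →
      Root H (pureMat (𝕘.pat v z T S) : Mat F k t) → ∃ b, 𝕘.Top H v z b by
    obtain ⟨b, hb⟩ := this _ T S rfl hTS hT hS hR
    exact ⟨b, h, hz, hzn, hb⟩
  intro n
  induction n using Nat.strong_induction_on with
  | _ n ih =>
    intro T S hn hTS ⟨l, hl⟩ ⟨l', hl'⟩ hR
    by_cases ho : ∃ o, o ∉ T ∧ o ∉ S
    · obtain ⟨o, hoT, hoS⟩ := ho
      refine ih _ ?_ (T ∪ S) {o} rfl (by simp [hoT, hoS]) ⟨l, mem_union_left _ hl⟩ ⟨o, mem_singleton_self o⟩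
        (climb_free hH hB h hz hzn hTS hl hl' hoT hoS hR)
      rw [← hn]
      refine card_lt_card ((ssubset_iff_of_subset fun x hx => ?_).2 ⟨o, by simp [hoT, hoS], by simp⟩)
      simp only [mem_sdiff, mem_univ, true_and, mem_union, not_or] at hx ⊢
      exact hx.1
    push Not at ho
    have hall : ∀ m, m ∈ T ∨ m ∈ S := fun m => or_iff_not_imp_left.2 (ho m)
    by_cases hS1 : ∃ l'', l'' ∈ S ∧ l'' ≠ l'
    · obtain ⟨l'', hl'', hne⟩ := hS1
      refine ⟨l'', ?_⟩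
      have := climb_merge hH hB h hz hzn hTS hall hl hl' hl'' hne.symm hR
      rwa [pat_erase] at this
    push Not at hS1
    refine ⟨l', ?_⟩
    have e : 𝕘.pat v z T S = 𝕘.pat v z (univ.erase l') {l'} := by
      funext m
      rcases eq_or_ne m l' with rfl | hm
      · simp [pat, hl', disjoint_right.1 hTS hl']
      · simp [pat, hm, (hall m).resolve_right fun h' => hm (hS1 m h')]
    rwa [e, pat_erase] at hR

end Gram

end Cfsg.Agent.H24.OWr
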