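import Cfsg.Agent.H24.OWr.Sums

/-!
Reduction of a set of tuples of matrices, stable under slot conjugations, to pure products of slot pieces.
-/

set_option autoImplicit false

namespace Cfsg.Agent.H24.OWr

open Matrix Finset
open Cfsg.Agent.Aschbacher (pureMat slotMat)
open Cfsg.Agent.H24.Wreath (Mat sl Off off_one off_sl sl_mul sl_one sl_add sl_smul sl_zero sl_comm off_pureMat)

variable {F : Type*} [Field F] {k t : ℕ}

namespace Gram

variable (𝕘 : Gram F k) {v v' : Fin k → F}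

/-- The contraction is bilinear and vanishes on singular vectors: its symmetrical part is a multiple of the form. -/
theorem ct_sym [Finite F] (hB : 𝕘.Big) (m : Fin t) {Z : Mat F k t}
    (h0 : ∀ w, 𝕘.β w w = 0 → 𝕘.ct m w w Z = 0) :
    ∃ C : Mat F k t, Off m C ∧ ∀ x, 𝕘.ct m x x Z = 𝕘.β x x • C := by
  obtain ⟨v, hv0, hvv⟩ := 𝕘.exists_singular hB.1
  obtain ⟨v', h⟩ := 𝕘.exists_hyp hv0 hvv
  set A := fun x y => 𝕘.ct m x y Z with hA
  set C := (2⁻¹ : F) • (A v v' + A v' v) with hC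
  refine ⟨C, (Off.add (𝕘.ct_off _ _ _ _) (𝕘.ct_off _ _ _ _)).smul _, ?_⟩
  set Q := fun x => A x x - 𝕘.β x x • C with hQ
  set R := fun x y => A x y + A y x - (2 * 𝕘.β x y) • C with hR
  have Qadd : ∀ x y, Q (x + y) = Q x + Q y + R x y := fun x y => by
    simp only [hQ, hR, hA, ct_add_left, ct_add_right, β_add_left, β_add_right, 𝕘.β_comm x y]
    module
  have Qsmul : ∀ (c : F) x, Q (c • x) = (c * c) • Q x := fun c x => by
    simp only [hQ, hA, ct_smul_left, ct_smul_right, β_smul_left, β_smul_right]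
    module
  have Rsmul : ∀ (c : F) x y, R x (c • y) = c • R x y ∧ R (c • x) y = c • R x y := fun c x y => by
    constructor <;>
    · simp only [hR, hA, ct_smul_left, ct_smul_right, β_smul_left, β_smul_right]
      module
  have Radd : ∀ x y z, R x (y + z) = R x y + R x z ∧ R (y + z) x = R y x + R z x := fun x y z => by
    constructor <;>
    · simp only [hR, hA, ct_add_left, ct_add_right, β_add_left, β_add_right]
      module
  have Rcomm : ∀ x y, R y x = R x y := fun x y => by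
    simp only [hR, 𝕘.β_comm x y]; abel
  have Qsing : ∀ w, 𝕘.β w w = 0 → Q w = 0 := fun w hw => by
    simp only [hQ, hA, h0 w hw, hw, zero_smul, sub_self]
  have Qv := Qsing v h.vv
  have Qv' := Qsing v' h.ww
  have Rvv' : R v v' = 0 := by
    simp only [hR, hC, h.vw, mul_one, smul_smul, mul_inv_cancel₀ 𝕘.two, one_smul, sub_self]
  -- singular vectors through an anisotropic one
  have key : ∀ z, 𝕘.InU v v' z → ∀ a : F, a ≠ 0 →
      Q z + a • R v z - (a⁻¹ * (2⁻¹ * 𝕘.β z z)) • R v' z = 0 := by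
    intro z hz a ha
    set b := -(a⁻¹ * (2⁻¹ * 𝕘.β z z)) with hb
    have hw : 𝕘.β (a • v + b • v' + z) (a • v + b • v' + z) = 0 := by
      simp only [β_add_left, β_add_right, β_smul_left, β_smul_right, h.vv, h.ww, h.vw, h.wv, hz.1, hz.2, hz.comm.1,
        hz.comm.2, hb]
      field_simp [𝕘.two]
      ring
    have h1 := Qsing _ hw
    rw [Qadd, Qadd, Qsmul, Qsmul, Qv, Qv', (Rsmul a v (b • v')).2, (Rsmul b v v').1, Rvv', (Radd z _ _).2,
      (Rsmul a v z).2, (Rsmul b v' z).2, smul_zero, smul_zero, smul_zero, smul_zero, add_zero, zero_add, zero_add] at h1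
    rw [← h1, hb]
    module
  have hQU : ∀ z, 𝕘.InU v v' z → Q z = 0 := fun z hz => by
    have h1 := key z hz 1 one_ne_zero
    have h2 := key z hz (-1) (neg_ne_zero.2 one_ne_zero)
    have h3 : (2 : F) • Q z = 0 := by
      rw [inv_neg, inv_one] at h2
      rw [inv_one] at h1
      linear_combination (norm := module) h1 + h2
    exact (smul_eq_zero.1 h3).resolve_left 𝕘.two
  have hRU : ∀ z, 𝕘.InU v v' z → 𝕘.β z z ≠ 0 → R v z = 0 ∧ R v' z = 0 := by
    intro z hz hzn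
    have e : ∀ w, 𝕘.InU v v' w → ∀ a : F, a ≠ 0 → (a * a) • R v w = (2⁻¹ * 𝕘.β w w) • R v' w := fun w hw a ha => by
      have h1 := key w hw a ha
      rw [hQU w hw, zero_add, sub_eq_zero] at h1
      have h2 := congrArg (a • ·) h1
      simp only [smul_smul, ← mul_assoc, mul_inv_cancel₀ ha, one_mul] at h2
      exact h2
    have hn0 : 2⁻¹ * 𝕘.β z z ≠ 0 := mul_ne_zero (inv_ne_zero 𝕘.two) hzn
    suffices hv : R v z = 0 by
      refine ⟨hv, ?_⟩
      have h1 := e z hz 1 one_ne_zero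
      rw [hv, smul_zero] at h1
      exact (smul_eq_zero.1 h1.symm).resolve_left hn0
    by_cases h3 : 3 < Nat.card F
    · obtain ⟨a, ha, ha1⟩ := exists_sq_ne_one h3
      have h1 := (e z hz a ha).trans (e z hz 1 one_ne_zero).symm
      rw [one_mul, one_smul, ← sub_eq_zero, show (a * a) • R v z - R v z = (a * a - 1) • R v z by rw [sub_smul, one_smul]] at h1
      exact (smul_eq_zero.1 h1).resolve_left (sub_ne_zero.2 ha1)
    · obtain ⟨h3, hk⟩ := card_eq_three hB h3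
      obtain ⟨y, hy, hzy, hn⟩ := h.exists_mate hk h3 hB.2.2 hz hzn
      set c := 2⁻¹ * 𝕘.β z z with hc
      have hyz : 𝕘.β y z = 0 := by rw [β_comm, hzy]
      have e1 := e z hz 1 one_ne_zero
      have e2 := e y hy 1 one_ne_zero
      have e3 := e (z + y) (inU_add _ hz hy) 1 one_ne_zero
      have e4 := e (z + (-1 : F) • y) (inU_add _ hz (inU_smul _ hy _)) 1 one_ne_zero
      rw [hn] at e2
      simp only [one_mul, one_smul, (Radd _ _ _).1, (Rsmul _ _ _).1, β_add_left, β_add_right, β_smul_left,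
        β_smul_right, hzy, hyz, hn, mul_zero, add_zero, zero_add] at e1 e2 e3 e4
      have hz' : R v' z = 0 ∨ c = 0 := by
        have h5 : (2 * c) • R v' z = (0 : Mat F k t) := by
          have h6 : c • R v' z + c • R v' y - ((2⁻¹ * (𝕘.β z z + 𝕘.β z z)) • (R v' z + R v' y)) = 0 := by
            rw [← e1, ← e2, ← e3, sub_self]
          have h7 : c • R v' z + (-1 : F) • (c • R v' y) -
              ((2⁻¹ * (𝕘.β z z + -1 * (-1 * 𝕘.β z z))) • (R v' z + (-1 : F) • R v' y)) = 0 := by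
            rw [← e1, ← e2, ← e4, sub_self]
          rw [← neg_eq_zero, ← add_zero (0 : Mat F k t)]
          nth_rw 1 [← h6]
          rw [← h7, hc]
          module
        rcases smul_eq_zero.1 h5 with h | h
        · exact Or.inr ((mul_eq_zero.1 h).resolve_left 𝕘.two)
        · exact Or.inl h
      rw [e1, hz'.resolve_right hn0, smul_zero]
  intro x
  have hLU : ∀ z, 𝕘.InU v v' z → R v z = 0 ∧ R v' z = 0 := fun z hz =>
    ⟨h.span_aniso hB.1 (L := R v) (fun a b => (Radd _ a b).1) (fun w hw hwn => (hRU w hw hwn).1) hz,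
      h.span_aniso hB.1 (L := R v') (fun a b => (Radd _ a b).1) (fun w hw hwn => (hRU w hw hwn).2) hz⟩
  rw [← sub_eq_zero]
  show Q x = 0
  have hp := 𝕘.pr_inU h x
  rw [← 𝕘.decomp (v := v) (v' := v') x, Qadd, Qadd, Qsmul, Qsmul, Qv, Qv', hQU _ hp, (Rsmul _ v _).2,
    (Rsmul _ v v').1, Rvv', (Radd _ _ _).2, (Rsmul _ v _).2, (Rsmul _ v' _).2, (hLU _ hp).1, (hLU _ hp).2]
  simp

/-- The shape of a matrix whose slot part is a skew map at `v`. -/
def NF (m : Fin t) (v v' : Fin k → F) (W : Mat F k t) : Prop :=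
  ∀ x y, 𝕘.ct m x y W =
    𝕘.β v y • 𝕘.ct m (𝕘.pr v v' x) v' W - 𝕘.β v x • 𝕘.ct m (𝕘.pr v v' y) v' W

theorem ct_coef2 [NeZero k] (hv : 𝕘.β v v = 0) {z : Fin k → F} (hz : 𝕘.β v z = 0) (m : Fin t) {Z C : Mat F k t}
    (hC : ∀ x, 𝕘.ct m x x Z = 𝕘.β x x • C) (x y : Fin k → F) :
    𝕘.ct m x y (𝕘.coef2 m v z Z) =
      𝕘.β v y • ((2⁻¹ * 𝕘.β z z) • (𝕘.ct m v x Z - 𝕘.β v x • C) - 𝕘.β z x • (𝕘.ct m v z Z - 𝕘.β v z • C)) -
      𝕘.β v x • ((2⁻¹ * 𝕘.β z z) • (𝕘.ct m v y Z - 𝕘.β v y • C) - 𝕘.β z y • (𝕘.ct m v z Z - 𝕘.β v z • C)) := by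
  have hsym : ∀ a b, 𝕘.ct m a b Z = (2 * 𝕘.β a b) • C - 𝕘.ct m b a Z := fun a b => by
    have h1 := hC (a + b)
    simp only [ct_add_left, ct_add_right, β_add_left, β_add_right, add_smul] at h1
    simp only [hC, 𝕘.β_comm a b] at h1
    rw [two_mul, add_smul, eq_sub_iff_add_eq]
    linear_combination (norm := abel) h1
  have hvv : 𝕘.ct m v v Z = 0 := by rw [hC, hv, zero_smul]
  simp only [coef2, ct_sub, ct_smul, ct_sl_left, ct_sl_right, adjD_tau, adjD_N, tau_mulVec, N_mulVec,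
    neg_mulVec, neg_sub, ct_smul_left, ct_smul_right, mul_assoc (sl m _) Z, neg_smul, ct_neg,
    show ∀ a b c, 𝕘.ct m (a - b) c Z = 𝕘.ct m a c Z - 𝕘.ct m b c Z from fun a b c => by
      rw [eq_sub_iff_add_eq, ← ct_add_left, sub_add_cancel],
    show ∀ a b c, 𝕘.ct m c (a - b) Z = 𝕘.ct m c a Z - 𝕘.ct m c b Z from fun a b c => by
      rw [eq_sub_iff_add_eq, ← ct_add_right, sub_add_cancel],
    smul_smul, hsym x v, hsym z v, hC z, hvv, 𝕘.β_comm v x, 𝕘.β_comm v z, hz, smul_zero]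
  obtain ⟨c, hc⟩ : ∃ c, 𝕘.β z z = 2 * c := ⟨𝕘.β z z / 2, by rw [mul_div_cancel₀ _ 𝕘.two]⟩
  simp only [hc, ← mul_assoc, inv_mul_cancel₀ 𝕘.two, one_mul]
  module

/-- A slot piece. -/
def Piece (X : Matrix (Fin k) (Fin k) F) : Prop :=
  (∃ v, v ≠ 0 ∧ 𝕘.β v v = 0 ∧ X = 𝕘.tau v v) ∨
    ∃ v v' z, 𝕘.Hyp v v' ∧ 𝕘.InU v v' z ∧ 𝕘.β z z ≠ 0 ∧ X = 𝕘.N v z

/-- Tuples of skew slot shape depend on one vector only. -/
def Single {ι : Type*} (m : Fin t) (K : AddSubgroup (ι → Mat F k t)) : Prop :=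
  ∀ g ∈ K, ∀ v v', 𝕘.Hyp v v' → (∀ i, 𝕘.NF m v v' (g i)) → g = 0 ∨ ∃ z, 𝕘.InU v v' z ∧ 𝕘.β z z ≠ 0 ∧
    ∀ i x, 𝕘.InU v v' x → 𝕘.ct m x v' (g i) = (𝕘.β z x / 𝕘.β z z) • 𝕘.ct m z v' (g i)

/-- Stability under reflections of the slot. -/
def RStab {ι : Type*} (m : Fin t) (K : AddSubgroup (ι → Mat F k t)) : Prop :=
  ∀ (y : Fin k → F) (hy : 𝕘.β y y ≠ 0), ∀ f ∈ K, (fun i => ad m (𝕘.reflU hy) (f i)) ∈ K

theorem ct_ad [NeZero k] (m : Fin t) {P : (Matrix (Fin k) (Fin k) F)ˣ} (hP : P ∈ 𝕘.O) (x y : Fin k → F) (Z : Mat F k t) :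
    𝕘.ct m x y (ad m P Z) = 𝕘.ct m (((P⁻¹ : (Matrix (Fin k) (Fin k) F)ˣ) : Matrix (Fin k) (Fin k) F) *ᵥ x)
      (((P⁻¹ : (Matrix (Fin k) (Fin k) F)ˣ) : Matrix (Fin k) (Fin k) F) *ᵥ y) Z := by
  have e : 𝕘.adjD (P : Matrix (Fin k) (Fin k) F) = ((P⁻¹ : (Matrix (Fin k) (Fin k) F)ˣ) : Matrix (Fin k) (Fin k) F) :=
    (Units.inv_eq_of_mul_eq_one_left (𝕘.adjD_mul_of_iso hP)).symm
  rw [ad, ct_sl_right, ct_sl_left, e]

theorem NF.sub {𝕘 : Gram F k} {m : Fin t} {W W' : Mat F k t} (h : 𝕘.NF m v v' W) (h' : 𝕘.NF m v v' W') :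
    𝕘.NF m v v' (W - W') := fun x y => by
  rw [ct_sub, h, h', ct_sub, ct_sub]
  module

theorem NF.move {𝕘 : Gram F k} [NeZero k] {m : Fin t} {W : Mat F k t} (h : 𝕘.NF m v v' W)
    {P : (Matrix (Fin k) (Fin k) F)ˣ} (hP : P ∈ 𝕘.O) (hPv : (P : Matrix (Fin k) (Fin k) F) *ᵥ v = v)
    (hPv' : (P : Matrix (Fin k) (Fin k) F) *ᵥ v' = v') : 𝕘.NF m v v' (ad m P W) := fun x y => by
  set Q := ((P⁻¹ : (Matrix (Fin k) (Fin k) F)ˣ) : Matrix (Fin k) (Fin k) F)
  have hQv : Q *ᵥ v = v := by conv_lhs => rw [← hPv, mulVec_mulVec, P.inv_mul, one_mulVec]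
  have hQv' : Q *ᵥ v' = v' := by conv_lhs => rw [← hPv', mulVec_mulVec, P.inv_mul, one_mulVec]
  have hQ : ∀ a, 𝕘.β v (Q *ᵥ a) = 𝕘.β v a ∧ 𝕘.β v' (Q *ᵥ a) = 𝕘.β v' a := fun a => by
    constructor
    · conv_lhs => rw [← hQv, show 𝕘.β (Q *ᵥ v) (Q *ᵥ a) = _ from (𝕘.O.inv_mem hP) v a]
    · conv_lhs => rw [← hQv', show 𝕘.β (Q *ᵥ v') (Q *ᵥ a) = _ from (𝕘.O.inv_mem hP) v' a]
  have hpr : ∀ a, 𝕘.pr v v' (Q *ᵥ a) = Q *ᵥ 𝕘.pr v v' a := fun a => by
    rw [pr, pr, (hQ a).1, (hQ a).2, mulVec_sub, mulVec_sub, mulVec_smul, mulVec_smul, hQv, hQv']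
  rw [𝕘.ct_ad m hP, h, 𝕘.ct_ad m hP, 𝕘.ct_ad m hP, hQv', hpr, hpr, (hQ x).1, (hQ y).1]

/-- A tuple of skew shape depending on one vector is a product with the skew map. -/
theorem NF.eq_sl_N {𝕘 : Gram F k} [NeZero k] (h : 𝕘.Hyp v v') {m : Fin t} {W : Mat F k t} (hW : 𝕘.NF m v v' W)
    {z : Fin k → F} (hz : 𝕘.InU v v' z)
    (hL : ∀ x, 𝕘.InU v v' x → 𝕘.ct m x v' W = (𝕘.β z x / 𝕘.β z z) • 𝕘.ct m z v' W) :
    W = sl m (𝕘.N v z) * (-(𝕘.β z z)⁻¹ • 𝕘.ct m z v' W) := by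
  refine 𝕘.ext_ct m fun x y => ?_
  rw [hW, hL _ (𝕘.pr_inU h x), hL _ (𝕘.pr_inU h y), 𝕘.ct_sl_mul ((𝕘.ct_off _ _ _ _).smul _), β_N, pr, pr,
    β_sub_right, β_sub_right, β_sub_right, β_sub_right, β_smul_right, β_smul_right, β_smul_right, β_smul_right,
    hz.comm.1, hz.comm.2, 𝕘.β_comm v x, 𝕘.β_comm z x]
  module

/-- Orthogonal anisotropic vectors determine a vector in dimension three. -/
theorem eq_smul_of_three {v v' z x : Fin k → F} (h : 𝕘.Hyp v v') (hk : k = 3) (hz : 𝕘.InU v v' z)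
    (hzn : 𝕘.β z z ≠ 0) (hx : 𝕘.InU v v' x) : x = (𝕘.β z x / 𝕘.β z z) • z := by
  let e : Fin 3 → Fin k → F := ![v, v', z]
  let f : (Fin k → F) →ₗ[F] (Fin k → F) :=
    LinearMap.pi fun i => (dotProductBilin F F (e (Fin.cast hk i))).comp 𝕘.G.mulVecLin
  have hf : ∀ y i, f y i = 𝕘.β (e (Fin.cast hk i)) y := fun y i => rfl
  have hs : Function.Surjective f := fun w => by
    refine ⟨w (Fin.cast hk.symm 1) • v + w (Fin.cast hk.symm 0) • v' + (w (Fin.cast hk.symm 2) / 𝕘.β z z) • z,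
      funext fun i => ?_⟩
    rw [hf]
    obtain ⟨j, rfl⟩ : ∃ j, i = Fin.cast hk.symm j := ⟨Fin.cast hk i, by simp⟩
    fin_cases j <;> simp [e, β_add_right, β_smul_right, h.vv, h.ww, h.vw, h.wv, hz.1, hz.2, hz.comm.1, hz.comm.2, hzn]
  refine (LinearMap.injective_iff_surjective.2 hs) (funext fun i => ?_)
  rw [hf, hf]
  obtain ⟨j, rfl⟩ : ∃ j, i = Fin.cast hk.symm j := ⟨Fin.cast hk i, by simp⟩
  fin_cases j <;> simp [e, β_smul_right, hz.1, hz.2, hx.1, hx.2, hzn]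

/-- One slot. -/
theorem extract_one [Finite F] {ι : Type*} (hB : 𝕘.Big) {m : Fin t} {K : AddSubgroup (ι → Mat F k t)}
    (hK : 𝕘.SStab m K) (hpur : k = 4 → 𝕘.RStab m K ∨ 𝕘.Single m K) {f : ι → Mat F k t} (hf : f ∈ K) :
    (∀ i, Off m (f i)) ∨ ∃ (X : Matrix (Fin k) (Fin k) F) (g : ι → Mat F k t), 𝕘.Piece X ∧ g ≠ 0 ∧ (∀ i, Off m (g i)) ∧ (fun i => sl m X * g i) ∈ K := by
  have hk0 : NeZero k := ⟨by have := hB.1; omega⟩
  by_cases hA : ∃ w, 𝕘.β w w = 0 ∧ ∃ i, 𝕘.ct m w w (f i) ≠ 0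
  · obtain ⟨w, hw, i₀, hi⟩ := hA
    have hw0 : w ≠ 0 := fun e => hi (by rw [e, ct_zero_left])
    obtain ⟨c, hc, hq⟩ := 𝕘.quartic hB hK hw0 hw
    refine Or.inr ⟨𝕘.tau w w, fun i => c • 𝕘.ct m w w (f i), Or.inl ⟨w, hw0, hw, rfl⟩, fun e => ?_,
      fun i => (𝕘.ct_off _ _ _ _).smul _, ?_⟩
    · exact (smul_ne_zero hc hi) (congrFun e i₀)
    · simp only [mul_smul_comm]
      exact hq f hf
  push Not at hA
  choose C hCoff hC using fun i => 𝕘.ct_sym hB m (Z := f i) fun w hw => hA w hw i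
  -- second differences
  have hg : ∀ (v v' z : Fin k → F), 𝕘.Hyp v v' → 𝕘.InU v v' z →
      (fun i => (2 : F) • 𝕘.coef2 m v z (f i)) ∈ K := by
    intro v v' z h hz
    have hs : ∀ s : F, 𝕘.β v (s • z) = 0 := fun s => by rw [β_smul_right, hz.1, mul_zero]
    have h1 := hK.conj _ (𝕘.ueU_mem hB h.vv (hs 1)) f hf
    have h2 := hK.conj _ (𝕘.ueU_mem hB h.vv (hs (-1))) f hf
    convert K.sub_mem (K.sub_mem (K.add_mem h1 h2) hf) hf using 1
    funext i
    simp only [Pi.sub_apply, Pi.add_apply, 𝕘.ad_ue m h.vv hz.1, coef4, tau_sandwich, hA v h.vv i, mul_zero,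
      smul_zero, add_zero]
    module
  by_cases hall : ∀ (v v' z : Fin k → F), 𝕘.Hyp v v' → 𝕘.InU v v' z → 𝕘.β z z ≠ 0 → ∀ i, 𝕘.coef2 m v z (f i) = 0
  · -- the alternating part vanishes
    refine Or.inl fun i => ?_
    set A := fun x y => 𝕘.ct m x y (f i) - 𝕘.β x y • C i with hAdef
    have Aadd : ∀ x y z, A (x + y) z = A x z + A y z ∧ A z (x + y) = A z x + A z y := fun x y z => by
      constructor <;>
      · simp only [hAdef, ct_add_left, ct_add_right, β_add_left, β_add_right]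
        module
    have Asmul : ∀ (c : F) x y, A (c • x) y = c • A x y ∧ A x (c • y) = c • A x y := fun c x y => by
      constructor <;>
      · simp only [hAdef, ct_smul_left, ct_smul_right, β_smul_left, β_smul_right]
        module
    have Aalt : ∀ x y, A y x = -A x y := fun x y => by
      have h1 := hC i (x + y)
      simp only [ct_add_left, ct_add_right, β_add_left, β_add_right, add_smul] at h1
      simp only [hC, 𝕘.β_comm x y] at h1
      simp only [hAdef, 𝕘.β_comm x y]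
      linear_combination (norm := abel) h1
    have hl : ∀ v v', 𝕘.Hyp v v' → (∀ z, 𝕘.InU v v' z → A v z = 0) ∧ ∀ x, A v x = 𝕘.β v x • A v v' := by
      intro v v' h
      have hz0 : ∀ z, 𝕘.InU v v' z → 𝕘.β z z ≠ 0 → ∀ x,
          (2⁻¹ * 𝕘.β z z) • A v x - 𝕘.β z x • A v z =
            𝕘.β v x • ((2⁻¹ * 𝕘.β z z) • A v v') := by
        intro z hz hzn x
        have h1 := 𝕘.ct_coef2 h.vv hz.1 m (z := z) (hC i) x v'
        rw [hall v v' z h hz hzn i, ct_zero, h.vw, one_smul, hz.comm.2, zero_smul, sub_zero, eq_comm,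
          sub_eq_zero] at h1
        simp only [hAdef]
        rw [h.vw]
        exact h1
      have hzU : ∀ z, 𝕘.InU v v' z → A v z = 0 := by
        refine fun z hz => h.span_aniso hB.1 (L := A v) (fun a b => (Aadd a b v).2) (fun w hw hwn => ?_) hz
        have h1 := hz0 w hw hwn w
        rw [hw.1, zero_smul, ← sub_smul] at h1
        refine (smul_eq_zero.1 h1).resolve_left ?_
        rw [show 2⁻¹ * 𝕘.β w w - 𝕘.β w w = -(2⁻¹ * 𝕘.β w w) by field_simp [𝕘.two]; ring]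
        exact neg_ne_zero.2 (mul_ne_zero (inv_ne_zero 𝕘.two) hwn)
      refine ⟨hzU, fun x => ?_⟩
      conv_lhs => rw [← 𝕘.decomp (v := v) (v' := v') x]
      rw [(Aadd _ _ _).2, (Aadd _ _ _).2, (Asmul _ _ _).2, (Asmul _ _ _).2, hzU _ (𝕘.pr_inU h x),
        show A v v = 0 by simp only [hAdef, hC, h.vv, zero_smul, sub_self], smul_zero, zero_add, add_zero]
    have h0 : ∀ v v', 𝕘.Hyp v v' → ∀ x, A v x = 0 ∧ ∀ z, 𝕘.InU v v' z → 𝕘.β z z ≠ 0 → A z x = 0 := by
      intro v v' h x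
      obtain ⟨a, ha, han⟩ := h.aniso hB.1
      have hw : ∀ z, 𝕘.InU v v' z → 𝕘.β z z ≠ 0 → ∃ w',
          𝕘.Hyp (v + z + (-(2⁻¹ * 𝕘.β z z)) • v') w' := fun z hz hzn => by
        refine 𝕘.exists_hyp (fun e => ?_) ?_
        · have := congrArg (𝕘.β z) e
          simp only [β_add_right, β_smul_right, hz.comm.1, hz.comm.2, β_zero_right, mul_zero, zero_add, add_zero] at this
          exact hzn this
        · simp only [β_add_left, β_add_right, β_smul_left, β_smul_right, h.vv, h.ww, h.vw, h.wv, hz.1, hz.2,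
            hz.comm.1, hz.comm.2]
          field_simp [𝕘.two]
          ring
      obtain ⟨hvU, hv⟩ := hl v v' h
      obtain ⟨hwU, hv'⟩ := hl v' v h.symm
      have hh : A v' v = -A v v' := Aalt v v'
      have hkey : ∀ z, 𝕘.InU v v' z → 𝕘.β z z ≠ 0 → A v v' = 0 ∧ ∀ x, A z x = 0 := by
        intro z hz hzn
        obtain ⟨w', hw'⟩ := hw z hz hzn
        obtain ⟨-, hwx⟩ := hl _ _ hw'
        set c := 2⁻¹ * 𝕘.β z z with hc
        set e := A (v + z + (-c) • v') w'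
        have hzv : A z v = 0 := by rw [Aalt, hvU z hz, neg_zero]
        have hzv' : A z v' = 0 := by rw [Aalt, hwU z hz.symm, neg_zero]
        have h1 := hwx v
        have h2 := hwx v'
        simp only [(Aadd _ _ _).1, (Asmul _ _ _).1, hzv, hzv', hh, β_add_left, β_smul_left, h.vv, h.ww, h.vw, h.wv,
          hz.comm.1, hz.comm.2, show A v v = 0 by simp only [hAdef, hC, h.vv, zero_smul, sub_self],
          show A v' v' = 0 by simp only [hAdef, hC, h.ww, zero_smul, sub_self], mul_zero, mul_one, add_zero,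
          zero_add, smul_zero] at h1 h2
        rw [one_smul] at h2
        simp only [smul_neg, neg_smul, neg_neg] at h1
        have h0 : A v v' = 0 := by
          rw [← h2] at h1
          have h4 : (2 * c) • A v v' = 0 := by
            rw [two_mul, add_smul]; nth_rw 1 [h1]; rw [neg_add_cancel]
          exact (smul_eq_zero.1 h4).resolve_left
            (mul_ne_zero 𝕘.two (mul_ne_zero (inv_ne_zero 𝕘.two) hzn))
        refine ⟨h0, fun x => ?_⟩
        have h3 := hwx x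
        rw [(Aadd _ _ _).1, (Aadd _ _ _).1, (Asmul _ _ _).1, hv x, hv' x, hh, h0, smul_zero, neg_zero, smul_zero,
          smul_zero, zero_add, add_zero] at h3
        rw [h3, show e = A v v' by exact h2.symm, h0, smul_zero]
      refine ⟨by rw [hv, (hkey a ha han).1, smul_zero], fun z hz hzn => (hkey z hz hzn).2 x⟩
    obtain ⟨v, hv0, hvv⟩ := 𝕘.exists_singular hB.1
    obtain ⟨v', h⟩ := 𝕘.exists_hyp hv0 hvv
    have hzero : f i = C i := 𝕘.ext_ct m fun x y => by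
      rw [𝕘.ct_of_off (hCoff i), ← sub_eq_zero]
      show A x y = 0
      have hU : ∀ w, 𝕘.InU v v' w → A w y = 0 := fun w hw =>
        h.span_aniso hB.1 (L := fun a => A a y) (fun a b => (Aadd a b y).1)
          (fun z hz hzn => (h0 v v' h y).2 z hz hzn) hw
      conv_lhs => rw [← 𝕘.decomp (v := v) (v' := v') x]
      rw [(Aadd _ _ _).1, (Aadd _ _ _).1, (Asmul _ _ _).1, (Asmul _ _ _).1, (h0 v v' h y).1,
        (h0 v' v h.symm y).1, hU _ (𝕘.pr_inU h x), smul_zero, smul_zero, add_zero, add_zero]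
    rw [hzero]; exact hCoff i
  -- a tuple of skew shape
  push Not at hall
  obtain ⟨v, v', z, h, hz, hzn, i₀, hi⟩ := hall
  refine Or.inr ?_
  set W := fun i => (2 : F) • 𝕘.coef2 m v z (f i) with hW
  have hWK : W ∈ K := hg v v' z h hz
  have hNF : ∀ i, 𝕘.NF m v v' (W i) := fun i x y => by
    simp only [hW, ct_smul, 𝕘.ct_coef2 h.vv hz.1 m (hC i)]
    have hvv : 𝕘.ct m v v (f i) = 0 := hA v h.vv i
    have hp := 𝕘.pr_inU h
    have el : ∀ a, 𝕘.ct m v a (f i) = 𝕘.β v' a • 𝕘.ct m v v (f i) + 𝕘.β v a • 𝕘.ct m v v' (f i) +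
        𝕘.ct m v (𝕘.pr v v' a) (f i) := fun a => by
      conv_lhs => rw [← 𝕘.decomp (v := v) (v' := v') a]
      rw [ct_add_right, ct_add_right, ct_smul_right, ct_smul_right]
    have eb : ∀ a, 𝕘.β z (𝕘.pr v v' a) = 𝕘.β z a := fun a => by
      rw [pr, β_sub_right, β_sub_right, β_smul_right, β_smul_right, hz.comm.1, hz.comm.2, mul_zero, sub_zero,
        mul_zero, sub_zero]
    simp only [(hp x).1, (hp y).1, h.vw, eb, hz.comm.2, el x, el y, hvv, smul_zero, zero_smul, zero_add,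
      sub_zero, one_smul]
    module
  have hW0 : W i₀ ≠ 0 := smul_ne_zero 𝕘.two hi
  -- finishing from a single vector
  have fin : ∀ (W : ι → Mat F k t) (z : Fin k → F), W ∈ K → (∀ i, 𝕘.NF m v v' (W i)) → W ≠ 0 →
      𝕘.InU v v' z → 𝕘.β z z ≠ 0 →
      (∀ i x, 𝕘.InU v v' x → 𝕘.ct m x v' (W i) = (𝕘.β z x / 𝕘.β z z) • 𝕘.ct m z v' (W i)) →
      ∃ (X : Matrix (Fin k) (Fin k) F) (g : ι → Mat F k t), 𝕘.Piece X ∧ g ≠ 0 ∧ (∀ i, Off m (g i)) ∧
        (fun i => sl m X * g i) ∈ K := by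
    intro W z hWK hNF hW0 hz hzn hL
    refine ⟨𝕘.N v z, fun i => -(𝕘.β z z)⁻¹ • 𝕘.ct m z v' (W i), Or.inr ⟨v, v', z, h, hz, hzn, rfl⟩, fun e => ?_,
      fun i => (𝕘.ct_off _ _ _ _).smul _, ?_⟩
    · refine hW0 (funext fun i => ?_)
      rw [(hNF i).eq_sl_N h hz (hL i), show (-(𝕘.β z z)⁻¹ • 𝕘.ct m z v' (W i)) = 0 from congrFun e i, mul_zero]
      rfl
    · have e : W = fun i => sl m (𝕘.N v z) * (-(𝕘.β z z)⁻¹ • 𝕘.ct m z v' (W i)) :=
        funext fun i => (hNF i).eq_sl_N h hz (hL i)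
      rw [← e]; exact hWK
  have hWne : W ≠ 0 := fun e => hW0 (congrFun e i₀)
  -- the linear map of the first argument
  let L : (Fin k → F) →ₗ[F] (ι → Mat F k t) :=
    { toFun := fun x i => 𝕘.ct m x v' (W i)
      map_add' := fun a b => funext fun i => 𝕘.ct_add_left m a b v' (W i)
      map_smul' := fun c a => funext fun i => 𝕘.ct_smul_left m c a v' (W i) }
  have hLne : ∃ a, 𝕘.InU v v' a ∧ L a ≠ 0 := by
    by_contra hc
    push Not at hc
    refine hW0 (𝕘.ext_ct m fun x y => ?_)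
    rw [hNF i₀, ct_zero, show 𝕘.ct m (𝕘.pr v v' x) v' (W i₀) = 0 from congrFun (hc _ (𝕘.pr_inU h x)) i₀,
      show 𝕘.ct m (𝕘.pr v v' y) v' (W i₀) = 0 from congrFun (hc _ (𝕘.pr_inU h y)) i₀, smul_zero, smul_zero, sub_zero]
  rcases lt_trichotomy k 4 with hk | hk | hk
  · have hk3 : k = 3 := by have := hB.1; omega
    refine fin W z hWK hNF hWne hz hzn fun i x hx => ?_
    conv_lhs => rw [𝕘.eq_smul_of_three h hk3 hz hzn hx, ct_smul_left]
  · rcases hpur hk with hR | hS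
    · obtain ⟨y, hy, hyn, hyL⟩ : ∃ y, 𝕘.InU v v' y ∧ 𝕘.β y y ≠ 0 ∧ L y ≠ 0 := by
        by_contra hc
        push Not at hc
        obtain ⟨a, ha, haL⟩ := hLne
        exact haL (h.span_aniso hB.1 (L := L) (fun p q => map_add L p q) (fun w hw hwn => hc w hw hwn) ha)
      have hr : 𝕘.reflU hyn ∈ 𝕘.O := 𝕘.reflU_mem hyn
      have hrv : 𝕘.refl y *ᵥ v = v := 𝕘.refl_fix hy.comm.1
      have hrv' : 𝕘.refl y *ᵥ v' = v' := 𝕘.refl_fix hy.comm.2
      have hL' : ∀ i x, 𝕘.InU v v' x → 𝕘.ct m x v' (ad m (𝕘.reflU hyn) (W i) - W i) =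
          -(2 / 𝕘.β y y * 𝕘.β y x) • 𝕘.ct m y v' (W i) := fun i x hx => by
        rw [ct_sub, 𝕘.ct_ad m hr]
        show 𝕘.ct m (𝕘.refl y *ᵥ x) (𝕘.refl y *ᵥ v') (W i) - _ = _
        rw [hrv', refl_mulVec, sub_eq_add_neg x, ← neg_smul, ct_add_left, ct_smul_left, add_sub_cancel_left]
      refine fin _ y (K.sub_mem (hR y hyn W hWK) hWK) (fun i => ((hNF i).move hr hrv hrv').sub (hNF i)) ?_ hy hyn ?_
      · intro e
        refine hyL (funext fun i => ?_)
        have h1 := hL' i y hy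
        have e' : ad m (𝕘.reflU hyn) (W i) - W i = 0 := congrFun e i
        rw [e', ct_zero, div_mul_cancel₀ _ hyn, eq_comm, smul_eq_zero] at h1
        exact h1.resolve_left (neg_ne_zero.2 𝕘.two)
      · intro i x hx
        simp only [Pi.sub_apply]
        rw [hL' i x hx, hL' i y hy, smul_smul]
        congr 1
        field_simp
    · obtain hW | ⟨z', hz', hzn', hL⟩ := hS W hWK v v' h hNF
      · exact absurd hW hWne
      · exact fin W z' hWK hNF hWne hz' hzn' hL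
  · obtain ⟨a, ha, haL⟩ := hLne
    obtain ⟨a, hT, haL⟩ : ∃ a, 𝕘.Tri v v' a ∧ L a ≠ 0 := by
      by_contra hc
      push Not at hc
      exact haL (h.span_tri (by omega) L (fun w hw => hc w hw) ha)
    obtain ⟨ha, han, y, w, hy, hw, hyn, hwn, hay, haw, hyw⟩ := hT
    obtain ⟨P, hP, hPv⟩ := 𝕘.plane_neg han hay hyn
    obtain ⟨P', hP', hPv'⟩ := 𝕘.plane_neg han haw hwn
    have hOm : (𝕘.Om : Subgroup _) ≤ 𝕘.O := Subgroup.commutator_le_self _
    have hops : ∀ (Q : (Matrix (Fin k) (Fin k) F)ˣ) (b : Fin k → F), Q ∈ 𝕘.O →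
        (Q : Matrix (Fin k) (Fin k) F) = 𝕘.refl a * 𝕘.refl b → 𝕘.InU v v' b → 𝕘.β a b = 0 →
        𝕘.β b b = 𝕘.β a a →
        (Q : Matrix (Fin k) (Fin k) F) *ᵥ v = v ∧ (Q : Matrix (Fin k) (Fin k) F) *ᵥ v' = v' ∧
          ∀ (U : Mat F k t) x, 𝕘.ct m x v' (ad m Q U - U) =
            -(2 / 𝕘.β a a) • (𝕘.β a x • 𝕘.ct m a v' U + 𝕘.β b x • 𝕘.ct m b v' U) := by
      intro Q b hQ hQe hb hab hbn
      have hfix : ∀ u, 𝕘.β a u = 0 → 𝕘.β b u = 0 → (Q : Matrix (Fin k) (Fin k) F) *ᵥ u = u := fun u h1 h2 => by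
        rw [hQe, 𝕘.plane_mulVec hab hbn, h1, h2, zero_smul, zero_smul, add_zero, smul_zero, sub_zero]
      have hQv := hfix v ha.comm.1 hb.comm.1
      have hQv' := hfix v' ha.comm.2 hb.comm.2
      refine ⟨hQv, hQv', fun U x => ?_⟩
      have hinv : ((Q⁻¹ : (Matrix (Fin k) (Fin k) F)ˣ) : Matrix (Fin k) (Fin k) F) = Q := by
        refine Units.inv_eq_of_mul_eq_one_right (Matrix.ext_iff_mulVec.2 fun u => ?_)
        rw [← mulVec_mulVec, hQe, 𝕘.plane_mulVec hab hbn, 𝕘.plane_mulVec hab hbn, one_mulVec]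
        simp only [β_sub_right, β_smul_right, β_add_right, hab, 𝕘.β_comm a b, hbn]
        match_scalars <;> field_simp <;> ring
      rw [ct_sub, 𝕘.ct_ad m hQ, hinv, hQv', hQe, 𝕘.plane_mulVec hab hbn, sub_eq_add_neg x, ← neg_smul,
        ct_add_left, ct_smul_left, ct_add_left, ct_smul_left, ct_smul_left, add_sub_cancel_left]
    obtain ⟨hP1, hP2, hPct⟩ := hops P y (hOm hP) hPv hy hay hyn
    obtain ⟨hP1', hP2', hPct'⟩ := hops P' w (hOm hP') hPv' hw haw hwn
    set W₁ := fun i => ad m P (W i) - W i with hW₁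
    have hW₁K : W₁ ∈ K := K.sub_mem (hK.conj P hP W hWK) hWK
    have hNF₁ : ∀ i, 𝕘.NF m v v' (W₁ i) := fun i => ((hNF i).move (hOm hP) hP1 hP2).sub (hNF i)
    have hfin : ∀ i x, 𝕘.ct m x v' (ad m P' (W₁ i) - W₁ i) =
        ((2 / 𝕘.β a a) * 2 * 𝕘.β a x) • 𝕘.ct m a v' (W i) := by
      intro i x
      rw [hPct']
      simp only [hW₁, hPct, 𝕘.β_comm a y, hay, haw, hyw, zero_smul, add_zero, smul_zero, smul_smul]
      match_scalars
      field_simp
    refine fin _ a (K.sub_mem (hK.conj P' hP' W₁ hW₁K) hW₁K)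
      (fun i => ((hNF₁ i).move (hOm hP') hP1' hP2').sub (hNF₁ i)) ?_ ha han ?_
    · intro e
      refine haL (funext fun i => ?_)
      have h1 := hfin i a
      have e' : ad m P' (W₁ i) - W₁ i = 0 := congrFun e i
      rw [e', ct_zero, eq_comm, smul_eq_zero] at h1
      exact h1.resolve_left (mul_ne_zero (mul_ne_zero (div_ne_zero 𝕘.two han) 𝕘.two) han)
    · intro i x hx
      simp only [Pi.sub_apply]
      rw [hfin i x, hfin i a, smul_smul]
      congr 1
      field_simp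

theorem off_ad {j m : Fin t} (hjm : j ≠ m) {Z : Mat F k t} (hZ : Off j Z) (P : (Matrix (Fin k) (Fin k) F)ˣ) :
    Off j (ad m P Z) := ((off_sl hjm _).mul hZ).mul (off_sl hjm _)

/-- The reduction over a set of slots. -/
theorem extract [Finite F] {ι : Type*} (hB : 𝕘.Big) (T : Finset (Fin t)) {K : AddSubgroup (ι → Mat F k t)}
    (hK : ∀ m ∈ T, 𝕘.SStab m K)
    (hpur : k = 4 → (∀ m ∈ T, 𝕘.RStab m K) ∨ (T.card ≤ 1 ∧ ∀ m ∈ T, 𝕘.Single m K))
    {f : ι → Mat F k t} (hf : f ∈ K) (hne : ∃ i, ∃ m ∈ T, ¬ Off m (f i)) :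
    ∃ (p : Fin t → Matrix (Fin k) (Fin k) F) (g : ι → Mat F k t), g ≠ 0 ∧ (∀ i, ∀ m ∈ T, Off m (g i)) ∧
      (∀ m, p m = 1 ∨ m ∈ T ∧ 𝕘.Piece (p m)) ∧ (∃ m ∈ T, 𝕘.Piece (p m)) ∧
      (fun i => pureMat p * g i) ∈ K := by
  classical
  suffices ∀ S, S ⊆ T → ∃ (p : Fin t → Matrix (Fin k) (Fin k) F) (g : ι → Mat F k t), g ≠ 0 ∧
      (∀ i, ∀ m ∈ S, Off m (g i)) ∧ (∀ m, p m = 1 ∨ m ∈ S ∧ 𝕘.Piece (p m)) ∧
      ((∀ m, p m = 1) ∧ g = f ∨ ∃ m ∈ S, 𝕘.Piece (p m)) ∧ (fun i => pureMat p * g i) ∈ K by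
    obtain ⟨p, g, h1, h2, h3, h4, h5⟩ := this T subset_rfl
    refine ⟨p, g, h1, h2, h3, h4.resolve_left fun hh => ?_, h5⟩
    obtain ⟨i, m, hm, hmi⟩ := hne
    exact hmi (hh.2 ▸ h2 i m hm)
  intro S
  induction S using Finset.induction with
  | empty =>
    intro _
    refine ⟨fun _ => 1, f, fun e => ?_, fun i m hm => absurd hm (notMem_empty m), fun m => Or.inl rfl,
      Or.inl ⟨fun _ => rfl, rfl⟩, by simpa [Aschbacher.pureMat_one] using hf⟩
    obtain ⟨i, m, -, hmi⟩ := hne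
    exact hmi (by rw [show f i = 0 from congrFun e i]; exact fun X => by rw [mul_zero, zero_mul])
  | insert j S hjS ih =>
    intro hST
    obtain ⟨p, g, hg0, hgoff, hp, hfirst, hmem⟩ := ih fun x hx => hST (mem_insert_of_mem hx)
    have hjT := hST (mem_insert_self j S)
    have hpj : p j = 1 := (hp j).resolve_right fun h => hjS h.1
    have hR := off_pureMat (k := k) hpj
    have hne' : ∀ m ∈ S, m ≠ j := fun m hm e => hjS (e ▸ hm)
    let K' : AddSubgroup (ι → Mat F k t) :=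
      { carrier := {u | (∀ i, ∀ m ∈ S, Off m (u i)) ∧ (fun i => pureMat p * u i) ∈ K}
        zero_mem' := ⟨fun i m _ X => by simp, by simp only [Pi.zero_apply, mul_zero]; exact K.zero_mem⟩
        add_mem' := fun {a b} ha hb => ⟨fun i m hm => (ha.1 i m hm).add (hb.1 i m hm), by
          simp only [Pi.add_apply, mul_add]; exact K.add_mem ha.2 hb.2⟩
        neg_mem' := fun {a} ha => ⟨fun i m hm => (ha.1 i m hm).neg, by
          simp only [Pi.neg_apply, mul_neg]; exact K.neg_mem ha.2⟩ }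
    have had : ∀ (P : (Matrix (Fin k) (Fin k) F)ˣ) (u : ι → Mat F k t),
        (fun i => pureMat p * ad j P (u i)) = fun i => ad j P (pureMat p * u i) := fun P u => funext fun i => by
      simp only [ad, ← mul_assoc]
      rw [hR]
    have hK' : 𝕘.SStab j K' :=
      ⟨fun P hP u hu => ⟨fun i m hm => off_ad (hne' m hm) (hu.1 i m hm) P, by
        rw [had]; exact (hK j hjT).conj P hP _ hu.2⟩,
      fun a ha u hu => ⟨fun i m hm => (hu.1 i m hm).smul _, by
        have := (hK j hjT).four a ha _ hu.2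
        simp only [Pi.smul_apply, mul_smul_comm]
        exact this⟩⟩
    have hpur' : k = 4 → 𝕘.RStab j K' ∨ 𝕘.Single j K' := fun h4 => by
      rcases hpur h4 with hr | ⟨hc, hs⟩
      · exact Or.inl fun y hy u hu => ⟨fun i m hm => off_ad (hne' m hm) (hu.1 i m hm) _, by
          rw [had]; exact hr j hjT y hy _ hu.2⟩
      · refine Or.inr fun u hu => hs j hjT u ?_
        have hS0 : S = ∅ := by
          rw [← Finset.card_eq_zero]
          have := Finset.card_le_card hST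
          rw [Finset.card_insert_of_notMem hjS] at this
          omega
        have hp1 : p = fun _ => 1 := funext fun m => (hp m).resolve_right fun h => by
          rw [hS0] at h; exact absurd h.1 (notMem_empty m)
        have := hu.2
        rw [hp1] at this
        simpa [Aschbacher.pureMat_one] using this
    rcases 𝕘.extract_one hB hK' hpur' (f := g) ⟨hgoff, hmem⟩ with hall | ⟨X, g', hX, hg', hg'off, hg'S, hg'mem⟩
    · refine ⟨p, g, hg0, fun i m hm => ?_, fun m => (hp m).imp_right fun h => ⟨mem_insert_of_mem h.1, h.2⟩,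
        hfirst.imp_right fun ⟨m, hm, hm'⟩ => ⟨m, mem_insert_of_mem hm, hm'⟩, hmem⟩
      rcases Finset.mem_insert.1 hm with rfl | hm
      exacts [hall i, hgoff i m hm]
    · have hX0 : X ≠ 0 := by
        rcases hX with ⟨v, hv0, -, rfl⟩ | ⟨v, v', z, hh, hz, hzn, rfl⟩
        · exact 𝕘.tau_ne_zero hv0 hv0
        · intro e
          have := 𝕘.N_mulVec v z v'
          rw [e, zero_mulVec, hz.comm.2, hh.vw, zero_smul, one_smul, zero_sub, eq_comm, neg_eq_zero] at this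
          rw [this, β_zero_left] at hzn
          exact hzn rfl
      refine ⟨Function.update p j X, g', hg', fun i m hm => ?_, fun m => ?_,
        Or.inr ⟨j, mem_insert_self j S, by rwa [Function.update_self]⟩, ?_⟩
      · rcases Finset.mem_insert.1 hm with rfl | hm
        · exact hg'off i
        · intro Y
          have hc := (hg'off i)
          refine ((off_sl (hne' m hm).symm Y).mul hc).cancel (hc.mul (off_sl (hne' m hm).symm Y)) hX0 ?_
          have h1 := hg'S i m hm Y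
          simp only [← mul_assoc, sl_comm (hne' m hm).symm X Y] at h1 ⊢
          exact h1
      · rcases eq_or_ne m j with rfl | hm
        · exact Or.inr ⟨mem_insert_self _ _, by rwa [Function.update_self]⟩
        · rw [Function.update_of_ne hm]
          exact (hp m).imp_right fun h => ⟨mem_insert_of_mem h.1, h.2⟩
      · have e : (pureMat (Function.update p j X) : Mat F k t) = pureMat p * sl j X := by
          rw [sl, slotMat, Aschbacher.pureMat_mul]
          congr 1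
          funext l
          rcases eq_or_ne l j with rfl | hl
          · simp [hpj]
          · simp [Function.update_of_ne hl]
        simpa only [e, mul_assoc] using hg'mem

end Gram

end Cfsg.Agent.H24.OWr
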