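import Cfsg.Agent.H24.OWr.Gram
import Mathlib.FieldTheory.Finite.Basic
import Mathlib.LinearAlgebra.Dimension.Constructions

/-!
Anisotropic, singular and equal-norm vectors of a symmetric form over a finite field.
-/

set_option autoImplicit false

namespace Cfsg.Agent.H24.OWr

open Matrix Finset

variable {F : Type*} [Field F] {k : ℕ}

namespace Gram

variable (𝕘 : Gram F k)

/-- A non-zero vector orthogonal to fewer than `k` given vectors. -/
theorem exists_perp {j : ℕ} (hj : j < k) (e : Fin j → Fin k → F) :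
    ∃ x : Fin k → F, x ≠ 0 ∧ ∀ i, 𝕘.β (e i) x = 0 := by
  let f : (Fin k → F) →ₗ[F] (Fin j → F) :=
    LinearMap.pi fun i => (dotProductBilin F F (e i)).comp 𝕘.G.mulVecLin
  have h := LinearMap.ker_ne_bot_of_finrank_lt (f := f) (by rwa [Module.finrank_fin_fun, Module.finrank_fin_fun])
  obtain ⟨x, hx, hx0⟩ := Submodule.exists_mem_ne_zero_of_ne_bot h
  exact ⟨x, hx0, fun i => congrFun hx i⟩

/-- An anisotropic vector orthogonal to fewer than `k` orthogonal anisotropic vectors. -/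
theorem exists_aniso_perp {j : ℕ} (hj : j < k) (e : Fin j → Fin k → F) (he : ∀ i, 𝕘.β (e i) (e i) ≠ 0)
    (ho : ∀ a b, a ≠ b → 𝕘.β (e a) (e b) = 0) :
    ∃ x : Fin k → F, (∀ i, 𝕘.β (e i) x = 0) ∧ 𝕘.β x x ≠ 0 := by
  obtain ⟨x, hx, hxe⟩ := 𝕘.exists_perp hj e
  by_cases hn : 𝕘.β x x ≠ 0
  · exact ⟨x, hxe, hn⟩
  push Not at hn
  obtain ⟨y, hy⟩ := 𝕘.exists_one hx
  set y' := y - ∑ i, (𝕘.β (e i) y / 𝕘.β (e i) (e i)) • e i with hy'
  have hye : ∀ i, 𝕘.β (e i) y' = 0 := fun i => by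
    rw [hy', β_sub_right, β_sum_right, Finset.sum_eq_single i]
    · rw [β_smul_right, div_mul_cancel₀ _ (he i), sub_self]
    · intro l _ hl
      rw [β_smul_right, ho i l (Ne.symm hl), mul_zero]
    · exact fun h => absurd (mem_univ i) h
  have hxy : 𝕘.β x y' = 1 := by
    rw [hy', β_sub_right, β_sum_right, Finset.sum_eq_zero, sub_zero, hy]
    intro l _
    rw [β_smul_right, 𝕘.β_comm (e l) x, hxe, mul_zero]
  by_cases hn' : 𝕘.β y' y' ≠ 0
  · exact ⟨y', hye, hn'⟩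
  push Not at hn'
  refine ⟨x + y', fun i => by rw [β_add_right, hxe, hye, add_zero], ?_⟩
  rw [β_add_left, β_add_right, β_add_right, hn, hn', hxy, 𝕘.β_comm x y', hxy, zero_add, add_zero, ← two_mul, mul_one]
  exact 𝕘.two

variable {v v' : Fin k → F}

/-- An anisotropic vector orthogonal to the pair and to some orthogonal anisotropic vectors. -/
theorem Hyp.exists_aniso {𝕘 : Gram F k} (h : 𝕘.Hyp v v') {j : ℕ} (hj : j + 2 < k) (e : Fin j → Fin k → F)
    (hU : ∀ i, 𝕘.InU v v' (e i)) (he : ∀ i, 𝕘.β (e i) (e i) ≠ 0) (ho : ∀ a b, a ≠ b → 𝕘.β (e a) (e b) = 0) :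
    ∃ x : Fin k → F, 𝕘.InU v v' x ∧ (∀ i, 𝕘.β (e i) x = 0) ∧ 𝕘.β x x ≠ 0 := by
  have hp : 𝕘.β (v + v') (v + v') = 2 := by
    simp only [β_add_left, β_add_right, h.vv, h.ww, h.vw, h.wv]; ring
  have hm : 𝕘.β (v - v') (v - v') = -2 := by
    simp only [β_sub_left, β_sub_right, h.vv, h.ww, h.vw, h.wv]; ring
  have hpm : 𝕘.β (v + v') (v - v') = 0 := by
    simp only [β_add_left, β_sub_right, h.vv, h.ww, h.vw, h.wv]; ring
  have hpe : ∀ i, 𝕘.β (v + v') (e i) = 0 ∧ 𝕘.β (v - v') (e i) = 0 := fun i =>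
    ⟨by rw [β_add_left, (hU i).1, (hU i).2, add_zero], by rw [β_sub_left, (hU i).1, (hU i).2, sub_zero]⟩
  have hn1 : ∀ i, 𝕘.β ((Fin.cons (v + v') (Fin.cons (v - v') e) : Fin (j + 2) → Fin k → F) i)
      ((Fin.cons (v + v') (Fin.cons (v - v') e) : Fin (j + 2) → Fin k → F) i) ≠ 0 := by
    intro i
    induction i using Fin.cases with
    | zero => rw [Fin.cons_zero, hp]; exact 𝕘.two
    | succ i =>
      induction i using Fin.cases with
      | zero => rw [Fin.cons_succ, Fin.cons_zero, hm]; exact neg_ne_zero.2 𝕘.two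
      | succ i => rw [Fin.cons_succ, Fin.cons_succ]; exact he i
  have hn2 : ∀ a b, a ≠ b → 𝕘.β ((Fin.cons (v + v') (Fin.cons (v - v') e) : Fin (j + 2) → Fin k → F) a)
      ((Fin.cons (v + v') (Fin.cons (v - v') e) : Fin (j + 2) → Fin k → F) b) = 0 := by
    intro a b hab
    induction a using Fin.cases with
    | zero =>
      induction b using Fin.cases with
      | zero => exact absurd rfl hab
      | succ b =>
        induction b using Fin.cases with
        | zero => simpa using hpm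
        | succ b => simpa using (hpe b).1
    | succ a =>
      induction b using Fin.cases with
      | zero =>
        rw [β_comm]
        induction a using Fin.cases with
        | zero => simpa using hpm
        | succ a => simpa using (hpe a).1
      | succ b =>
        induction a using Fin.cases with
        | zero =>
          induction b using Fin.cases with
          | zero => exact absurd rfl hab
          | succ b => simpa using (hpe b).2
        | succ a =>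
          induction b using Fin.cases with
          | zero => rw [β_comm]; simpa using (hpe a).2
          | succ b => simpa using ho a b fun e => hab (by rw [e])
  obtain ⟨x, hx, hn⟩ := 𝕘.exists_aniso_perp hj _ hn1 hn2
  have h1 := hx 0
  have h2 := hx 1
  rw [Fin.cons_zero, β_add_left] at h1
  rw [show (1 : Fin (j + 2)) = Fin.succ 0 from rfl, Fin.cons_succ, Fin.cons_zero, β_sub_left] at h2
  refine ⟨x, ⟨?_, ?_⟩, fun i => by simpa using hx i.succ.succ, hn⟩
  · exact (mul_eq_zero.1 (show (2 : F) * 𝕘.β v x = 0 by linear_combination h1 + h2)).resolve_left 𝕘.two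
  · exact (mul_eq_zero.1 (show (2 : F) * 𝕘.β v' x = 0 by linear_combination h1 - h2)).resolve_left 𝕘.two

/-- An anisotropic vector orthogonal to the pair. -/
theorem Hyp.aniso {𝕘 : Gram F k} (h : 𝕘.Hyp v v') (hk : 3 ≤ k) :
    ∃ z : Fin k → F, 𝕘.InU v v' z ∧ 𝕘.β z z ≠ 0 := by
  obtain ⟨x, hx, -, hn⟩ := h.exists_aniso (j := 0) (by omega) (fun i => i.elim0) (fun i => i.elim0) (fun i => i.elim0)
    (fun i => i.elim0)
  exact ⟨x, hx, hn⟩

/-- A linear property of the anisotropic vectors orthogonal to the pair holds for all of them. -/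
theorem Hyp.span_aniso {𝕘 : Gram F k} (h : 𝕘.Hyp v v') (hk : 3 ≤ k) {E : Type*} [AddCommGroup E]
    {L : (Fin k → F) → E} (hL : ∀ x y, L (x + y) = L x + L y)
    (h0 : ∀ z, 𝕘.InU v v' z → 𝕘.β z z ≠ 0 → L z = 0) {x : Fin k → F} (hx : 𝕘.InU v v' x) : L x = 0 := by
  by_cases hn : 𝕘.β x x ≠ 0
  · exact h0 x hx hn
  push Not at hn
  have hL0 : L 0 = 0 := by simpa using hL 0 0
  have hneg : ∀ y, L (-y) = -L y := fun y => eq_neg_of_add_eq_zero_left (by rw [← hL, neg_add_cancel, hL0])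
  obtain ⟨a, ha, han⟩ := h.aniso hk
  have hs : ∀ c : F, 𝕘.β (x + c • a) (x + c • a) = 2 * c * 𝕘.β x a + c * c * 𝕘.β a a := fun c => by
    simp only [β_add_left, β_add_right, β_smul_left, β_smul_right, hn, 𝕘.β_comm x a]; ring
  have hor : ∃ c : F, c ≠ 0 ∧ 𝕘.β (x + c • a) (x + c • a) ≠ 0 := by
    by_contra hc
    push Not at hc
    have h1 := hc 1 one_ne_zero
    have h2 := hc (-1) (neg_ne_zero.2 one_ne_zero)
    rw [hs] at h1 h2
    exact han ((mul_eq_zero.1 (show (2 : F) * 𝕘.β a a = 0 by linear_combination h1 + h2)).resolve_left 𝕘.two)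
  obtain ⟨c, hc, hcn⟩ := hor
  have h1 := h0 _ (inU_add _ hx (inU_smul _ ha c)) hcn
  rw [hL, h0 (c • a) (inU_smul _ ha c) (by
    rw [β_smul_left, β_smul_right]; exact mul_ne_zero hc (mul_ne_zero hc han)), add_zero] at h1
  exact h1

/-- A partner making a singular pair. -/
theorem exists_hyp {v : Fin k → F} (hv : v ≠ 0) (hvv : 𝕘.β v v = 0) : ∃ v', 𝕘.Hyp v v' := by
  obtain ⟨y, hy⟩ := 𝕘.exists_one hv
  refine ⟨y - (2⁻¹ * 𝕘.β y y) • v, hvv, ?_, ?_⟩
  · have h2 := 𝕘.two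
    simp only [β_sub_left, β_sub_right, β_smul_left, β_smul_right, hvv, hy, 𝕘.β_comm v y]
    field_simp
    ring
  · rw [β_sub_right, β_smul_right, hvv, hy, mul_zero, sub_zero]

section
variable [Finite F]

/-- A plane represents every value. -/
theorem plane_value {a b : Fin k → F} (ha : 𝕘.β a a ≠ 0) (hb : 𝕘.β b b ≠ 0) (hab : 𝕘.β a b = 0) (c : F) :
    ∃ s r : F, 𝕘.β (s • a + r • b) (s • a + r • b) = c := by
  have : Fintype F := Fintype.ofFinite F
  obtain ⟨s, r, hsr⟩ := FiniteField.exists_root_sum_quadratic (R := F)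
    (f := Polynomial.C (𝕘.β a a) * Polynomial.X ^ 2) (g := Polynomial.C (𝕘.β b b) * Polynomial.X ^ 2 + Polynomial.C (-c))
    (by rw [Polynomial.degree_C_mul_X_pow 2 ha]; rfl)
    (by rw [Polynomial.degree_add_C (by rw [Polynomial.degree_C_mul_X_pow 2 hb]; decide),
          Polynomial.degree_C_mul_X_pow 2 hb]; rfl)
    (FiniteField.odd_card_of_char_ne_two fun hc => 𝕘.two (by
        have h2 : ((2 : ℕ) : F) = 0 := (ringChar.spec F 2).2 (by rw [hc])
        exact_mod_cast h2))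
  simp only [Polynomial.eval_pow, Polynomial.eval_X, Polynomial.eval_mul, Polynomial.eval_C, Polynomial.eval_add] at hsr
  refine ⟨s, r, ?_⟩
  simp only [β_add_left, β_add_right, β_smul_left, β_smul_right, hab, 𝕘.β_comm a b]
  linear_combination hsr

/-- A singular vector exists in dimension three or more. -/
theorem exists_singular (hk : 3 ≤ k) : ∃ v : Fin k → F, v ≠ 0 ∧ 𝕘.β v v = 0 := by
  obtain ⟨a, -, ha⟩ := 𝕘.exists_aniso_perp (j := 0) (by omega) (fun i => i.elim0) (fun i => i.elim0) (fun i => i.elim0)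
  obtain ⟨b, hab, hb⟩ := 𝕘.exists_aniso_perp (j := 1) (by omega) ![a] (fun i => by fin_cases i; exact ha)
    (fun i l h => absurd (Subsingleton.elim i l) h)
  have hab' : 𝕘.β a b = 0 := hab 0
  obtain ⟨c, hc, hcn⟩ := 𝕘.exists_aniso_perp (j := 2) (by omega) ![a, b] (fun i => by fin_cases i <;> assumption)
    (fun i l h => by fin_cases i <;> fin_cases l <;> simp_all [𝕘.β_comm a b])
  have hac : 𝕘.β a c = 0 := hc 0
  have hbc : 𝕘.β b c = 0 := hc 1
  obtain ⟨s, r, hsr⟩ := 𝕘.plane_value ha hb hab' (-𝕘.β c c)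
  refine ⟨s • a + r • b + c, fun h => hcn ?_, ?_⟩
  · have := congrArg (𝕘.β c) h
    rwa [β_add_right, β_add_right, β_smul_right, β_smul_right, 𝕘.β_comm a c, 𝕘.β_comm b c, hac, hbc, mul_zero,
      mul_zero, zero_add, zero_add, β_zero_right] at this
  · simp only [β_add_left _ (s • a + r • b) c, β_add_right _ _ _ c, hsr]
    simp only [β_add_left, β_add_right, β_smul_left, β_smul_right, 𝕘.β_comm a c, 𝕘.β_comm b c, hac, hbc]
    ring

/-- For `k = 4` without totally singular planes, or larger, every anisotropic vector has an orthogonal one of equal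
norm over three elements. -/
theorem Hyp.exists_mate {𝕘 : Gram F k} (h : 𝕘.Hyp v v') (hk : 4 ≤ k) (h3 : Nat.card F = 3)
    (hplane : k = 4 → ∀ x y : Fin k → F, x ≠ 0 → 𝕘.β x x = 0 → 𝕘.β y y = 0 → 𝕘.β x y = 0 → ∃ c : F, y = c • x)
    {z : Fin k → F} (hz : 𝕘.InU v v' z) (hzn : 𝕘.β z z ≠ 0) :
    ∃ y, 𝕘.InU v v' y ∧ 𝕘.β z y = 0 ∧ 𝕘.β y y = 𝕘.β z z := by
  obtain ⟨d, hd, hzd, hdn⟩ := h.exists_aniso (j := 1) (by omega) ![z] (fun i => by fin_cases i; exact hz)
    (fun i => by fin_cases i; exact hzn) (fun i l hil => absurd (Subsingleton.elim i l) hil)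
  have hzd' : 𝕘.β z d = 0 := hzd 0
  by_cases heq : 𝕘.β d d = 𝕘.β z z
  · exact ⟨d, hd, hzd', heq⟩
  have hopp : 𝕘.β d d = -𝕘.β z z := by
    have : Fintype F := Fintype.ofFinite F
    have h2 : ∀ x : F, x ≠ 0 → x = 1 ∨ x = -1 := fun x hx => by
      have h1 := FiniteField.pow_card_sub_one_eq_one x hx
      rw [← Nat.card_eq_fintype_card, h3] at h1
      exact sq_eq_one_iff.1 h1
    rcases h2 _ hdn with e | e <;> rcases h2 _ hzn with e' | e' <;> rw [e, e'] at heq ⊢ <;>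
      first | exact absurd rfl heq | simp
  have hs : 𝕘.β (z + d) (z + d) = 0 := by
    rw [β_add_left, β_add_right, β_add_right, hzd', 𝕘.β_comm z d, hzd', hopp]; ring
  rcases Nat.lt_or_ge k 5 with hk5 | hk5
  · exfalso
    obtain ⟨c, hc⟩ := hplane (by omega) v (z + d) h.v_ne h.vv hs (by rw [β_add_right, hz.1, hd.1, add_zero])
    have := congrArg (𝕘.β v') hc
    rw [β_add_right, hz.2, hd.2, add_zero, β_smul_right, h.wv, mul_one] at this
    rw [← this, zero_smul] at hc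
    have := congrArg (𝕘.β z) hc
    rw [β_add_right, hzd', add_zero, β_zero_right] at this
    exact hzn this
  · obtain ⟨e, he, hpe, hen⟩ := h.exists_aniso (j := 2) (by omega) ![z, d] (fun i => by fin_cases i <;> assumption)
      (fun i => by fin_cases i <;> assumption)
      (fun i l hil => by fin_cases i <;> fin_cases l <;> simp_all [𝕘.β_comm z d])
    have hze : 𝕘.β z e = 0 := hpe 0
    have hde : 𝕘.β d e = 0 := hpe 1
    obtain ⟨s, r, hsr⟩ := 𝕘.plane_value hdn hen hde (𝕘.β z z)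
    exact ⟨s • d + r • e, inU_add _ (inU_smul _ hd s) (inU_smul _ he r),
      by rw [β_add_right, β_smul_right, β_smul_right, hzd', hze, mul_zero, mul_zero, add_zero], hsr⟩

/-- Vectors orthogonal to the pair starting a triple of equal norm. -/
def Tri (𝕘 : Gram F k) (v v' z : Fin k → F) : Prop :=
  𝕘.InU v v' z ∧ 𝕘.β z z ≠ 0 ∧ ∃ y w, 𝕘.InU v v' y ∧ 𝕘.InU v v' w ∧ 𝕘.β y y = 𝕘.β z z ∧ 𝕘.β w w = 𝕘.β z z ∧
    𝕘.β z y = 0 ∧ 𝕘.β z w = 0 ∧ 𝕘.β y w = 0

theorem Tri.mk_perm {𝕘 : Gram F k} {v v' a b d : Fin k → F} (ha : 𝕘.InU v v' a) (hb : 𝕘.InU v v' b)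
    (hd : 𝕘.InU v v' d) (han : 𝕘.β a a ≠ 0) (_hbn : 𝕘.β b b ≠ 0) (hdn : 𝕘.β d d ≠ 0) (hab : 𝕘.β a b = 0)
    (had : 𝕘.β a d = 0) (hbd : 𝕘.β b d = 0) {c : F} (hc : c ≠ 0) (hcc : 𝕘.β b b = c * c * 𝕘.β a a) :
    ∃ z, 𝕘.Tri v v' z := by
  -- the plane of `a` and `c⁻¹ • b` carries an orthogonal pair of the norm of `d`
  set b' := c⁻¹ • b with hb'
  have hb'n : 𝕘.β b' b' = 𝕘.β a a := by
    rw [hb', β_smul_left, β_smul_right, hcc]; field_simp
  have hab' : 𝕘.β a b' = 0 := by rw [hb', β_smul_right, hab, mul_zero]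
  obtain ⟨s, r, hsr⟩ := 𝕘.plane_value han (b := b') (by rw [hb'n]; exact han) hab' (𝕘.β d d)
  have hsr' := hsr
  simp only [β_add_left, β_add_right, β_smul_left, β_smul_right, hab', hb'n, 𝕘.β_comm a b'] at hsr'
  have hdb' : 𝕘.β d b' = 0 := by rw [hb', β_smul_right, 𝕘.β_comm b d, hbd, mul_zero]
  have hb'U : 𝕘.InU v v' b' := inU_smul _ hb _
  refine ⟨d, hd, hdn, s • a + r • b', (-r) • a + s • b', inU_add _ (inU_smul _ ha s) (inU_smul _ hb'U r),
    inU_add _ (inU_smul _ ha _) (inU_smul _ hb'U s), hsr, ?_, ?_, ?_, ?_⟩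
  all_goals simp only [β_add_left, β_add_right, β_smul_left, β_smul_right, hab', hb'n, 𝕘.β_comm a b', hdb',
    𝕘.β_comm a d, had, mul_zero, add_zero]
  · linear_combination hsr'
  · ring

/-- A triple of equal norm. -/
theorem Hyp.exists_tri {𝕘 : Gram F k} (h : 𝕘.Hyp v v') (hk : 5 ≤ k) : ∃ z, 𝕘.Tri v v' z := by
  classical
  have : Fintype F := Fintype.ofFinite F
  obtain ⟨a, ha, han⟩ := h.aniso (by omega)
  obtain ⟨b, hb, hpb, hbn⟩ := h.exists_aniso (j := 1) (by omega) ![a] (fun i => by fin_cases i; exact ha)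
    (fun i => by fin_cases i; exact han) (fun i l hil => absurd (Subsingleton.elim i l) hil)
  have hab : 𝕘.β a b = 0 := hpb 0
  obtain ⟨d, hd, hpd, hdn⟩ := h.exists_aniso (j := 2) (by omega) ![a, b] (fun i => by fin_cases i <;> assumption)
    (fun i => by fin_cases i <;> assumption)
    (fun i l hil => by fin_cases i <;> fin_cases l <;> simp_all [𝕘.β_comm a b])
  have had : 𝕘.β a d = 0 := hpd 0
  have hbd : 𝕘.β b d = 0 := hpd 1
  have hc2 : ringChar F ≠ 2 := fun hc => 𝕘.two (by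
    have h2 : ((2 : ℕ) : F) = 0 := (ringChar.spec F 2).2 (by rw [hc])
    exact_mod_cast h2)
  have hcls : ∀ x y : F, x ≠ 0 → y ≠ 0 → (IsSquare x ↔ IsSquare y) → ∃ c : F, c ≠ 0 ∧ y = c * c * x := by
    intro x y hx hy hxy
    obtain ⟨c, hc⟩ : IsSquare (y / x) := by
      rcases em (IsSquare x) with hq | hq
      · exact (hxy.1 hq).div hq
      · have hq' : ¬ IsSquare y := fun h => hq (hxy.2 h)
        rw [← quadraticChar_one_iff_isSquare (div_ne_zero hy hx), div_eq_mul_inv, map_mul, (quadraticChar_neg_one_iff_not_isSquare).2 hq',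
          (quadraticChar_neg_one_iff_not_isSquare (a := x⁻¹)).2 (by rwa [isSquare_inv])]
        norm_num
    exact ⟨c, fun h0 => hy (by simpa [h0, div_eq_zero_iff, hx] using hc), by rw [← hc, div_mul_cancel₀ _ hx]⟩
  by_cases h1 : IsSquare (𝕘.β a a) ↔ IsSquare (𝕘.β b b)
  · obtain ⟨c, hc, hcc⟩ := hcls _ _ han hbn h1
    exact Tri.mk_perm ha hb hd han hbn hdn hab had hbd hc hcc
  by_cases h2 : IsSquare (𝕘.β a a) ↔ IsSquare (𝕘.β d d)
  · obtain ⟨c, hc, hcc⟩ := hcls _ _ han hdn h2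
    exact Tri.mk_perm ha hd hb han hdn hbn had hab (by rw [β_comm]; exact hbd) hc hcc
  · obtain ⟨c, hc, hcc⟩ := hcls _ _ hbn hdn (by tauto)
    exact Tri.mk_perm hb hd ha hbn hdn han hbd (by rw [β_comm]; exact hab) (by rw [β_comm]; exact had) hc hcc

end

/-- A linear map killing all triple starts kills everything orthogonal to the pair. -/
theorem Hyp.span_tri {𝕘 : Gram F k} [Finite F] (h : 𝕘.Hyp v v') (hk : 5 ≤ k) {E : Type*} [AddCommGroup E]
    [Module F E] (L : (Fin k → F) →ₗ[F] E) (h0 : ∀ z, 𝕘.Tri v v' z → L z = 0) {x : Fin k → F}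
    (hx : 𝕘.InU v v' x) : L x = 0 := by
  have hkey : ∀ z e, 𝕘.Tri v v' z → 𝕘.InU v v' e → 𝕘.β e e ≠ 0 →
      𝕘.Tri v v' (𝕘.refl e *ᵥ z) ∧ (𝕘.β e z ≠ 0 → L e = 0) := by
    rintro z e ⟨hzU, hzn, y, w, hy, hw, hyn, hwn, hzy, hzw, hyw⟩ he hen
    have hfix : ∀ a, 𝕘.InU v v' a → 𝕘.InU v v' (𝕘.refl e *ᵥ a) := fun a ha => by
      rw [refl_mulVec, sub_eq_add_neg, ← neg_smul]
      exact inU_add _ ha (inU_smul _ he _)
    have hi := 𝕘.refl_iso hen
    have htri : 𝕘.Tri v v' (𝕘.refl e *ᵥ z) :=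
      ⟨hfix _ hzU, by rw [hi]; exact hzn, 𝕘.refl e *ᵥ y, 𝕘.refl e *ᵥ w, hfix _ hy, hfix _ hw,
      by rw [hi, hi]; exact hyn, by rw [hi, hi]; exact hwn, by rw [hi]; exact hzy, by rw [hi]; exact hzw,
      by rw [hi]; exact hyw⟩
    refine ⟨htri, fun hez => ?_⟩
    have h1 := h0 _ htri
    rw [refl_mulVec, map_sub, h0 z ⟨hzU, hzn, y, w, hy, hw, hyn, hwn, hzy, hzw, hyw⟩, zero_sub, neg_eq_zero, map_smul,
      smul_eq_zero] at h1
    exact h1.resolve_left (mul_ne_zero (div_ne_zero 𝕘.two hen) hez)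
  obtain ⟨z₀, hT⟩ := h.exists_tri hk
  have hz0 : L z₀ = 0 := h0 _ hT
  obtain ⟨hzU, hzn, y, w, hy, hw, hyn, hwn, hzy, hzw, hyw⟩ := hT
  have hT : 𝕘.Tri v v' z₀ := ⟨hzU, hzn, y, w, hy, hw, hyn, hwn, hzy, hzw, hyw⟩
  have hTy : 𝕘.Tri v v' y := ⟨hy, by rw [hyn]; exact hzn, z₀, w, hzU, hw, hyn.symm, by rw [hwn, hyn],
    by rw [β_comm]; exact hzy, hyw, hzw⟩
  refine h.span_aniso (by omega) (L := L) (fun a b => map_add L a b) (fun e he hen => ?_) hx
  by_cases hez : 𝕘.β e z₀ ≠ 0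
  · exact (hkey z₀ e hT he hen).2 hez
  push Not at hez
  by_cases hey : 𝕘.β e y ≠ 0
  · exact (hkey y e hTy he hen).2 hey
  push Not at hey
  by_cases h1 : 𝕘.β (e + z₀) (e + z₀) ≠ 0
  · have h2 := (hkey z₀ (e + z₀) hT (inU_add _ he hzU) h1).2 (by rw [β_add_left, hez, zero_add]; exact hzn)
    rwa [map_add, hz0, add_zero] at h2
  push Not at h1
  have hne : 𝕘.β e e = -𝕘.β z₀ z₀ := by
    rw [β_add_left, β_add_right, β_add_right, hez, 𝕘.β_comm e z₀, hez] at h1
    linear_combination h1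
  have han : 𝕘.β (e + z₀ + y) (e + z₀ + y) = 𝕘.β z₀ z₀ := by
    simp only [β_add_left, β_add_right, hez, hey, hzy, 𝕘.β_comm e z₀, 𝕘.β_comm e y, 𝕘.β_comm z₀ y, hyn, hne]
    ring
  obtain ⟨hT', -⟩ := hkey z₀ (e + z₀ + y) hT (inU_add _ (inU_add _ he hzU) hy) (by rw [han]; exact hzn)
  refine (hkey _ e hT' he hen).2 ?_
  have ea : 𝕘.β (e + z₀ + y) z₀ = 𝕘.β z₀ z₀ := by
    simp only [β_add_left, hez, 𝕘.β_comm z₀ y, hzy]; ring
  have eb : 𝕘.β e (e + z₀ + y) = 𝕘.β e e := by simp only [β_add_right, hez, hey]; ring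
  rw [refl_mulVec, β_sub_right, β_smul_right, hez, zero_sub, neg_ne_zero, eb, ea, han]
  exact mul_ne_zero (mul_ne_zero (div_ne_zero 𝕘.two hzn) hzn) hen

end Gram

end Cfsg.Agent.H24.OWr
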