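import Cfsg.Agent.H24.Wreath.Rec
import Mathlib.GroupTheory.Commutator.Basic

/-!
A non-degenerate symmetric form on a coordinate space: rank one maps, skew maps at a singular vector,
Siegel elements and the commutator subgroup of the isometry group.
-/

set_option autoImplicit false

namespace Cfsg.Agent.H24.OWr

open Matrix Finset
open scoped commutatorElement

variable {F : Type*} [Field F] {k : ℕ}

/-- A non-degenerate symmetric Gram matrix, away from characteristic two. -/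
structure Gram (F : Type*) [Field F] (k : ℕ) where
  G : Matrix (Fin k) (Fin k) F
  symm : Gᵀ = G
  unit : IsUnit G
  two : (2 : F) ≠ 0

namespace Gram

variable (𝕘 : Gram F k)

/-- The form. -/
def β (x y : Fin k → F) : F := x ⬝ᵥ 𝕘.G *ᵥ y

theorem β_comm (x y : Fin k → F) : 𝕘.β y x = 𝕘.β x y := by
  rw [β, β, dotProduct_mulVec, ← mulVec_transpose, 𝕘.symm, dotProduct_comm]

theorem β_add_left (x x' y : Fin k → F) : 𝕘.β (x + x') y = 𝕘.β x y + 𝕘.β x' y := add_dotProduct _ _ _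

theorem β_add_right (x y y' : Fin k → F) : 𝕘.β x (y + y') = 𝕘.β x y + 𝕘.β x y' := by
  rw [β, mulVec_add, dotProduct_add]; rfl

theorem β_sub_left (x x' y : Fin k → F) : 𝕘.β (x - x') y = 𝕘.β x y - 𝕘.β x' y := sub_dotProduct _ _ _

theorem β_sub_right (x y y' : Fin k → F) : 𝕘.β x (y - y') = 𝕘.β x y - 𝕘.β x y' := by
  rw [β, mulVec_sub, dotProduct_sub]; rfl

theorem β_neg_left (x y : Fin k → F) : 𝕘.β (-x) y = -𝕘.β x y := neg_dotProduct _ _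

theorem β_neg_right (x y : Fin k → F) : 𝕘.β x (-y) = -𝕘.β x y := by
  rw [β, mulVec_neg, dotProduct_neg]; rfl

theorem β_smul_left (c : F) (x y : Fin k → F) : 𝕘.β (c • x) y = c * 𝕘.β x y := smul_dotProduct _ _ _

theorem β_smul_right (c : F) (x y : Fin k → F) : 𝕘.β x (c • y) = c * 𝕘.β x y := by
  rw [β, mulVec_smul, dotProduct_smul]; rfl

theorem β_zero_left (y : Fin k → F) : 𝕘.β 0 y = 0 := zero_dotProduct _

theorem β_zero_right (x : Fin k → F) : 𝕘.β x 0 = 0 := by simp [β]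

theorem β_sum_right {α : Type*} (s : Finset α) (x : Fin k → F) (f : α → Fin k → F) :
    𝕘.β x (∑ a ∈ s, f a) = ∑ a ∈ s, 𝕘.β x (f a) := by
  rw [β, mulVec_sum, dotProduct_sum]; rfl

theorem nd {y : Fin k → F} (h : ∀ x, 𝕘.β x y = 0) : y = 0 := by
  have h1 : 𝕘.G *ᵥ y = 0 := funext fun i => by
    have h2 := h (Pi.single i 1)
    rwa [β, single_dotProduct, one_mul] at h2
  exact Matrix.mulVec_injective_iff_isUnit.2 𝕘.unit (h1.trans (mulVec_zero _).symm)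

theorem exists_one {x : Fin k → F} (hx : x ≠ 0) : ∃ y, 𝕘.β x y = 1 := by
  by_contra hc
  push Not at hc
  refine hx (𝕘.nd fun y => ?_)
  by_contra h
  exact hc ((𝕘.β y x)⁻¹ • y) (by rw [β_smul_right, 𝕘.β_comm y x, inv_mul_cancel₀ h])

theorem vec_ext {a b : Fin k → F} (h : ∀ x, 𝕘.β x a = 𝕘.β x b) : a = b :=
  sub_eq_zero.1 (𝕘.nd fun x => by rw [β_sub_right, h, sub_self])

theorem mat_ext {A B : Matrix (Fin k) (Fin k) F} (h : ∀ x y, 𝕘.β x (A *ᵥ y) = 𝕘.β x (B *ᵥ y)) : A = B :=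
  Matrix.ext_iff_mulVec.2 fun y => 𝕘.vec_ext fun x => h x y

/-- The map `z ↦ β(y, z) x`. -/
def tau (x y : Fin k → F) : Matrix (Fin k) (Fin k) F := vecMulVec x (y ᵥ* 𝕘.G)

theorem tau_mulVec (x y z : Fin k → F) : 𝕘.tau x y *ᵥ z = 𝕘.β y z • x := by
  funext i
  simp only [tau, Matrix.mulVec, dotProduct, vecMulVec_apply, Pi.smul_apply, smul_eq_mul]
  rw [show 𝕘.β y z = ∑ j, (y ᵥ* 𝕘.G) j * z j from dotProduct_mulVec _ _ _, Finset.sum_mul]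
  exact Finset.sum_congr rfl fun j _ => by ring

theorem mul_tau (Z : Matrix (Fin k) (Fin k) F) (x y : Fin k → F) : Z * 𝕘.tau x y = 𝕘.tau (Z *ᵥ x) y :=
  Matrix.mul_vecMulVec _ _ _

theorem tau_mul_tau (x y z w : Fin k → F) : 𝕘.tau x y * 𝕘.tau z w = 𝕘.β y z • 𝕘.tau x w := by
  refine Matrix.ext_iff_mulVec.2 fun v => ?_
  simp only [← mulVec_mulVec, tau_mulVec, smul_mulVec, β_smul_right, smul_smul, mul_comm]

theorem tau_mul_mul_tau (x y z w : Fin k → F) (Z : Matrix (Fin k) (Fin k) F) :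
    𝕘.tau x y * Z * 𝕘.tau z w = 𝕘.β y (Z *ᵥ z) • 𝕘.tau x w := by
  rw [mul_assoc, mul_tau, tau_mul_tau]

theorem tau_add_left (x x' y : Fin k → F) : 𝕘.tau (x + x') y = 𝕘.tau x y + 𝕘.tau x' y := add_vecMulVec _ _ _

theorem tau_add_right (x y y' : Fin k → F) : 𝕘.tau x (y + y') = 𝕘.tau x y + 𝕘.tau x y' := by
  rw [tau, add_vecMul, vecMulVec_add]; rfl

theorem tau_smul_left (c : F) (x y : Fin k → F) : 𝕘.tau (c • x) y = c • 𝕘.tau x y := smul_vecMulVec _ _ _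

theorem tau_smul_right (c : F) (x y : Fin k → F) : 𝕘.tau x (c • y) = c • 𝕘.tau x y := by
  rw [tau, smul_vecMul, vecMulVec_smul]; rfl

theorem tau_zero_left (y : Fin k → F) : 𝕘.tau 0 y = 0 := zero_vecMulVec _

theorem tau_zero_right (x : Fin k → F) : 𝕘.tau x 0 = 0 := by rw [tau, zero_vecMul, vecMulVec_zero]

theorem tau_ne_zero {x y : Fin k → F} (hx : x ≠ 0) (hy : y ≠ 0) : 𝕘.tau x y ≠ 0 := fun h => by
  obtain ⟨z, hz⟩ := 𝕘.exists_one hy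
  have := 𝕘.tau_mulVec x y z
  rw [h, zero_mulVec, hz, one_smul] at this
  exact hx this.symm

/-! ### Isometries of the small space -/

/-- The matrix preserves the form. -/
def IsoD (P : Matrix (Fin k) (Fin k) F) : Prop := ∀ x y, 𝕘.β (P *ᵥ x) (P *ᵥ y) = 𝕘.β x y

/-- The isometry group of the form. -/
def O : Subgroup (Matrix (Fin k) (Fin k) F)ˣ where
  carrier := {P | 𝕘.IsoD (P : Matrix (Fin k) (Fin k) F)}
  one_mem' := fun x y => by simp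
  mul_mem' := fun {P Q} hP hQ x y => by rw [Units.val_mul, ← mulVec_mulVec, ← mulVec_mulVec, hP, hQ]
  inv_mem' := fun {P} hP x y => by
    have h := hP (((P⁻¹ : (Matrix (Fin k) (Fin k) F)ˣ) : Matrix (Fin k) (Fin k) F) *ᵥ x)
      (((P⁻¹ : (Matrix (Fin k) (Fin k) F)ˣ) : Matrix (Fin k) (Fin k) F) *ᵥ y)
    simp only [mulVec_mulVec, P.mul_inv, one_mulVec] at h
    exact h.symm

theorem mem_O {P : (Matrix (Fin k) (Fin k) F)ˣ} : P ∈ 𝕘.O ↔ 𝕘.IsoD (P : Matrix (Fin k) (Fin k) F) := Iff.rfl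

/-- The commutator subgroup of the isometry group. -/
def Om : Subgroup (Matrix (Fin k) (Fin k) F)ˣ := ⁅𝕘.O, 𝕘.O⁆

/-- A unit from a matrix with square one. -/
def invol (P : Matrix (Fin k) (Fin k) F) (h : P * P = 1) : (Matrix (Fin k) (Fin k) F)ˣ := ⟨P, P, h, h⟩

/-- The reflection in the hyperplane orthogonal to `y`. -/
def refl (y : Fin k → F) : Matrix (Fin k) (Fin k) F := 1 - (2 / 𝕘.β y y) • 𝕘.tau y y

theorem refl_mulVec (y x : Fin k → F) : 𝕘.refl y *ᵥ x = x - (2 / 𝕘.β y y * 𝕘.β y x) • y := by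
  rw [refl, sub_mulVec, one_mulVec, smul_mulVec, tau_mulVec, smul_smul]

theorem refl_fix {y x : Fin k → F} (h : 𝕘.β y x = 0) : 𝕘.refl y *ᵥ x = x := by
  rw [refl_mulVec, h, mul_zero, zero_smul, sub_zero]

theorem refl_self {y : Fin k → F} (hy : 𝕘.β y y ≠ 0) : 𝕘.refl y *ᵥ y = -y := by
  rw [refl_mulVec, div_mul_cancel₀ _ hy, two_smul]; abel

theorem refl_iso {y : Fin k → F} (hy : 𝕘.β y y ≠ 0) : 𝕘.IsoD (𝕘.refl y) := fun x z => by
  simp only [refl_mulVec, β_sub_left, β_sub_right, β_smul_left, β_smul_right, 𝕘.β_comm y x]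
  field_simp
  ring

theorem refl_mul_self {y : Fin k → F} (hy : 𝕘.β y y ≠ 0) : 𝕘.refl y * 𝕘.refl y = 1 := by
  refine Matrix.ext_iff_mulVec.2 fun x => ?_
  rw [← mulVec_mulVec, refl_mulVec, refl_mulVec, one_mulVec, β_sub_right, β_smul_right]
  rw [sub_sub, ← add_smul, show (2 / 𝕘.β y y * 𝕘.β y x +
      2 / 𝕘.β y y * (𝕘.β y x - 2 / 𝕘.β y y * 𝕘.β y x * 𝕘.β y y)) = 0 by field_simp; ring, zero_smul, sub_zero]

/-- A reflection as a unit. -/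
def reflU {y : Fin k → F} (hy : 𝕘.β y y ≠ 0) : (Matrix (Fin k) (Fin k) F)ˣ := invol (𝕘.refl y) (𝕘.refl_mul_self hy)

@[simp] theorem reflU_val {y : Fin k → F} (hy : 𝕘.β y y ≠ 0) :
    (𝕘.reflU hy : Matrix (Fin k) (Fin k) F) = 𝕘.refl y := rfl

theorem reflU_mem {y : Fin k → F} (hy : 𝕘.β y y ≠ 0) : 𝕘.reflU hy ∈ 𝕘.O := 𝕘.refl_iso hy

/-- The negation of the plane of two orthogonal vectors of equal norm. -/
theorem plane_neg {z y : Fin k → F} (hz : 𝕘.β z z ≠ 0) (hyz : 𝕘.β z y = 0) (hn : 𝕘.β y y = 𝕘.β z z) :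
    ∃ P ∈ 𝕘.Om, (P : Matrix (Fin k) (Fin k) F) = 𝕘.refl z * 𝕘.refl y := by
  have hy : 𝕘.β y y ≠ 0 := hn ▸ hz
  have hd : 𝕘.β (z - y) (z - y) ≠ 0 := by
    simp only [β_sub_left, β_sub_right, 𝕘.β_comm z y, hyz, hn, sub_zero, zero_sub, sub_neg_eq_add]
    rw [← two_mul]
    exact mul_ne_zero 𝕘.two hz
  set a := 𝕘.reflU hz
  set b := 𝕘.reflU hd
  refine ⟨⁅a, b⁆, Subgroup.commutator_mem_commutator (𝕘.reflU_mem hz) (𝕘.reflU_mem hd), ?_⟩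
  rw [commutatorElement_def, Units.val_mul, Units.val_mul, Units.val_mul]
  show 𝕘.refl z * 𝕘.refl (z - y) * 𝕘.refl z * 𝕘.refl (z - y) = _
  rw [mul_assoc, mul_assoc, ← mul_assoc (𝕘.refl (z - y))]
  congr 1
  have hmove : 𝕘.refl (z - y) *ᵥ z = y := by
    rw [refl_mulVec, show 2 / 𝕘.β (z - y) (z - y) * 𝕘.β (z - y) z = 1 by
      simp only [β_sub_left, β_sub_right, 𝕘.β_comm z y, hyz, hn, sub_zero, zero_sub, sub_neg_eq_add]
      field_simp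
      rw [one_add_one_eq_two, div_self 𝕘.two], one_smul, sub_sub_cancel]
  refine Matrix.ext_iff_mulVec.2 fun x => ?_
  rw [← mulVec_mulVec, ← mulVec_mulVec, 𝕘.refl_mulVec z, mulVec_sub, mulVec_smul, hmove, mulVec_mulVec,
    𝕘.refl_mul_self hd, one_mulVec, 𝕘.refl_mulVec y, hn]
  congr 2
  rw [← 𝕘.refl_iso hd z (𝕘.refl (z - y) *ᵥ x), hmove, mulVec_mulVec, 𝕘.refl_mul_self hd, one_mulVec]

/-- The negation of a plane on a vector. -/
theorem plane_mulVec {z y : Fin k → F} (hyz : 𝕘.β z y = 0) (hn : 𝕘.β y y = 𝕘.β z z)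
    (x : Fin k → F) :
    (𝕘.refl z * 𝕘.refl y) *ᵥ x = x - (2 / 𝕘.β z z) • (𝕘.β z x • z + 𝕘.β y x • y) := by
  rw [← mulVec_mulVec, refl_mulVec, refl_mulVec, β_sub_right, β_smul_right, hyz, mul_zero, sub_zero, hn, smul_add,
    smul_smul, smul_smul]
  abel

/-! ### A pair of singular vectors -/

/-- Two singular vectors with pairing one. -/
structure Hyp (v v' : Fin k → F) : Prop where
  vv : 𝕘.β v v = 0
  ww : 𝕘.β v' v' = 0
  vw : 𝕘.β v v' = 1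

/-- Orthogonal to both vectors. -/
def InU (v v' z : Fin k → F) : Prop := 𝕘.β v z = 0 ∧ 𝕘.β v' z = 0

/-- The projection orthogonal to both vectors. -/
def pr (v v' x : Fin k → F) : Fin k → F := x - 𝕘.β v' x • v - 𝕘.β v x • v'

variable {v v' : Fin k → F}

variable {𝕘} in
theorem Hyp.wv (h : 𝕘.Hyp v v') : 𝕘.β v' v = 1 := by rw [β_comm, h.vw]

variable {𝕘} in
theorem Hyp.symm (h : 𝕘.Hyp v v') : 𝕘.Hyp v' v := ⟨h.ww, h.vv, h.wv⟩

variable {𝕘} in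
theorem Hyp.v_ne (h : 𝕘.Hyp v v') : v ≠ 0 := fun e => by
  have := h.vw
  rw [e, β_zero_left] at this
  exact zero_ne_one this

theorem pr_inU (h : 𝕘.Hyp v v') (x : Fin k → F) : 𝕘.InU v v' (𝕘.pr v v' x) :=
  ⟨by simp [pr, β_sub_right, β_smul_right, h.vv, h.vw], by simp [pr, β_sub_right, β_smul_right, h.ww, h.wv]⟩

theorem decomp (x : Fin k → F) : 𝕘.β v' x • v + 𝕘.β v x • v' + 𝕘.pr v v' x = x := by
  rw [pr]; abel

variable {𝕘} in
theorem InU.comm {z : Fin k → F} (hz : 𝕘.InU v v' z) : 𝕘.β z v = 0 ∧ 𝕘.β z v' = 0 := by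
  obtain ⟨h1, h2⟩ := hz
  exact ⟨by rw [β_comm]; exact h1, by rw [β_comm]; exact h2⟩

variable {𝕘} in
theorem InU.symm {z : Fin k → F} (hz : 𝕘.InU v v' z) : 𝕘.InU v' v z := ⟨hz.2, hz.1⟩

theorem inU_add {z z' : Fin k → F} (hz : 𝕘.InU v v' z) (hz' : 𝕘.InU v v' z') : 𝕘.InU v v' (z + z') :=
  ⟨by rw [β_add_right, hz.1, hz'.1, add_zero], by rw [β_add_right, hz.2, hz'.2, add_zero]⟩

theorem inU_smul {z : Fin k → F} (hz : 𝕘.InU v v' z) (c : F) : 𝕘.InU v v' (c • z) :=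
  ⟨by rw [β_smul_right, hz.1, mul_zero], by rw [β_smul_right, hz.2, mul_zero]⟩

theorem inU_zero : 𝕘.InU v v' (0 : Fin k → F) := ⟨𝕘.β_zero_right _, 𝕘.β_zero_right _⟩

/-- The skew map of `v` and `z`. -/
def N (v z : Fin k → F) : Matrix (Fin k) (Fin k) F := 𝕘.tau v z - 𝕘.tau z v

theorem N_mulVec (v z x : Fin k → F) : 𝕘.N v z *ᵥ x = 𝕘.β z x • v - 𝕘.β v x • z := by
  rw [N, sub_mulVec, tau_mulVec, tau_mulVec]

theorem β_N (v z x y : Fin k → F) : 𝕘.β x (𝕘.N v z *ᵥ y) = 𝕘.β z y * 𝕘.β x v - 𝕘.β v y * 𝕘.β x z := by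
  rw [N_mulVec, β_sub_right, β_smul_right, β_smul_right]

theorem N_skew (v z x y : Fin k → F) : 𝕘.β (𝕘.N v z *ᵥ x) y = -𝕘.β x (𝕘.N v z *ᵥ y) := by
  simp only [N_mulVec, β_sub_left, β_sub_right, β_smul_left, β_smul_right, 𝕘.β_comm v x, 𝕘.β_comm z x]
  ring

theorem N_add (v z z' : Fin k → F) : 𝕘.N v (z + z') = 𝕘.N v z + 𝕘.N v z' := by
  rw [N, N, N, tau_add_left, tau_add_right]; abel

theorem N_smul (v : Fin k → F) (c : F) (z : Fin k → F) : 𝕘.N v (c • z) = c • 𝕘.N v z := by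
  rw [N, N, tau_smul_left, tau_smul_right, smul_sub]

theorem N_zero (v : Fin k → F) : 𝕘.N v 0 = 0 := by rw [N, tau_zero_left, tau_zero_right, sub_zero]

theorem N_mul_N {v z z' : Fin k → F} (hv : 𝕘.β v v = 0) (hz : 𝕘.β v z = 0) (hz' : 𝕘.β v z' = 0) :
    𝕘.N v z * 𝕘.N v z' = -𝕘.β z z' • 𝕘.tau v v := by
  have hz1 : 𝕘.β z v = 0 := by rw [β_comm, hz]
  simp only [N, mul_sub, sub_mul, tau_mul_tau, hv, hz1, hz', zero_smul, sub_zero, zero_sub, neg_smul]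

theorem N_mul_tau {v z : Fin k → F} (hv : 𝕘.β v v = 0) (hz : 𝕘.β v z = 0) :
    𝕘.N v z * 𝕘.tau v v = 0 := by
  have hz1 : 𝕘.β z v = 0 := by rw [β_comm, hz]
  simp only [N, sub_mul, tau_mul_tau, hv, hz1, zero_smul, sub_zero]

theorem tau_mul_N {v z : Fin k → F} (hv : 𝕘.β v v = 0) (hz : 𝕘.β v z = 0) :
    𝕘.tau v v * 𝕘.N v z = 0 := by
  simp only [N, mul_sub, tau_mul_tau, hv, hz, zero_smul, sub_zero]

theorem tau_sq {v : Fin k → F} (hv : 𝕘.β v v = 0) : 𝕘.tau v v * 𝕘.tau v v = 0 := by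
  rw [tau_mul_tau, hv, zero_smul]

/-- The Siegel element. -/
def ue (v z : Fin k → F) : Matrix (Fin k) (Fin k) F := 1 + 𝕘.N v z - (2⁻¹ * 𝕘.β z z) • 𝕘.tau v v

theorem ue_mulVec (v z x : Fin k → F) :
    𝕘.ue v z *ᵥ x = x + 𝕘.β z x • v - 𝕘.β v x • z - (2⁻¹ * 𝕘.β z z * 𝕘.β v x) • v := by
  rw [ue, sub_mulVec, add_mulVec, one_mulVec, N_mulVec, smul_mulVec, tau_mulVec, smul_smul]
  abel

theorem ue_mul {v z z' : Fin k → F} (hv : 𝕘.β v v = 0) (hz : 𝕘.β v z = 0) (hz' : 𝕘.β v z' = 0) :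
    𝕘.ue v z * 𝕘.ue v z' = 𝕘.ue v (z + z') := by
  have e : ∀ a b : F, (a + b) • 𝕘.tau v v = a • 𝕘.tau v v + b • 𝕘.tau v v := fun a b => add_smul a b _
  have h2 := 𝕘.two
  simp only [ue, mul_sub, sub_mul, mul_add, add_mul, one_mul, mul_one, smul_mul_assoc, mul_smul_comm, N_mul_N 𝕘 hv hz hz',
    N_mul_tau 𝕘 hv hz, tau_mul_N 𝕘 hv hz', tau_sq 𝕘 hv, smul_zero, N_add, β_add_left, β_add_right, 𝕘.β_comm z z']
  rw [show 2⁻¹ * 𝕘.β z z + 2⁻¹ * 𝕘.β z z' + (2⁻¹ * 𝕘.β z z' + 2⁻¹ * 𝕘.β z' z') =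
    2⁻¹ * 𝕘.β z z + (𝕘.β z z' + 2⁻¹ * 𝕘.β z' z') by field_simp; ring, e, e, neg_smul]
  simp only [add_zero, sub_zero]
  abel

theorem ue_zero (v : Fin k → F) : 𝕘.ue v 0 = 1 := by
  simp [ue, N_zero, β_zero_left]

theorem ue_iso {v z : Fin k → F} (hv : 𝕘.β v v = 0) (hz : 𝕘.β v z = 0) : 𝕘.IsoD (𝕘.ue v z) := fun x y => by
  have h2 := 𝕘.two
  simp only [ue_mulVec, β_sub_left, β_sub_right, β_add_left, β_add_right, β_smul_left, β_smul_right,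
    𝕘.β_comm v x, 𝕘.β_comm z x, hv, hz, 𝕘.β_comm v z]
  field_simp
  ring

/-- The Siegel element as a unit. -/
def ueU {v z : Fin k → F} (hv : 𝕘.β v v = 0) (hz : 𝕘.β v z = 0) : (Matrix (Fin k) (Fin k) F)ˣ :=
  ⟨𝕘.ue v z, 𝕘.ue v (-z),
    by rw [ue_mul 𝕘 hv hz (by rw [β_neg_right, hz, neg_zero]), add_neg_cancel, ue_zero],
    by rw [ue_mul 𝕘 hv (by rw [β_neg_right, hz, neg_zero]) hz, neg_add_cancel, ue_zero]⟩

@[simp] theorem ueU_val {v z : Fin k → F} (hv : 𝕘.β v v = 0) (hz : 𝕘.β v z = 0) :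
    (𝕘.ueU hv hz : Matrix (Fin k) (Fin k) F) = 𝕘.ue v z := rfl

theorem ueU_inv {v z : Fin k → F} (hv : 𝕘.β v v = 0) (hz : 𝕘.β v z = 0) :
    (((𝕘.ueU hv hz)⁻¹ : (Matrix (Fin k) (Fin k) F)ˣ) : Matrix (Fin k) (Fin k) F) = 𝕘.ue v (-z) := rfl

theorem conj_tau {P : Matrix (Fin k) (Fin k) F} (hP : 𝕘.IsoD P) {Q : Matrix (Fin k) (Fin k) F} (h : P * Q = 1)
    (x y : Fin k → F) : P * 𝕘.tau x y * Q = 𝕘.tau (P *ᵥ x) (P *ᵥ y) := by
  refine Matrix.ext_iff_mulVec.2 fun w => ?_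
  rw [← mulVec_mulVec, ← mulVec_mulVec, tau_mulVec, tau_mulVec, mulVec_smul]
  congr 1
  rw [← hP y (Q *ᵥ w), mulVec_mulVec, h, one_mulVec]

theorem conj_N {P : Matrix (Fin k) (Fin k) F} (hP : 𝕘.IsoD P) {Q : Matrix (Fin k) (Fin k) F} (h : P * Q = 1)
    (x y : Fin k → F) : P * 𝕘.N x y * Q = 𝕘.N (P *ᵥ x) (P *ᵥ y) := by
  rw [N, mul_sub, sub_mul, conj_tau 𝕘 hP h, conj_tau 𝕘 hP h, N]

theorem conj_ue {P : Matrix (Fin k) (Fin k) F} (hP : 𝕘.IsoD P) {Q : Matrix (Fin k) (Fin k) F} (h : P * Q = 1)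
    (x y : Fin k → F) : P * 𝕘.ue x y * Q = 𝕘.ue (P *ᵥ x) (P *ᵥ y) := by
  rw [ue, mul_sub, sub_mul, mul_add, add_mul, mul_one, h, conj_N 𝕘 hP h, mul_smul_comm, smul_mul_assoc,
    conj_tau 𝕘 hP h, ue, hP]

/-- The diagonal element at a singular pair. -/
def dia (v v' : Fin k → F) (a : F) : Matrix (Fin k) (Fin k) F :=
  1 + (a - 1) • 𝕘.tau v v' + (a⁻¹ - 1) • 𝕘.tau v' v

theorem dia_mulVec (v v' : Fin k → F) (a : F) (x : Fin k → F) :
    𝕘.dia v v' a *ᵥ x = x + ((a - 1) * 𝕘.β v' x) • v + ((a⁻¹ - 1) * 𝕘.β v x) • v' := by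
  rw [dia, add_mulVec, add_mulVec, one_mulVec, smul_mulVec, smul_mulVec, tau_mulVec, tau_mulVec, smul_smul,
    smul_smul]

variable {𝕘} in
theorem Hyp.dia_v (h : 𝕘.Hyp v v') (a : F) : 𝕘.dia v v' a *ᵥ v = a • v := by
  rw [dia_mulVec, h.wv, h.vv, mul_zero, zero_smul, add_zero, mul_one, sub_smul, one_smul, add_sub_cancel]

theorem dia_fix {z : Fin k → F} (hz : 𝕘.InU v v' z) (a : F) : 𝕘.dia v v' a *ᵥ z = z := by
  rw [dia_mulVec, hz.1, hz.2, mul_zero, zero_smul, mul_zero, zero_smul, add_zero, add_zero]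

variable {𝕘} in
theorem Hyp.dia_mul (h : 𝕘.Hyp v v') (a b : F) : 𝕘.dia v v' a * 𝕘.dia v v' b = 𝕘.dia v v' (a * b) := by
  simp only [dia, mul_add, add_mul, mul_one, one_mul, smul_mul_smul_comm, tau_mul_tau, h.vv, h.ww, h.vw, h.wv,
    zero_smul, smul_zero, add_zero, one_smul, mul_inv]
  module

variable {𝕘} in
theorem Hyp.dia_one (_h : 𝕘.Hyp v v') : 𝕘.dia v v' 1 = 1 := by simp [dia]

variable {𝕘} in
theorem Hyp.dia_iso (h : 𝕘.Hyp v v') {a : F} (ha : a ≠ 0) : 𝕘.IsoD (𝕘.dia v v' a) := fun x y => by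
  simp only [dia_mulVec, β_add_left, β_add_right, β_smul_left, β_smul_right, h.vv, h.ww, h.vw, h.wv,
    𝕘.β_comm v x, 𝕘.β_comm v' x]
  field_simp
  ring

variable {𝕘} in
/-- The diagonal element with a square entry is a commutator. -/
theorem Hyp.dia_sq (h : 𝕘.Hyp v v') {a : F} (ha : a ≠ 0) :
    ∃ P ∈ 𝕘.Om, (P : Matrix (Fin k) (Fin k) F) = 𝕘.dia v v' (a * a) := by
  let d : (Matrix (Fin k) (Fin k) F)ˣ := ⟨𝕘.dia v v' a, 𝕘.dia v v' a⁻¹,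
    by rw [h.dia_mul, mul_inv_cancel₀ ha, h.dia_one], by rw [h.dia_mul, inv_mul_cancel₀ ha, h.dia_one]⟩
  have hn : 𝕘.β (v - v') (v - v') = -2 := by
    simp only [β_sub_left, β_sub_right, h.vv, h.ww, h.vw, h.wv]; ring
  have hn0 : 𝕘.β (v - v') (v - v') ≠ 0 := by rw [hn]; exact neg_ne_zero.2 𝕘.two
  have e1 : 𝕘.refl (v - v') *ᵥ v = v' := by
    rw [refl_mulVec, hn, β_sub_left, h.vv, h.wv, show (2 : F) / -2 * (0 - 1) = 1 by field_simp [𝕘.two]; ring, one_smul,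
      sub_sub_cancel]
  have e2 : 𝕘.refl (v - v') *ᵥ v' = v := by
    conv_lhs => arg 2; rw [← e1]
    rw [mulVec_mulVec, refl_mul_self 𝕘 hn0, one_mulVec]
  set s := 𝕘.reflU hn0
  refine ⟨⁅d, s⁆, Subgroup.commutator_mem_commutator (h.dia_iso ha) (𝕘.reflU_mem hn0), ?_⟩
  have hc : 𝕘.refl (v - v') * 𝕘.dia v v' a⁻¹ * 𝕘.refl (v - v') = 𝕘.dia v v' a := by
    rw [dia, mul_add, mul_add, add_mul, add_mul, mul_one, refl_mul_self 𝕘 hn0, mul_smul_comm, mul_smul_comm,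
      smul_mul_assoc, smul_mul_assoc, conj_tau 𝕘 (𝕘.refl_iso hn0) (refl_mul_self 𝕘 hn0),
      conj_tau 𝕘 (𝕘.refl_iso hn0) (refl_mul_self 𝕘 hn0), e1, e2, inv_inv, dia]
    abel
  rw [commutatorElement_def, Units.val_mul, Units.val_mul, Units.val_mul]
  show 𝕘.dia v v' a * 𝕘.refl (v - v') * 𝕘.dia v v' a⁻¹ * 𝕘.refl (v - v') = _
  rw [mul_assoc, mul_assoc, ← mul_assoc (𝕘.refl (v - v')), hc, h.dia_mul]

end Gram

end Cfsg.Agent.H24.OWr
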