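import Cfsg.Agent.H24.OWr.Skew

/-!
A group without roots preserves the decomposition.
-/

set_option autoImplicit false
set_option linter.unusedVariables false
set_option linter.unusedSectionVars false
set_option linter.unusedSimpArgs false
set_option linter.style.haveILetI false
set_option linter.unnecessarySeqFocus false

namespace Cfsg.Agent.H24.OWr

open Matrix Finset
open Cfsg.Agent.Aschbacher (pureMat slotMat cj)
open Cfsg.Agent.H24.Wreath (Mat sl Off off_one off_sl sl_mul sl_one sl_add sl_smul sl_zero sl_neg sl_sub sl_comm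
  sl_injective)

variable {F : Type*} [Field F] {k t : ℕ}

theorem off_sum {ι : Type*} (s : Finset ι) {l : Fin t} {M : ι → Mat F k t} (h : ∀ i ∈ s, Off l (M i)) :
    Off l (∑ i ∈ s, M i) := fun X => by
  rw [Finset.mul_sum, Finset.sum_mul]
  exact Finset.sum_congr rfl fun i hi => h i hi X

theorem sl_pow (l : Fin t) (X : Matrix (Fin k) (Fin k) F) :
    ∀ n : ℕ, (sl l X : Mat F k t) ^ n = sl l (X ^ n)
  | 0 => by rw [pow_zero, pow_zero, sl_one]
  | n + 1 => by rw [pow_succ, sl_pow l X n, sl_mul, pow_succ]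

theorem sum_sl_pow [NeZero k] {p : ℕ} [Fact p.Prime] [CharP F p] (X : Fin t → Matrix (Fin k) (Fin k) F)
    (s : Finset (Fin t)) :
    (∑ i ∈ s, (sl i (X i) : Mat F k t)) ^ p = ∑ i ∈ s, sl i (X i ^ p) := by
  haveI : Nonempty (Fin t → Fin k) := ⟨fun _ => ⟨0, Nat.pos_of_ne_zero (NeZero.ne k)⟩⟩
  induction s using Finset.induction with
  | empty => rw [Finset.sum_empty, Finset.sum_empty, zero_pow (Fact.out : p.Prime).ne_zero]
  | insert i s hi ih =>
    rw [Finset.sum_insert hi, Finset.sum_insert hi, add_pow_char_of_commute p ?_, ih, sl_pow]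
    refine Commute.sum_right _ _ _ fun m hm => ?_
    exact sl_comm (fun e : i = m => hi (e ▸ hm)) _ _

namespace Gram

variable {𝕘 : Gram F k}

theorem adjD_pow (X : Matrix (Fin k) (Fin k) F) : ∀ n : ℕ, 𝕘.adjD (X ^ n) = 𝕘.adjD X ^ n
  | 0 => by rw [pow_zero, pow_zero, adjD_one]
  | n + 1 => by rw [pow_succ, adjD_mul, adjD_pow X n, pow_succ']

/-- A vanishing slot sum has scalar components. -/
theorem slSum_eq_zero [NeZero k] {X : Fin t → Matrix (Fin k) (Fin k) F} (hX : ∑ i, (sl i (X i) : Mat F k t) = 0)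
    (hne : ∃ x y : Fin k → F, 𝕘.β x y = 1) : ∀ l, ∃ c : F, X l = c • 1 := by
  classical
  intro l
  obtain ⟨x0, y0, h0⟩ := hne
  set R := ∑ i ∈ univ.erase l, (sl i (X i) : Mat F k t) with hR
  have hoff : Off l R := off_sum _ fun i hi => off_sl (ne_of_mem_erase hi).symm _
  have e : ∀ x y, 𝕘.β x (X l *ᵥ y) • (1 : Mat F k t) + 𝕘.β x y • R = 0 := fun x y => by
    have h1 := congrArg (𝕘.ct l x y) hX
    rw [← Finset.add_sum_erase _ _ (mem_univ l), ct_add, ct_sl, 𝕘.ct_of_off hoff, ct_zero] at h1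
    exact h1
  have hR' : R = (-𝕘.β x0 (X l *ᵥ y0)) • (1 : Mat F k t) := by
    have h1 := e x0 y0
    rw [h0, one_smul] at h1
    rw [neg_smul]
    exact eq_neg_of_add_eq_zero_right h1
  refine ⟨𝕘.β x0 (X l *ᵥ y0), 𝕘.mat_ext fun x y => ?_⟩
  have h1 := e x y
  rw [hR', smul_smul, ← add_smul, smul_eq_zero] at h1
  have h2 := h1.resolve_right one_ne_zero
  rw [smul_mulVec, one_mulVec, β_smul_right]
  linear_combination h2

/-- A self-adjoint slot square gives a slot line. -/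
theorem maps_of_slot_sq [Finite F] [NeZero k] {v : Fin k → F} (hv0 : v ≠ 0) (hvv : 𝕘.β v v = 0) {x : (Mat F k t)ˣ}
    (hiso : 𝕘.Iso (x : Mat F k t)) {j l : Fin t} {n : F} (hn : n ≠ 0) {B : Matrix (Fin k) (Fin k) F}
    (hB : sl l B = n • (((x⁻¹ : (Mat F k t)ˣ) : Mat F k t) * sl j (𝕘.tau v v) * (x : Mat F k t))) :
    ∃ (w : Fin k → F) (c : F), Maps 𝕘 x j v l w c := by
  set xi := ((x⁻¹ : (Mat F k t)ˣ) : Mat F k t) with hxi
  have hcj : ∀ P Q : Mat F k t, xi * P * (x : Mat F k t) * (xi * Q * (x : Mat F k t)) = xi * (P * Q) * (x : Mat F k t) :=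
    fun P Q => by simp only [xi, mul_assoc, Units.mul_inv_cancel_left]
  have hB0 : B ≠ 0 := fun h0 => by
    rw [h0, sl_zero, eq_comm, smul_eq_zero] at hB
    have h3 := congrArg (fun M => (x : Mat F k t) * M * xi) (hB.resolve_left hn)
    simp only [xi, mul_assoc, Units.mul_inv_cancel_left, x.mul_inv, mul_one, mul_zero, zero_mul] at h3
    exact 𝕘.tau_ne_zero hv0 hv0 (sl_injective j (h3.trans (sl_zero j).symm))
  have hrk : B.rank ≤ 1 := by
    have h1 : (sl l B : Mat F k t).rank ≤ k ^ (t - 1) * 1 := by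
      rw [hB, ← smul_mul_assoc, ← mul_smul_comm, ← sl_smul, hxi, rank_conj, rank_sl, ← tau_smul_left]
      exact Nat.mul_le_mul_left _ (Matrix.rank_vecMulVec_le _ _)
    rw [rank_sl] at h1
    exact Nat.le_of_mul_le_mul_left h1 (Nat.pow_pos (Nat.pos_of_ne_zero (NeZero.ne k)))
  have hadj : 𝕘.adjD B = B := by
    refine sl_injective (F := F) (k := k) (t := t) l ?_
    show (sl l _ : Mat F k t) = sl l _
    rw [← adj_sl, hB, adj_smul, hxi, ← 𝕘.adj_inv hiso, adj_mul, adj_mul, adj_adj, adj_sl, adjD_tau,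
      𝕘.adj_inv hiso, mul_assoc]
  obtain ⟨c, w, hc, hw, hcw⟩ := eq_tau_of_rank_one hB0 hrk hadj
  have hsing : 𝕘.β w w = 0 := by
    have h1 : sl l B * sl l B = (0 : Mat F k t) := by
      rw [hB, smul_mul_smul_comm, hcj, sl_mul, tau_sq 𝕘 hvv, sl_zero, mul_zero, zero_mul, smul_zero]
    rw [sl_mul, hcw, smul_mul_smul_comm, tau_mul_tau, smul_smul] at h1
    have h2 := sl_injective l (h1.trans (sl_zero l).symm)
    rw [smul_eq_zero] at h2
    rcases h2 with h2 | h2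
    · exact (mul_eq_zero.1 h2).resolve_left (mul_ne_zero hc hc)
    · exact absurd h2 (𝕘.tau_ne_zero hw hw)
  refine ⟨w, n⁻¹ * c, mul_ne_zero (inv_ne_zero hn) hc, hw, hsing, ?_⟩
  rw [← smul_smul, eq_inv_smul_iff₀ hn, ← hxi, ← sl_smul, ← hcw, hB]

/-- In small dimensions a skew map with square zero vanishes. -/
theorem skew_sq_ne_zero [Finite F] (hB : 𝕘.Big) (hk : k = 3 ∨ k = 4) {A : Matrix (Fin k) (Fin k) F}
    (hs : ∀ x y, 𝕘.β (A *ᵥ x) y = -𝕘.β x (A *ᵥ y)) (hA : A ≠ 0) : A * A ≠ 0 := by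
  intro h0
  have hts : ∀ a b, 𝕘.β (A *ᵥ a) (A *ᵥ b) = 0 := fun a b => by
    rw [hs, mulVec_mulVec, h0, zero_mulVec, β_zero_right, neg_zero]
  have h2 := 𝕘.two_le_rank_skew hA hs
  obtain ⟨u, hu⟩ : ∃ u, A *ᵥ u ≠ 0 := by
    by_contra hh
    push Not at hh
    exact hA (Matrix.ext_iff_mulVec.2 fun u => by rw [hh, zero_mulVec])
  have hsub : LinearMap.range A.mulVecLin ≤ F ∙ (A *ᵥ u) := by
    rintro _ ⟨w, rfl⟩
    rw [Matrix.mulVecLin_apply, Submodule.mem_span_singleton]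
    rcases hk with hk | hk
    · obtain ⟨x', hh⟩ := 𝕘.exists_hyp hu (hts u u)
      obtain ⟨z, hz, hzn⟩ := hh.aniso (by omega)
      have hxy := hts u w
      have hp := eq_smul_of_three 𝕘 hh hk hz hzn (𝕘.pr_inU hh (A *ᵥ w))
      have hpn : 𝕘.β (𝕘.pr (A *ᵥ u) x' (A *ᵥ w)) (𝕘.pr (A *ᵥ u) x' (A *ᵥ w)) = 0 := by
        simp [pr, hxy, β_sub_left, β_sub_right, β_smul_left, β_smul_right, hh.vv, hts w w,
          𝕘.β_comm (A *ᵥ u) (A *ᵥ w)]
      rw [hp, β_smul_left, β_smul_right] at hpn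
      have hc : 𝕘.β z (𝕘.pr (A *ᵥ u) x' (A *ᵥ w)) / 𝕘.β z z = 0 := by
        rcases mul_eq_zero.1 hpn with h' | h'
        · exact h'
        · exact (mul_eq_zero.1 h').resolve_right hzn
      rw [hc, zero_smul, pr, hxy, zero_smul, sub_zero, sub_eq_zero] at hp
      exact ⟨_, hp.symm⟩
    · obtain ⟨c, hc⟩ := hB.2.2 hk _ _ hu (hts u u) (hts w w) (hts u w)
      exact ⟨c, hc.symm⟩
  have h3 := Submodule.finrank_mono hsub
  rw [finrank_span_singleton hu] at h3
  exact absurd (h2.trans h3) (by norm_num)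

/-- A nilpotent skew map in dimension three is a root map. -/
theorem eq_N_of_three [Finite F] (hB : 𝕘.Big) (hk : k = 3) {X : Matrix (Fin k) (Fin k) F}
    (hs : ∀ x y, 𝕘.β (X *ᵥ x) y = -𝕘.β x (X *ᵥ y)) (hn : IsNilpotent X) (hX : X ≠ 0) :
    ∃ w w' b, 𝕘.Hyp w w' ∧ 𝕘.InU w w' b ∧ 𝕘.β b b ≠ 0 ∧ X = 𝕘.N w b := by
  classical
  have hex : ∃ m, X ^ m = 0 := hn
  set m := Nat.find hex
  have hm : X ^ m = 0 := Nat.find_spec hex
  have hm0 : m ≠ 0 := fun e => by
    rw [e, pow_zero] at hm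
    exact hX (by rw [← mul_one X, hm, mul_zero])
  have hm1 : X ^ (m - 1) ≠ 0 := Nat.find_min hex (by omega : m - 1 < m)
  have hm2 : 2 ≤ m := by
    by_contra hlt
    have : m = 1 := by omega
    rw [this, pow_one] at hm
    exact hX hm
  obtain ⟨u, hu⟩ : ∃ u, (X ^ (m - 1)) *ᵥ u ≠ 0 := by
    by_contra hh
    push Not at hh
    exact hm1 (Matrix.ext_iff_mulVec.2 fun u => by rw [hh, zero_mulVec])
  set w := (X ^ (m - 1)) *ᵥ u with hw
  have hXw : X *ᵥ w = 0 := by
    rw [hw, mulVec_mulVec, ← pow_succ', show m - 1 + 1 = m by omega, hm, zero_mulVec]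
  have hww : 𝕘.β w w = 0 := by
    have e : w = X *ᵥ ((X ^ (m - 2)) *ᵥ u) := by
      rw [hw, mulVec_mulVec, ← pow_succ', show m - 2 + 1 = m - 1 by omega]
    nth_rw 1 [e]
    rw [hs, hXw, β_zero_right, neg_zero]
  obtain ⟨w', h⟩ := 𝕘.exists_hyp hu hww
  have hself : ∀ y, 𝕘.β y (X *ᵥ y) = 0 := fun y => by
    have h1 := hs y y
    rw [β_comm] at h1
    have h2 : (2 : F) * 𝕘.β y (X *ᵥ y) = 0 := by linear_combination h1
    exact (mul_eq_zero.1 h2).resolve_left 𝕘.two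
  set a := X *ᵥ w' with ha
  have haU : 𝕘.InU w w' a := by
    refine ⟨?_, hself w'⟩
    have h1 := hs w w'
    rw [hXw, β_zero_left] at h1
    exact neg_eq_zero.1 h1.symm
  obtain ⟨z, hz, hzn⟩ := h.aniso (by omega)
  have hbU : 𝕘.InU w w' (-a) := ⟨by rw [β_neg_right, haU.1, neg_zero], by rw [β_neg_right, haU.2, neg_zero]⟩
  have hXN : X = 𝕘.N w (-a) := by
    refine 𝕘.mat_ext fun p q => ?_
    congr 1
    have hq := eq_smul_of_three 𝕘 h hk hz hzn (𝕘.pr_inU h q)
    have hXz : X *ᵥ z = -𝕘.β a z • w := by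
      have h1 : 𝕘.β w (X *ᵥ z) = 0 := by
        have h1 := hs w z
        rw [hXw, β_zero_left] at h1
        exact neg_eq_zero.1 h1.symm
      have h2 := eq_smul_of_three 𝕘 h hk hz hzn (𝕘.pr_inU h (X *ᵥ z))
      have h3 : 𝕘.β z (𝕘.pr w w' (X *ᵥ z)) = 0 := by
        rw [pr, β_sub_right, β_sub_right, β_smul_right, β_smul_right, hself, hz.comm.1, hz.comm.2, mul_zero, mul_zero,
          sub_zero, sub_zero]
      rw [h3, zero_div, zero_smul] at h2
      conv_lhs => rw [← 𝕘.decomp (v := w) (v' := w') (X *ᵥ z), h1, h2, zero_smul, add_zero, add_zero]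
      congr 1
      have h4 := hs w' z
      rw [← ha] at h4
      linear_combination h4
    conv_lhs => rw [← 𝕘.decomp (v := w) (v' := w') q, hq]
    rw [mulVec_add, mulVec_add, mulVec_smul, mulVec_smul, mulVec_smul, hXw, ← ha, hXz, smul_zero, zero_add, N_mulVec,
      β_neg_left]
    conv_rhs => rw [← 𝕘.decomp (v := w) (v' := w') q, hq]
    simp only [β_add_right, β_smul_right, h.vv, h.vw, haU.comm.1, haU.comm.2, hz.1, mul_zero, mul_one, zero_add,
      add_zero]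
    module
  refine ⟨w, w', -a, h, hbU, fun h0 => hX ?_, hXN⟩
  have e := eq_smul_of_three 𝕘 h hk hz hzn hbU
  rw [e, β_smul_left, β_smul_right] at h0
  have hc : 𝕘.β z (-a) / 𝕘.β z z = 0 := by
    rcases mul_eq_zero.1 h0 with h' | h'
    · exact h'
    · exact (mul_eq_zero.1 h').resolve_right hzn
  rw [hXN, e, hc, zero_smul, N_zero]

variable {H : Subgroup (Mat F k t)ˣ}

/-- A group without roots is monomial. -/
theorem Over.mono [Finite F] [NeZero k] [NeZero t] (hH : 𝕘.Over H) (hk : 3 ≤ k) (hno : 𝕘.NoRoot H)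
    {x : (Mat F k t)ˣ} (hx : x ∈ H) : Mono (x : Mat F k t) := by
  classical
  have hB := hH.big hk
  obtain ⟨v, hv0, hvv⟩ := 𝕘.exists_singular hk
  obtain ⟨v', h⟩ := 𝕘.exists_hyp hv0 hvv
  obtain ⟨z, hz, hzn⟩ := h.aniso hk
  refine hH.bad hk hno hx fun j => ?_
  set p := ringChar F
  have hp : p.Prime := CharP.char_is_prime F p
  haveI : Fact p.Prime := ⟨hp⟩
  haveI : Nonempty (Fin t → Fin k) := ⟨fun _ => ⟨0, by omega⟩⟩
  have hp2 : p ≠ 2 := fun e => 𝕘.two (by
    have h0 : ((p : ℕ) : F) = 0 := CharP.cast_eq_zero F p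
    rw [e] at h0
    exact_mod_cast h0)
  have hodd : Odd p := hp.odd_of_ne_two hp2
  have hp3 : 3 ≤ p := by have := hp.two_le; omega
  set xi := ((x⁻¹ : (Mat F k t)ˣ) : Mat F k t) with hxi
  set Y := xi * sl j (𝕘.N v z) * (x : Mat F k t) with hY
  have hcj : ∀ P Q : Mat F k t, xi * P * (x : Mat F k t) * (xi * Q * (x : Mat F k t)) = xi * (P * Q) * (x : Mat F k t) :=
    fun P Q => by simp only [xi, mul_assoc, Units.mul_inv_cancel_left]
  clear_value Y
  have hY2 : Y * Y = -𝕘.β z z • (xi * sl j (𝕘.tau v v) * (x : Mat F k t)) := by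
    rw [hY, hcj, sl_mul, N_mul_N 𝕘 h.vv hz.1 hz.1, sl_smul, mul_smul_comm, smul_mul_assoc]
  have hY3 : Y ^ 3 = 0 := by
    rw [pow_succ, pow_two, hY2, smul_mul_assoc, hY, hcj, sl_mul, tau_mul_N 𝕘 h.vv hz.1, sl_zero, mul_zero, zero_mul,
      smul_zero]
  have hYp : Y ^ p = 0 := pow_eq_zero_of_le hp3 hY3
  have hYskew : 𝕘.adj Y = -Y := by
    rw [hY, hxi, ← 𝕘.adj_inv (hH.iso x hx), adj_mul, adj_mul, adj_adj, adj_sl, adjD_N, sl_neg, neg_mul, mul_neg,
      𝕘.adj_inv (hH.iso x hx), mul_assoc]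
  obtain ⟨X0, hX0⟩ := hH.conj_root hk hno h hz hzn (H.inv_mem hx) j
  rw [slSum_apply, Aschbacher.cj_apply, inv_inv, ← hY] at hX0
  -- skew components
  have hone : ∃ a b : Fin k → F, 𝕘.β a b = 1 := ⟨v, v', h.vw⟩
  have hsc : ∀ i, ∃ c : F, X0 i + 𝕘.adjD (X0 i) = c • 1 := by
    refine slSum_eq_zero ?_ hone
    simp only [sl_add, Finset.sum_add_distrib]
    rw [hX0, Finset.sum_congr rfl fun i _ => (adj_sl 𝕘 i (X0 i)).symm, ← adj_sum, hX0, hYskew, add_neg_cancel]
  choose c hc using hsc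
  have hcsum : ∑ i, c i = 0 := by
    have h1 : ∑ i, (sl i (X0 i + 𝕘.adjD (X0 i)) : Mat F k t) = 0 := by
      simp only [sl_add, Finset.sum_add_distrib]
      rw [hX0, Finset.sum_congr rfl fun i _ => (adj_sl 𝕘 i (X0 i)).symm, ← adj_sum, hX0, hYskew, add_neg_cancel]
    simp only [hc, sl_smul, sl_one, ← Finset.sum_smul] at h1
    exact (smul_eq_zero.1 h1).resolve_right one_ne_zero
  set X : Fin t → Matrix (Fin k) (Fin k) F := fun i => X0 i - (2⁻¹ * c i) • 1 with hXdef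
  have hXY : ∑ i, (sl i (X i) : Mat F k t) = Y := by
    simp only [hXdef, sl_sub, sl_smul, sl_one, Finset.sum_sub_distrib, hX0, ← Finset.sum_smul, ← Finset.mul_sum, hcsum,
      mul_zero, zero_smul, sub_zero]
  have hXs : ∀ i, 𝕘.adjD (X i) = -X i := fun i => by
    have h2 := 𝕘.two
    refine 𝕘.adjD_eq fun a b => ?_
    have h1 := congrArg (fun M => 𝕘.β a (M *ᵥ b)) (hc i)
    simp only [add_mulVec, β_add_right, smul_mulVec, one_mulVec, β_smul_right, ← β_adjD] at h1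
    simp only [hXdef, neg_mulVec, sub_mulVec, smul_mulVec, one_mulVec, β_neg_right, β_sub_left, β_sub_right,
      β_smul_left, β_smul_right]
    field_simp
    linear_combination 2 * h1
  have hXskew : ∀ i a b, 𝕘.β (X i *ᵥ a) b = -𝕘.β a (X i *ᵥ b) := fun i a b => by
    rw [β_adjD, hXs, neg_mulVec, β_neg_right]
  have hXn : ∀ i, X i ^ p = 0 := fun i => by
    have h1 : ∑ m, (sl m (X m ^ p) : Mat F k t) = 0 := by rw [← sum_sl_pow, hXY, hYp]
    obtain ⟨d, hd⟩ := slSum_eq_zero h1 hone i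
    have h2 : 𝕘.adjD (X i ^ p) = -(X i ^ p) := by rw [adjD_pow, hXs, hodd.neg_pow]
    rw [hd, adjD_eq 𝕘 (X := d • (1 : Matrix (Fin k) (Fin k) F)) (Y := d • 1) (fun a b => by
      rw [smul_mulVec, smul_mulVec, one_mulVec, one_mulVec, β_smul_left, β_smul_right]), eq_neg_iff_add_eq_zero,
      ← two_smul F, smul_smul, smul_eq_zero] at h2
    have : Nonempty (Fin k) := ⟨⟨0, by omega⟩⟩
    rw [hd, (mul_eq_zero.1 (h2.resolve_right one_ne_zero)).resolve_left 𝕘.two, zero_smul]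
  obtain ⟨l, hl⟩ : ∃ l, X l ≠ 0 := by
    by_contra hh
    push Not at hh
    have h0 : Y = 0 := by rw [← hXY]; exact Finset.sum_eq_zero fun i _ => by rw [hh, sl_zero]
    rw [h0, mul_zero, eq_comm, smul_eq_zero] at hY2
    have h3 := congrArg (fun M => (x : Mat F k t) * M * xi) (hY2.resolve_left (neg_ne_zero.2 hzn))
    simp only [xi, mul_assoc, Units.mul_inv_cancel_left, x.mul_inv, mul_one, mul_zero, zero_mul] at h3
    exact 𝕘.tau_ne_zero h.v_ne h.v_ne (sl_injective j (h3.trans (sl_zero j).symm))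
  by_cases honly : ∀ i, i ≠ l → X i = 0
  · have hYl : Y = sl l (X l) := by
      rw [← hXY, Finset.sum_eq_single l]
      · intro i _ hi; rw [honly i hi, sl_zero]
      · exact fun h => absurd (mem_univ _) h
    rw [hYl, sl_mul] at hY2
    obtain ⟨w, c', hm⟩ := maps_of_slot_sq hv0 hvv (hH.iso x hx) (neg_ne_zero.2 hzn) hY2
    exact ⟨v, l, w, c', hv0, hvv, hm⟩
  exfalso
  push Not at honly
  obtain ⟨l', hl', hXl'⟩ := honly
  set R := ∑ i ∈ univ.erase l, (sl i (X i) : Mat F k t) with hR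
  have hYR : Y = sl l (X l) + R := by
    rw [← hXY, hR]
    exact (Finset.add_sum_erase univ (fun i => (sl i (X i) : Mat F k t)) (mem_univ l)).symm
  have hRoff : Off l R := off_sum _ fun i hi => off_sl (ne_of_mem_erase hi).symm _
  have hRn : IsNilpotent R := ⟨p, by
    rw [hR, sum_sl_pow]
    exact Finset.sum_eq_zero fun i _ => by rw [hXn, sl_zero]⟩
  have hR0 : R ≠ 0 := fun h0 => by
    have h1 : ∑ i, (sl i ((Function.update X l 0) i) : Mat F k t) = 0 := by
      rw [← Finset.add_sum_erase _ _ (mem_univ l), Function.update_self, sl_zero, zero_add, ← h0, hR]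
      exact Finset.sum_congr rfl fun i hi => by rw [Function.update_of_ne (ne_of_mem_erase hi)]
    obtain ⟨d, hd⟩ := slSum_eq_zero h1 hone l'
    rw [Function.update_of_ne hl'] at hd
    have h2 := hXn l'
    haveI : Nonempty (Fin k) := ⟨⟨0, by omega⟩⟩
    rw [hd, smul_pow, one_pow, smul_eq_zero] at h2
    exact hXl' (by rw [hd, eq_zero_of_pow_eq_zero (h2.resolve_right one_ne_zero), zero_smul])
  by_cases hk4 : 4 ≤ k
  · have h1 := 𝕘.rank_gt hB hk4 (A := X l) (Q := 1) hRoff hRn hR0 isUnit_one (by rw [mul_one, one_mul])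
      (𝕘.two_le_rank_skew hl (hXskew l)) (fun e4 => skew_sq_ne_zero hB (Or.inr e4) (hXskew l) hl)
    rw [sl_one, one_mul, ← hYR, hY, hxi, rank_conj, rank_sl, mul_comm 2] at h1
    have h2 : (𝕘.N v z).rank ≤ 2 := by simpa using rank_le_two (𝕘 := 𝕘) v z 0
    exact absurd (Nat.lt_of_mul_lt_mul_left h1) (by omega)
  · have hk3 : k = 3 := by omega
    obtain ⟨w, w', b, hw, hb, hbn, hXlN⟩ := eq_N_of_three hB hk3 (hXskew l) ⟨p, hXn l⟩ hl
    -- the conjugate of the Siegel element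
    set δ : (Mat F k t)ˣ := x⁻¹ * slU j (𝕘.ueU h.vv hz.1) * x with hδ
    have hδH : δ ∈ H := H.mul_mem (H.mul_mem (H.inv_mem hx) (hH.om j _ (𝕘.ueU_mem hB h.vv hz.1))) hx
    have hδv : (δ : Mat F k t) = 1 + Y + (2⁻¹ : F) • (Y * Y) := by
      rw [hY2, hδ, ← sub_add_cancel (((x⁻¹ * slU j (𝕘.ueU h.vv hz.1) * x : (Mat F k t)ˣ)) : Mat F k t) 1,
        conj_siegel x h.vv hz.1, sl_sub, sl_smul, mul_sub, sub_mul, mul_smul_comm, smul_mul_assoc, ← hxi, ← hY]
      module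
    have hNR : sl l (𝕘.N w b) * R = R * sl l (𝕘.N w b) := hRoff _
    have hcomm : 𝕘.CommN l w w' (δ : Mat F k t) := fun a ha => by
      have e1 : sl l (𝕘.N w a) * Y = Y * sl l (𝕘.N w a) := by
        rw [hYR, mul_add, add_mul, hXlN, sl_mul, sl_mul, N_mul_N 𝕘 hw.vv ha.1 hb.1, N_mul_N 𝕘 hw.vv hb.1 ha.1,
          𝕘.β_comm a b, hRoff]
      rw [hδv, mul_add, add_mul, mul_add, add_mul, mul_one, one_mul, mul_smul_comm, smul_mul_assoc, e1,
        ← mul_assoc, e1, mul_assoc, e1, mul_assoc]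
    obtain ⟨d, hd, hde⟩ := CommN.prop hH hk hno hw hcomm fun P hP =>
      H.mul_mem (H.mul_mem (H.mul_mem hδH (hH.om l P hP)) (H.inv_mem hδH)) (H.inv_mem (hH.om l P hP))
    have h1R : Off l (1 + R) := (off_one l).add hRoff
    have h2R : Off l (1 + R + (2⁻¹ : F) • (R * R)) := h1R.add ((hRoff.mul hRoff).smul _)
    have hexp : (δ : Mat F k t) = (1 + R + (2⁻¹ : F) • (R * R)) + sl l (𝕘.N w b) * (1 + R) +
        sl l (𝕘.tau w w) * ((2⁻¹ * (-𝕘.β b b)) • 1) := by
      have e2 : sl l (𝕘.N w b) * sl l (𝕘.N w b) = (-𝕘.β b b) • (sl l (𝕘.tau w w) : Mat F k t) := by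
        rw [sl_mul, N_mul_N 𝕘 hw.vv hb.1 hb.1, sl_smul]
      rw [hδv, hYR, hXlN]
      simp only [mul_add, add_mul, mul_one, mul_smul_comm, smul_add, smul_smul, e2, ← hNR]
      have h2 := 𝕘.two
      match_scalars <;> field_simp <;> ring
    have key := hde b hb
    rw [hexp, ct_add, ct_add, 𝕘.ct_of_off h2R, 𝕘.ct_sl_mul h1R, 𝕘.ct_sl_mul ((off_one l).smul _), N_inj hw hb,
      tau_mulVec, hw.vw, one_smul, hb.comm.1, hb.comm.2, β_neg_right, ct_add, ct_add, 𝕘.ct_of_off h2R,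
      𝕘.ct_sl_mul h1R, 𝕘.ct_sl_mul ((off_one l).smul _), N_inj hw hb, tau_mulVec, hw.vw, β_neg_right, hb.1,
      one_smul] at key
    simp only [β_smul_right, hw.vv, hw.vw, zero_smul, zero_add, add_zero, one_smul, neg_zero, smul_zero, mul_zero] at key
    set r := 𝕘.β d b
    have hnr : 𝕘.β b b + r = 0 := by
      by_contra hne
      have e : (𝕘.β b b + r) • (1 : Mat F k t) + R * ((𝕘.β b b + r) • 1 + (r * 2⁻¹) • R) = 0 := by
        rw [mul_add, mul_smul_comm, mul_smul_comm, mul_one]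
        linear_combination (norm := module) -key
      have hu : IsUnit ((𝕘.β b b + r) • (1 : Mat F k t) + R * ((𝕘.β b b + r) • 1 + (r * 2⁻¹) • R)) := by
        refine IsNilpotent.isUnit_add_left_of_commute (Commute.isNilpotent_mul_right
          (((Commute.one_right R).smul_right _).add_right ((Commute.refl R).smul_right _)) hRn) ?_
          ((Commute.one_right _).smul_right _)
        rw [← Algebra.algebraMap_eq_smul_one]; exact (isUnit_iff_ne_zero.2 hne).map _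
      rw [e] at hu
      exact not_isUnit_zero hu
    have hR2 : R * R = 0 := by
      have e : (r * 2⁻¹) • (R * R) = 0 := by
        rw [show r = -𝕘.β b b by linear_combination hnr] at key ⊢
        linear_combination (norm := module) -key
      exact (smul_eq_zero.1 e).resolve_left (mul_ne_zero (fun e0 => hbn (by rw [e0, add_zero] at hnr; exact hnr))
        (inv_ne_zero 𝕘.two))
    obtain ⟨w2, w2', b2, hw2, hb2, hb2n, hX2⟩ := eq_N_of_three hB hk3 (hXskew l') ⟨p, hXn l'⟩ hXl'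
    set R' := ∑ i ∈ (univ.erase l).erase l', (sl i (X i) : Mat F k t) with hR'
    have hR'off : Off l' R' := off_sum _ fun i hi => off_sl (ne_of_mem_erase hi).symm _
    have hRR : R = sl l' (𝕘.N w2 b2) + R' := by
      rw [hR, hR', ← Finset.add_sum_erase _ _ (mem_erase.2 ⟨hl', mem_univ l'⟩), hX2]
    have h3 := congrArg (𝕘.ct l' w2' w2') hR2
    rw [hRR, mul_add, add_mul, add_mul, sl_mul, N_mul_N 𝕘 hw2.vv hb2.1 hb2.1, ← hR'off (𝕘.N w2 b2), ct_add, ct_add,
      ct_add, ct_sl, 𝕘.ct_sl_mul hR'off, 𝕘.ct_of_off (hR'off.mul hR'off), smul_mulVec, tau_mulVec, hw2.vw, one_smul,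
      β_smul_right, hw2.wv, mul_one, N_inj hw2 hb2, β_neg_right, hb2.2, neg_zero, zero_smul, hw2.ww, zero_smul,
      add_zero, add_zero, add_zero, ct_zero, smul_eq_zero] at h3
    exact hb2n (neg_eq_zero.1 (h3.resolve_right one_ne_zero))

end Gram

end Cfsg.Agent.H24.OWr
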