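import Cfsg.Agent.H24.OWr.Cent
import Mathlib.Algebra.CharP.Lemmas
import Mathlib.FieldTheory.Finite.Basic

/-!
Sums over the orbits of families of slot Siegel elements.
-/

set_option autoImplicit false
set_option linter.unusedVariables false
set_option linter.unusedSectionVars false
set_option linter.style.haveILetI false

namespace Cfsg.Agent.H24.OWr

open Matrix Finset
open Cfsg.Agent.H24.Wreath (Mat sl Off off_one off_sl sl_mul sl_one sl_add sl_smul sl_zero sl_neg sl_sub sl_injective)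

variable {F : Type*} [Field F] {k t : ℕ}

/-! ### Finite abelian groups acting on a finite set -/

section Orbit

variable {D X : Type*} [AddCommGroup D] [Fintype D] [DecidableEq X]

/-- An action of an additive group. -/
structure IsAct (a : D → X → X) : Prop where
  zero : ∀ x, a 0 x = x
  add : ∀ d e x, a (d + e) x = a d (a e x)

/-- Fixed by the whole group. -/
def Fixed (a : D → X → X) (x : X) : Prop := ∀ d, a d x = x

/-- The orbit. -/
def orb (a : D → X → X) (x : X) : Finset X := univ.image fun d => a d x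

variable {a : D → X → X} {E : Type*} [AddCommGroup E] [Module F E]

theorem mem_orb {x y : X} : y ∈ orb a x ↔ ∃ d, a d x = y := by simp [orb]

theorem sum_of_orbits (ha : IsAct a) (W : Submodule F E) (f : X → E) :
    ∀ S : Finset X, (∀ x ∈ S, ∀ d, a d x ∈ S) → (∀ x ∈ S, ∑ y ∈ orb a x, f y ∈ W) → ∑ x ∈ S, f x ∈ W := by
  intro S
  induction S using Finset.strongInduction with
  | H S ih =>
    intro hS h
    rcases S.eq_empty_or_nonempty with rfl | ⟨x, hx⟩
    · rw [Finset.sum_empty]; exact W.zero_mem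
    have hsub : orb a x ⊆ S := fun y hy => by
      obtain ⟨d, rfl⟩ := mem_orb.1 hy
      exact hS x hx d
    rw [← Finset.sum_sdiff hsub]
    refine W.add_mem (ih _ ?_ (fun y hy d => ?_) fun y hy => h y (mem_sdiff.1 hy).1) (h x hx)
    · refine Finset.sdiff_ssubset hsub ⟨x, mem_orb.2 ⟨0, ha.zero x⟩⟩
    · obtain ⟨hy1, hy2⟩ := mem_sdiff.1 hy
      refine mem_sdiff.2 ⟨hS y hy1 d, fun hmem => hy2 ?_⟩
      obtain ⟨e, he⟩ := mem_orb.1 hmem
      exact mem_orb.2 ⟨-d + e, by rw [ha.add, he, ← ha.add, neg_add_cancel, ha.zero]⟩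

theorem prime_dvd_card_orb (ha : IsAct a) {p n : ℕ} (hp : p.Prime) (hD : Fintype.card D = p ^ n) {x : X}
    (hx : ¬ Fixed a x) : p ∣ (orb a x).card := by
  classical
  set V : Finset D := univ.filter fun d => a d x = x
  have hfib : ∀ y ∈ orb a x, (univ.filter fun d => a d x = y).card = V.card := by
    intro y hy
    obtain ⟨e, rfl⟩ := mem_orb.1 hy
    refine Finset.card_equiv (Equiv.addRight (-e)) fun d => ?_
    simp only [V, mem_filter, mem_univ, true_and, Equiv.coe_addRight]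
    constructor
    · intro hd
      rw [add_comm, ha.add, hd, ← ha.add, neg_add_cancel, ha.zero]
    · intro hd
      conv_rhs => rw [← hd, ← ha.add, add_comm, add_assoc, neg_add_cancel, add_zero]
  have hcard : Fintype.card D = (orb a x).card * V.card := by
    rw [← Finset.card_univ, Finset.card_eq_sum_card_image (fun d => a d x)]
    exact Finset.sum_const_nat hfib
  have hdvd : (orb a x).card ∣ p ^ n := ⟨V.card, by rw [← hD, hcard]⟩
  obtain ⟨m, -, hm⟩ := (Nat.dvd_prime_pow hp).1 hdvd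
  rcases Nat.eq_zero_or_pos m with rfl | hm0
  · exfalso
    refine hx fun d => ?_
    obtain ⟨y, hy⟩ := Finset.card_eq_one.1 (by simpa using hm)
    have h1 : a d x ∈ orb a x := mem_orb.2 ⟨d, rfl⟩
    have h0 : x ∈ orb a x := mem_orb.2 ⟨0, ha.zero x⟩
    rw [hy, mem_singleton] at h1 h0
    exact h1.trans h0.symm
  · rw [hm]; exact dvd_pow_self p hm0.ne'

theorem sum_orb_const (ha : IsAct a) {p n : ℕ} [CharP F p] (hp : p.Prime) (hD : Fintype.card D = p ^ n) {x : X}
    (hx : ¬ Fixed a x) {f : X → E} (hf : ∀ d, f (a d x) = f x) : ∑ y ∈ orb a x, f y = 0 := by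
  have e : ∀ y ∈ orb a x, f y = f x := fun y hy => by
    obtain ⟨d, rfl⟩ := mem_orb.1 hy
    exact hf d
  rw [Finset.sum_congr rfl e, Finset.sum_const, ← Nat.cast_smul_eq_nsmul F,
    (CharP.cast_eq_zero_iff F p _).2 (prime_dvd_card_orb ha hp hD hx), zero_smul]

theorem sum_orb_free (ha : IsAct a) {x : X} (hx : ∀ d, a d x = x → d = 0) (f : X → E) :
    ∑ y ∈ orb a x, f y = ∑ d, f (a d x) := by
  refine Finset.sum_image fun d _ e _ hde => ?_
  have : a (-e + d) x = x := by rw [ha.add, show a d x = a e x from hde, ← ha.add, neg_add_cancel, ha.zero]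
  exact neg_add_eq_zero.1 (hx _ this) |>.symm

end Orbit

/-! ### Sums of powers -/

theorem five_le_card [Fintype F] (h2 : (2 : F) ≠ 0) (h3 : 3 < Nat.card F) : 5 ≤ Fintype.card F := by
  rw [Nat.card_eq_fintype_card] at h3
  rcases Nat.lt_or_ge (Fintype.card F) 5 with h | h
  · exfalso
    have h4 : Fintype.card F = 4 := by omega
    have hc : ringChar F = 2 := FiniteField.even_card_iff_char_two.2 (by rw [h4])
    have h20 : ((2 : ℕ) : F) = 0 := (ringChar.spec F 2).2 (by rw [hc])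
    exact h2 (by exact_mod_cast h20)
  · exact h

theorem sum_poly_two [Fintype F] (h2 : (2 : F) ≠ 0) (h3 : 3 < Nat.card F) {E : Type*} [AddCommGroup E] [Module F E]
    (A B C : E) : ∑ s : F, (A + s • B + s ^ 2 • C) = 0 := by
  have h5 := five_le_card h2 h3
  rw [Finset.sum_add_distrib, Finset.sum_add_distrib, ← Finset.sum_smul, ← Finset.sum_smul, Finset.sum_const,
    Finset.card_univ, ← Nat.cast_smul_eq_nsmul F, FiniteField.cast_card_eq_zero,
    FiniteField.sum_pow_lt_card_sub_one F 2 (by omega),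
    show ∑ s : F, s = 0 by simpa using FiniteField.sum_pow_lt_card_sub_one F 1 (by omega)]
  simp

theorem sum_three [Fintype F] (h2 : (2 : F) ≠ 0) (h3 : Nat.card F = 3) {E : Type*} [AddCommMonoid E] (g : F → E) :
    ∑ s, g s = g 0 + g 1 + g (-1) := by
  classical
  have n1 : (0 : F) ∉ ({1, -1} : Finset F) := by simp
  have n2 : (1 : F) ∉ ({-1} : Finset F) := by
    simp only [mem_singleton]; intro e; exact h2 (by linear_combination e)
  have hu : (univ : Finset F) = {0, 1, -1} := by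
    refine (Finset.eq_univ_of_card _ ?_).symm
    rw [Finset.card_insert_of_notMem n1, Finset.card_insert_of_notMem n2, Finset.card_singleton,
      ← Nat.card_eq_fintype_card, h3]
  rw [hu, Finset.sum_insert n1, Finset.sum_insert n2, Finset.sum_singleton, add_assoc]

theorem three_cases [Finite F] (h2 : (2 : F) ≠ 0) (h3 : Nat.card F = 3) (c : F) : c = 0 ∨ c = 1 ∨ c = -1 := by
  classical
  letI : Fintype F := Fintype.ofFinite F
  have h := sum_three h2 h3 fun s => ({s} : Multiset F)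
  have hc : c ∈ ∑ s, ({s} : Multiset F) := Multiset.mem_sum.2 ⟨c, mem_univ c, Multiset.mem_singleton_self c⟩
  rw [h] at hc
  simpa [or_assoc] using hc

theorem ad_mul (m : Fin t) (P Q : (Matrix (Fin k) (Fin k) F)ˣ) (Z : Mat F k t) :
    Gram.ad m (P * Q) Z = Gram.ad m P (Gram.ad m Q Z) := by
  simp only [Gram.ad, _root_.mul_inv_rev, Units.val_mul, ← sl_mul, mul_assoc]

theorem ad_sum {ι : Type*} (s : Finset ι) (m : Fin t) (P : (Matrix (Fin k) (Fin k) F)ˣ) (Z : ι → Mat F k t) :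
    Gram.ad m P (∑ i ∈ s, Z i) = ∑ i ∈ s, Gram.ad m P (Z i) := by
  simp only [Gram.ad, Finset.mul_sum, Finset.sum_mul]

namespace Gram

variable {𝕘 : Gram F k} {v v' z y : Fin k → F} {j : Fin t}

variable (𝕘) in
/-- The Siegel conjugation in a slot. -/
def adU (j : Fin t) (hv : 𝕘.β v v = 0) {z : Fin k → F} (hz : 𝕘.β v z = 0) (Z : Mat F k t) : Mat F k t :=
  ad j (𝕘.ueU hv hz) Z

variable (𝕘) in
/-- The multiples of the slot root. -/
def WS (j : Fin t) (v v' : Fin k → F) : Submodule F (Mat F k t) :=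
  LinearMap.range
    ({ toFun := fun Z => sl j (𝕘.tau v v) * 𝕘.ct j v v' Z
       map_add' := fun Z W => by rw [ct_add, mul_add]
       map_smul' := fun r Z => by rw [ct_smul, mul_smul_comm, RingHom.id_apply] } : Mat F k t →ₗ[F] Mat F k t)

theorem mem_WS (h : 𝕘.Hyp v v') {K : Mat F k t} (hK : Off j K) : sl j (𝕘.tau v v) * K ∈ 𝕘.WS j v v' :=
  ⟨K, by show sl j (𝕘.tau v v) * 𝕘.ct j v v' K = _; rw [𝕘.ct_of_off hK, h.vw, one_smul]⟩

theorem of_mem_WS {Z : Mat F k t} (hZ : Z ∈ 𝕘.WS j v v') : ∃ K, Off j K ∧ Z = sl j (𝕘.tau v v) * K := by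
  obtain ⟨W, rfl⟩ := hZ
  exact ⟨_, 𝕘.ct_off _ _ _ _, rfl⟩

theorem coef4_mem (h : 𝕘.Hyp v v') (z : Fin k → F) (Y : Mat F k t) : 𝕘.coef4 j v z Y ∈ 𝕘.WS j v v' := by
  rw [coef4, tau_sandwich]
  exact Submodule.smul_mem _ _ (mem_WS h (𝕘.ct_off _ _ _ _))

/-- A fixed point of one Siegel conjugation is fixed by its line and commutes with the root. -/
theorem fixed_line [NeZero k] (hv : 𝕘.β v v = 0) (hz : 𝕘.β v z = 0) (hzn : 𝕘.β z z ≠ 0) {c : F} (hc : c ≠ 0)
    (hcz : 𝕘.β v (c • z) = 0) {Y : Mat F k t} (hY : 𝕘.adU j hv hcz Y = Y) :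
    (∀ (s : F) (hs : 𝕘.β v (s • z) = 0), 𝕘.adU j hv hs Y = Y) ∧
      sl j (𝕘.tau v v) * Y = Y * sl j (𝕘.tau v v) := by
  rw [adU, ad, ueU_val, ueU_inv] at hY
  have hnz : 𝕘.β v (-(c • z)) = 0 := by rw [β_neg_right, hcz, neg_zero]
  have hinv : (sl j (𝕘.ue v (-(c • z))) : Mat F k t) * sl j (𝕘.ue v (c • z)) = 1 := by
    rw [sl_mul, ue_mul 𝕘 hv hnz hcz, neg_add_cancel, ue_zero, sl_one]
  have h1 : sl j (𝕘.ue v (c • z)) * Y = Y * sl j (𝕘.ue v (c • z)) := by
    conv_rhs => rw [← hY, mul_assoc, hinv, mul_one]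
  have h2 : sl j (𝕘.ue v (-(c • z))) * Y = Y * sl j (𝕘.ue v (-(c • z))) := by
    conv_lhs => rw [← hY, ← mul_assoc, ← mul_assoc, hinv, one_mul]
  have hN : sl j (𝕘.N v z) * Y = Y * sl j (𝕘.N v z) := by
    have h3 : sl j (𝕘.N v (c • z)) * Y = Y * sl j (𝕘.N v (c • z)) := by
      rw [← log_ue, smul_mul_assoc, mul_smul_comm, sub_mul, mul_sub, h1, h2]
    rw [N_smul, sl_smul, smul_mul_assoc, mul_smul_comm] at h3
    exact smul_right_injective (Mat F k t) hc h3
  have hτ : sl j (𝕘.tau v v) * Y = Y * sl j (𝕘.tau v v) := by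
    refine smul_right_injective (Mat F k t) (neg_ne_zero.2 hzn) ?_
    show -𝕘.β z z • (sl j (𝕘.tau v v) * Y) = -𝕘.β z z • (Y * sl j (𝕘.tau v v))
    rw [← smul_mul_assoc, ← mul_smul_comm, ← sl_smul, ← N_mul_N 𝕘 hv hz hz, ← sl_mul, mul_assoc, hN, ← mul_assoc, hN,
      mul_assoc]
  refine ⟨fun s hs => ?_, hτ⟩
  have hsn : 𝕘.β v (-(s • z)) = 0 := by rw [β_neg_right, hs, neg_zero]
  have h4 : sl j (𝕘.ue v (s • z)) * Y = Y * sl j (𝕘.ue v (s • z)) := by
    rw [ue, N_smul, sl_sub, sl_add, sl_one, sl_smul, sl_smul, sub_mul, mul_sub, add_mul, mul_add, one_mul, mul_one,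
      smul_mul_assoc, mul_smul_comm, hN, smul_mul_assoc, mul_smul_comm, hτ]
  rw [adU, ad, ueU_val, ueU_inv, h4, mul_assoc, sl_mul, ue_mul 𝕘 hv hs hsn, add_neg_cancel, ue_zero, sl_one, mul_one]

/-- The two lines of the root part. -/
theorem tau_comm_parts [NeZero k] (h : 𝕘.Hyp v v') {Y : Mat F k t}
    (hY : sl j (𝕘.tau v v) * Y = Y * sl j (𝕘.tau v v)) :
    (∀ w, 𝕘.β v w = 0 → 𝕘.ct j v w Y = 0 ∧ 𝕘.ct j w v Y = 0) ∧
      sl j (𝕘.tau v v) * Y = sl j (𝕘.tau v v) * 𝕘.ct j v v' Y := by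
  have e : ∀ p q, 𝕘.β v p • 𝕘.ct j v q Y = 𝕘.β v q • 𝕘.ct j p v Y := fun p q => by
    have h1 := congrArg (𝕘.ct j p q) hY
    rwa [ct_sl_left, ct_sl_right, adjD_tau, tau_mulVec, tau_mulVec, ct_smul_left, ct_smul_right] at h1
  have hw : ∀ w, 𝕘.β v w = 0 → 𝕘.ct j v w Y = 0 ∧ 𝕘.ct j w v Y = 0 := fun w hw => by
    have h1 := e v' w
    have h2 := e w v'
    rw [h.vw, one_smul, hw, zero_smul] at h1 h2
    exact ⟨h1, h2.symm⟩
  refine ⟨hw, 𝕘.ext_ct j fun p q => ?_⟩
  rw [ct_sl_left, adjD_tau, tau_mulVec, ct_smul_left, 𝕘.ct_sl_mul (𝕘.ct_off _ _ _ _), tau_mulVec, β_smul_right]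
  have eq1 : 𝕘.ct j v q Y = 𝕘.β v q • 𝕘.ct j v v' Y := by
    conv_lhs => rw [show q = 𝕘.β v q • v' + (q - 𝕘.β v q • v') from (add_sub_cancel _ _).symm]
    rw [ct_add_right, ct_smul_right, (hw (q - 𝕘.β v q • v') (by rw [β_sub_right, β_smul_right, h.vw, mul_one, sub_self])).1, add_zero]
  rw [eq1, smul_smul, 𝕘.β_comm v p, mul_comm]

/-- The sum over one line of three elements. -/
theorem three_mem [Fintype F] [NeZero k] (h : 𝕘.Hyp v v') (h3 : Nat.card F = 3) {e : Fin k → F} (he : 𝕘.β v e = 0)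
    {Y : Mat F k t} (hY : sl j (𝕘.tau v v) * Y = Y * sl j (𝕘.tau v v)) :
    ∑ s : F, 𝕘.adU j h.vv (z := s • e) (by rw [β_smul_right, he, mul_zero]) Y ∈ 𝕘.WS j v v' := by
  have h30 : (3 : F) = 0 := by
    have := FiniteField.cast_card_eq_zero (K := F)
    rw [← Nat.card_eq_fintype_card, h3] at this
    exact_mod_cast this
  have e3 : ∀ W : Mat F k t, (3 : F) • W = 0 := fun W => by rw [h30, zero_smul]
  have hsum : ∑ s : F, 𝕘.adU j h.vv (z := s • e) (by rw [β_smul_right, he, mul_zero]) Y =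
      -(𝕘.coef2 j v e Y + 𝕘.coef4 j v e Y) := by
    rw [sum_three 𝕘.two h3]
    simp only [adU, 𝕘.ad_ue j h.vv he]
    linear_combination (norm := module) e3 Y + e3 (𝕘.coef2 j v e Y + 𝕘.coef4 j v e Y)
  rw [hsum]
  refine Submodule.neg_mem _ (Submodule.add_mem _ ?_ (coef4_mem h e Y))
  obtain ⟨hw, hτY⟩ := tau_comm_parts h hY
  rw [coef2]
  refine Submodule.sub_mem _ (Submodule.sub_mem _ (Submodule.smul_mem _ _ ?_) (Submodule.smul_mem _ _ ?_)) ?_
  · rw [hτY]; exact mem_WS h (𝕘.ct_off _ _ _ _)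
  · rw [← hY, hτY]; exact mem_WS h (𝕘.ct_off _ _ _ _)
  · rw [show sl j (𝕘.N v e) * Y * sl j (𝕘.N v e) = sl j (𝕘.tau v v) * ((-1 : F) • 𝕘.ct j e e Y) from
      𝕘.ext_ct j fun p q => by
        rw [ct_sl_right, ct_sl_left, adjD_N, neg_mulVec, N_mulVec, N_mulVec,
          𝕘.ct_sl_mul ((𝕘.ct_off _ _ _ _).smul _), tau_mulVec, β_smul_right, ← neg_one_smul F (_ - _), ct_smul_left]
        simp only [sub_eq_add_neg, ← neg_smul, ct_add_left, ct_add_right, ct_smul_left, ct_smul_right, (hw v h.vv).1,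
          (hw e he).1, (hw e he).2, smul_zero, add_zero, zero_add, smul_smul]
        rw [𝕘.β_comm v p]
        module]
    exact mem_WS h ((𝕘.ct_off _ _ _ _).smul _)

/-- Over more than three elements: the sum over a moved orbit of a line. -/
theorem line_mem [Fintype F] [NeZero k] {X : Type*} [DecidableEq X] {a : F → X → X} (ha : IsAct a)
    (h : 𝕘.Hyp v v') (hz : 𝕘.InU v v' z) (hzn : 𝕘.β z z ≠ 0) (h3 : 3 < Nat.card F) {f : X → Mat F k t}
    (hf : ∀ s x, f (a s x) = 𝕘.adU j h.vv (𝕘.inU_smul hz s).1 (f x)) {x : X} (hx : ¬ Fixed a x) :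
    ∑ q ∈ orb a x, f q ∈ 𝕘.WS j v v' := by
  set p := ringChar F
  obtain ⟨n, hn1, hn2⟩ := FiniteField.card F p
  by_cases hfree : ∀ d, a d x = x → d = 0
  · rw [sum_orb_free ha hfree, Finset.sum_congr rfl fun s _ => hf s x]
    have h5 := five_le_card 𝕘.two h3
    simp only [adU, 𝕘.ad_ue j h.vv hz.1, Finset.sum_add_distrib, ← Finset.sum_smul, Finset.sum_const,
      Finset.card_univ, ← Nat.cast_smul_eq_nsmul F, FiniteField.cast_card_eq_zero,
      FiniteField.sum_pow_lt_card_sub_one F 2 (by omega), FiniteField.sum_pow_lt_card_sub_one F 3 (by omega),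
      show ∑ s : F, s = 0 by simpa using FiniteField.sum_pow_lt_card_sub_one F 1 (by omega), zero_smul, zero_add]
    exact Submodule.smul_mem _ _ (coef4_mem h z _)
  · push Not at hfree
    obtain ⟨c, hc, hc0⟩ := hfree
    have hY := hf c x
    rw [hc] at hY
    obtain ⟨hall, -⟩ := fixed_line h.vv hz.1 hzn hc0 _ hY.symm
    rw [sum_orb_const (F := F) ha (p := p) hn1 hn2 hx fun d => by rw [hf, hall]]
    exact Submodule.zero_mem _

/-- Over more than three elements: a quadratic on a moved orbit sums to zero. -/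
theorem line_zero [Fintype F] (h2 : (2 : F) ≠ 0) (h3 : 3 < Nat.card F) {X E : Type*} [DecidableEq X] [AddCommGroup E]
    [Module F E] {a : F → X → X} (ha : IsAct a) {f : X → E} {x : X} (hx : ¬ Fixed a x) {A B C : E}
    (hf : ∀ s, f (a s x) = A + s • B + s ^ 2 • C) : ∑ q ∈ orb a x, f q = 0 := by
  obtain ⟨n, hn1, hn2⟩ := FiniteField.card F (ringChar F)
  by_cases hfree : ∀ d, a d x = x → d = 0
  · rw [sum_orb_free ha hfree, Finset.sum_congr rfl fun s _ => hf s, sum_poly_two h2 h3]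
  · push Not at hfree
    obtain ⟨c, hc, hc0⟩ := hfree
    have e : ∀ s : F, A + (s + c) • B + (s + c) ^ 2 • C = A + s • B + s ^ 2 • C := fun s => by
      rw [← hf, ← hf, ha.add, hc]
    have hC : C = 0 := by
      have : (2 * c) • C = 0 := by linear_combination (norm := module) e 1 - e 0
      exact (smul_eq_zero.1 this).resolve_left (mul_ne_zero h2 hc0)
    have hB : B = 0 := by
      have := e 0
      rw [hC] at this
      simp only [smul_zero, zero_add, zero_smul, add_zero] at this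
      exact (smul_eq_zero.1 (add_eq_left.1 this)).resolve_left hc0
    refine sum_orb_const (F := F) ha hn1 hn2 hx fun d => ?_
    conv_rhs => rw [← ha.zero x, hf]
    rw [hf, hB, hC]
    simp

/-- Over three elements: the sum over a moved orbit of a plane. -/
theorem plane_mem [Fintype F] [NeZero k] {X : Type*} [DecidableEq X] {a : F × F → X → X} (ha : IsAct a)
    (h : 𝕘.Hyp v v') (hz : 𝕘.InU v v' z) (hy : 𝕘.InU v v' y) (hzn : 𝕘.β z z ≠ 0) (hzy : 𝕘.β z y = 0)
    (hn : 𝕘.β y y = 𝕘.β z z) (h3 : Nat.card F = 3) {f : X → Mat F k t}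
    (hf : ∀ d x, f (a d x) = 𝕘.adU j h.vv (𝕘.inU_add (𝕘.inU_smul hz d.1) (𝕘.inU_smul hy d.2)).1 (f x))
    {x : X} (hx : ¬ Fixed a x) : ∑ q ∈ orb a x, f q ∈ 𝕘.WS j v v' := by
  by_cases hfree : ∀ d, a d x = x → d = 0
  · rw [sum_orb_free ha hfree, Fintype.sum_prod_type]
    set Y := ∑ s : F, 𝕘.adU j h.vv (𝕘.inU_smul hy s).1 (f x) with hYdef
    have hYτ : sl j (𝕘.tau v v) * Y = Y * sl j (𝕘.tau v v) := by
      have e3 : ∀ W : Mat F k t, (3 : F) • W = 0 := fun W => by
        have h30 : (3 : F) = 0 := by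
          have := FiniteField.cast_card_eq_zero (K := F)
          rw [← Nat.card_eq_fintype_card, h3] at this
          exact_mod_cast this
        rw [h30, zero_smul]
      have hY : Y = -(𝕘.coef2 j v y (f x) + 𝕘.coef4 j v y (f x)) := by
        rw [hYdef, sum_three 𝕘.two h3]
        simp only [adU, 𝕘.ad_ue j h.vv hy.1]
        linear_combination (norm := module) e3 (f x) + e3 (𝕘.coef2 j v y (f x) + 𝕘.coef4 j v y (f x))
      have t1 : (sl j (𝕘.tau v v) : Mat F k t) * sl j (𝕘.tau v v) = 0 := by rw [sl_mul, 𝕘.tau_sq h.vv, sl_zero]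
      have t2 : (sl j (𝕘.tau v v) : Mat F k t) * sl j (𝕘.N v y) = 0 := by
        rw [sl_mul, 𝕘.tau_mul_N h.vv hy.1, sl_zero]
      have t3 : (sl j (𝕘.N v y) : Mat F k t) * sl j (𝕘.tau v v) = 0 := by
        rw [sl_mul, 𝕘.N_mul_tau h.vv hy.1, sl_zero]
      rw [hY]
      simp only [coef2, coef4, mul_neg, neg_mul, mul_add, add_mul, mul_sub, sub_mul, mul_smul_comm, smul_mul_assoc,
        mul_assoc, t1, t3, mul_zero, smul_zero]
      simp only [← mul_assoc, t1, t2, zero_mul, smul_zero, sub_zero, zero_sub, add_zero, neg_smul, neg_neg]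
    have e : ∀ p : F, ∑ r : F, f (a (p, r) x) = 𝕘.adU j h.vv (𝕘.inU_smul hz p).1 Y := fun p => by
      rw [hYdef, adU, ad_sum]
      refine Finset.sum_congr rfl fun r _ => ?_
      rw [hf, adU, adU, ← ad_mul]
      congr 1
      refine Units.ext ?_
      rw [Units.val_mul, ueU_val, ueU_val, ueU_val, ue_mul 𝕘 h.vv (𝕘.inU_smul hz p).1 (𝕘.inU_smul hy r).1]
    rw [Finset.sum_congr rfl fun p _ => e p]
    exact three_mem h h3 hz.1 hYτ
  · push Not at hfree
    obtain ⟨d, hd, hd0⟩ := hfree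
    set w := d.1 • z + d.2 • y with hw
    have hwU : 𝕘.InU v v' w := 𝕘.inU_add (𝕘.inU_smul hz d.1) (𝕘.inU_smul hy d.2)
    have hwn : 𝕘.β w w ≠ 0 := by
      have e : 𝕘.β w w = (d.1 * d.1 + d.2 * d.2) * 𝕘.β z z := by
        simp only [hw, β_add_left, β_add_right, β_smul_left, β_smul_right, hzy, 𝕘.β_comm z y, hn]; ring
      rw [e]
      refine mul_ne_zero ?_ hzn
      obtain ⟨d1, d2⟩ := d
      simp only [ne_eq, Prod.mk_eq_zero, not_and] at hd0 ⊢
      rcases three_cases 𝕘.two h3 d1 with rfl | rfl | rfl <;> rcases three_cases 𝕘.two h3 d2 with rfl | rfl | rfl <;>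
        simp_all [one_add_one_eq_two, 𝕘.two]
    have hY : f x = 𝕘.adU j h.vv (𝕘.inU_smul hwU 1).1 (f x) := by
      conv_lhs => rw [← hd, hf]
      rw [adU, adU]
      congr 1
      exact Units.ext (by rw [ueU_val, ueU_val, hw, one_smul])
    obtain ⟨-, hτ⟩ := fixed_line h.vv hwU.1 hwn one_ne_zero _ hY.symm
    have hmul : ∀ (c : F) (q : X), a d q = q → a (c • d) q = q := fun c q hq => by
      rcases three_cases 𝕘.two h3 c with rfl | rfl | rfl
      · rw [zero_smul]; exact ha.zero q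
      · rw [one_smul]; exact hq
      · rw [neg_one_smul]; conv_lhs => rw [← hq, ← ha.add, neg_add_cancel, ha.zero]
    have key : ∀ (e : F × F) (u : Fin k → F) (hu : 𝕘.InU v v' u), e.1 • z + e.2 • y = u → a e x ≠ x →
        (∀ d' : F × F, ∃ c s : F, d' = c • d + s • e) → ∑ q ∈ orb a x, f q ∈ 𝕘.WS j v v' := by
      intro e u hu heu hex hspan
      have hfree' : ∀ s : F, a (s • e) x = x → s = 0 := fun s hs => by
        by_contra hs0
        refine hex ?_
        rcases three_cases 𝕘.two h3 s with rfl | rfl | rfl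
        · exact absurd rfl hs0
        · rwa [one_smul] at hs
        · rw [neg_one_smul] at hs
          conv_lhs => rw [← hs, ← ha.add, add_neg_cancel, ha.zero]
      have horb : orb a x = univ.image fun s : F => a (s • e) x := by
        ext q
        simp only [orb, mem_image, mem_univ, true_and]
        constructor
        · rintro ⟨d', rfl⟩
          obtain ⟨c, s, rfl⟩ := hspan d'
          exact ⟨s, by rw [add_comm, ha.add, hmul c x hd]⟩
        · rintro ⟨s, rfl⟩; exact ⟨_, rfl⟩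
      rw [horb, Finset.sum_image fun s _ r _ hsr => ?_]
      · rw [Finset.sum_congr rfl fun s _ => hf (s • e) x]
        convert three_mem h h3 hu.1 hτ using 2 with s
        unfold adU
        congr 1
        refine Units.ext ?_
        rw [ueU_val, ueU_val, ← heu, smul_add, smul_smul, smul_smul]
        rfl
      · have : a ((s - r) • e) x = x := by
          rw [sub_smul, sub_eq_neg_add, ha.add, show a (s • e) x = a (r • e) x from hsr, ← ha.add, neg_add_cancel,
            ha.zero]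
        exact sub_eq_zero.1 (hfree' _ this)
    have hnot : a (1, 0) x ≠ x ∨ a (0, 1) x ≠ x := by
      by_contra hh
      push Not at hh
      refine hx fun d' => ?_
      have hm : ∀ (c : F) (e : F × F), a e x = x → a (c • e) x = x := fun c e he => by
        rcases three_cases 𝕘.two h3 c with rfl | rfl | rfl
        · rw [zero_smul]; exact ha.zero x
        · rw [one_smul]; exact he
        · rw [neg_one_smul]; conv_lhs => rw [← he, ← ha.add, neg_add_cancel, ha.zero]
      rw [show d' = d'.1 • ((1 : F), (0 : F)) + d'.2 • ((0 : F), (1 : F)) by ext <;> simp, ha.add, hm _ _ hh.2,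
        hm _ _ hh.1]
    rcases hnot with h10 | h01
    · refine key (1, 0) z hz (by simp) h10 fun d' => ?_
      have hd2 : d.2 ≠ 0 := fun e => by
        obtain ⟨d1, d2⟩ := d
        simp only at e
        subst e
        have hd1 : d1 ≠ 0 := fun e1 => hd0 (by rw [e1]; rfl)
        apply h10
        have := hmul d1⁻¹ x hd
        simpa [hd1] using this
      refine ⟨d'.2 / d.2, d'.1 - d'.2 / d.2 * d.1, ?_⟩
      ext <;> simp [hd2]
    · refine key (0, 1) y hy (by simp) h01 fun d' => ?_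
      have hd1 : d.1 ≠ 0 := fun e => by
        obtain ⟨d1, d2⟩ := d
        simp only at e
        subst e
        have hd2 : d2 ≠ 0 := fun e1 => hd0 (by rw [e1]; rfl)
        apply h01
        have := hmul d2⁻¹ x hd
        simpa [hd2] using this
      refine ⟨d'.1 / d.1, d'.2 - d'.1 / d.1 * d.2, ?_⟩
      ext <;> simp [hd1]

end Gram

end Cfsg.Agent.H24.OWr
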