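import Cfsg.Agent.H24.OWr.Extract

/-!
Elements acting trivially on `v ⊗ R` and on `(v⊥ / v) ⊗ R`; in a group without roots they commute.
-/

set_option autoImplicit false

namespace Cfsg.Agent.H24.OWr

open Matrix Finset
open Cfsg.Agent.Aschbacher (pureMat slotMat pureGL)
open Cfsg.Agent.H24.Wreath (Mat sl Off off_one off_sl sl_mul sl_one sl_add sl_smul sl_zero sl_neg sl_sub
  eq_sl_of_off eq_smul_one_of_off off_pureMat)

variable {F : Type*} [Field F] {k t : ℕ}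

namespace Gram

variable (𝕘 : Gram F k) {v v' : Fin k → F} {l : Fin t}

/-- The radical part. -/
def RadZ (l : Fin t) (v : Fin k → F) (Z : Mat F k t) : Prop :=
  (∀ x, 𝕘.ct l x v Z = 0) ∧ (∀ x, 𝕘.ct l v x Z = 0) ∧
    ∀ x y, 𝕘.β v x = 0 → 𝕘.β v y = 0 → 𝕘.ct l x y Z = 0

theorem RadZ.of_iso [NeZero k] {𝕘 : Gram F k} {g : (Mat F k t)ˣ} (hg : 𝕘.Iso (g : Mat F k t))
    (h1 : ∀ x, 𝕘.ct l x v ((g : Mat F k t) - 1) = 0)
    (h3 : ∀ x y, 𝕘.β v x = 0 → 𝕘.β v y = 0 → 𝕘.ct l x y ((g : Mat F k t) - 1) = 0) :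
    𝕘.RadZ l v ((g : Mat F k t) - 1) := by
  refine ⟨h1, fun x => ?_, h3⟩
  rcases eq_or_ne v 0 with rfl | hv
  · exact 𝕘.ct_zero_left _ _ _
  obtain ⟨a, ha⟩ := 𝕘.exists_one hv
  set T : Mat F k t := sl l (𝕘.tau v a)
  have hT : ((g : Mat F k t) - 1) * T = 0 := 𝕘.ext_ct l fun p q => by
    rw [ct_sl_right, tau_mulVec, ct_smul_right, h1, smul_zero, ct_zero]
  have hT' : (((g⁻¹ : (Mat F k t)ˣ) : Mat F k t) - 1) * T = 0 := by
    calc (((g⁻¹ : (Mat F k t)ˣ) : Mat F k t) - 1) * T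
        = -(((g⁻¹ : (Mat F k t)ˣ) : Mat F k t) * (((g : Mat F k t) - 1) * T)) := by
          rw [← mul_assoc, mul_sub, g.inv_mul, mul_one, ← neg_mul, neg_sub]
      _ = 0 := by rw [hT, mul_zero, neg_zero]
  have h2 := congrArg (𝕘.ct l x v) hT'
  rw [ct_sl_right, tau_mulVec, 𝕘.β_comm v a, ha, one_smul, ct_zero, ← 𝕘.adj_inv hg, ← 𝕘.adj_one (t := t),
    ← adj_sub] at h2
  have h3 := congrArg 𝕘.adj h2
  rwa [adj_ct, adj_adj, adj_zero] at h3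

theorem RadZ.prod [NeZero k] {𝕘 : Gram F k} (h : 𝕘.Hyp v v') {A B : Mat F k t} (hA : 𝕘.RadZ l v A)
    (hB : 𝕘.RadZ l v B) : (∀ x y, 𝕘.β v x = 0 → 𝕘.ct l x y (A * B) = 0) ∧
      ∀ x y, 𝕘.β v y = 0 → 𝕘.ct l x y (A * B) = 0 := by
  set P : Matrix (Fin k) (Fin k) F := 1 - 𝕘.tau v v' - 𝕘.tau v' v with hP
  have hPv : ∀ q, 𝕘.β v (P *ᵥ q) = 0 := fun q => by
    rw [hP, sub_mulVec, sub_mulVec, one_mulVec, tau_mulVec, tau_mulVec]
    simp [β_sub_right, β_smul_right, h.vv, h.vw]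
  have hA1 : A * sl l (𝕘.tau v v') = 0 := 𝕘.ext_ct l fun p q => by
    rw [ct_sl_right, tau_mulVec, ct_smul_right, hA.1, smul_zero, ct_zero]
  have hB1 : sl l (𝕘.tau v' v) * B = 0 := 𝕘.ext_ct l fun p q => by
    rw [ct_sl_left, adjD_tau, tau_mulVec, ct_smul_left, hB.2.1, smul_zero, ct_zero]
  have e : A * B = A * sl l P * B := by
    rw [hP, sl_sub, sl_sub, sl_one, mul_sub, mul_sub, mul_one, hA1, sub_zero, sub_mul, mul_assoc A _ B, hB1,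
      mul_zero, sub_zero]
  have hadjP : 𝕘.adjD P = P := 𝕘.adjD_eq fun a b => by
    simp only [hP, sub_mulVec, one_mulVec, tau_mulVec, β_sub_left, β_sub_right, β_smul_left, β_smul_right,
      𝕘.β_comm v a, 𝕘.β_comm v' a]
    ring
  constructor
  · intro x y hx
    rcases eq_or_ne x 0 with rfl | hx0
    · exact 𝕘.ct_zero_left _ _ _
    obtain ⟨a, ha⟩ := 𝕘.exists_one hx0
    have h0 : sl l (𝕘.tau a x) * (A * sl l P) = 0 := 𝕘.ext_ct l fun p q => by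
      rw [ct_sl_left, adjD_tau, tau_mulVec, ct_smul_left, ct_sl_right, hA.2.2 x _ hx (hPv q), smul_zero, ct_zero]
    obtain ⟨p, hp⟩ := 𝕘.exists_one (x := a) (fun e => by rw [e, β_zero_right] at ha; exact zero_ne_one ha)
    have := 𝕘.ct_sl_left l (𝕘.tau a x) p y (A * B)
    rw [adjD_tau, tau_mulVec, hp, one_smul, e, ← mul_assoc, h0, zero_mul, ct_zero, ← e] at this
    exact this.symm
  · intro x y hy
    rcases eq_or_ne y 0 with rfl | hy0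
    · exact 𝕘.ct_zero_right _ _ _
    obtain ⟨a, ha⟩ := 𝕘.exists_one hy0
    have h0 : sl l P * B * sl l (𝕘.tau y a) = 0 := 𝕘.ext_ct l fun p q => by
      rw [ct_sl_right, tau_mulVec, ct_smul_right, ct_sl_left, hadjP, hB.2.2 _ y (hPv p) hy, smul_zero, ct_zero]
    have := 𝕘.ct_sl_right l (𝕘.tau y a) x y (A * B)
    rw [tau_mulVec, 𝕘.β_comm y a, ha, one_smul, e, mul_assoc A, mul_assoc A, h0, mul_zero, ct_zero] at this
    rw [e, mul_assoc A]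
    exact this.symm

theorem RadZ.mul_ct [NeZero k] {𝕘 : Gram F k} (h : 𝕘.Hyp v v') {A B : Mat F k t} (hA : 𝕘.RadZ l v A)
    (hB : 𝕘.RadZ l v B) : 𝕘.RadZ l v (A + B + A * B) ∧
      ∀ x, 𝕘.β v x = 0 → 𝕘.ct l x v' (A + B + A * B) = 𝕘.ct l x v' A + 𝕘.ct l x v' B := by
  obtain ⟨hl, hr⟩ := hA.prod h hB
  refine ⟨⟨fun x => ?_, fun x => ?_, fun x y hx hy => ?_⟩, fun x hx => ?_⟩
  · rw [ct_add, ct_add, hA.1, hB.1, hr x v h.vv, add_zero, add_zero]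
  · rw [ct_add, ct_add, hA.2.1, hB.2.1, hl v x h.vv, add_zero, add_zero]
  · rw [ct_add, ct_add, hA.2.2 x y hx hy, hB.2.2 x y hx hy, hl x y hx, add_zero, add_zero]
  · rw [ct_add, ct_add, hl x v' hx, add_zero]

/-- The elements of the group in the radical. -/
def IsRad (H : Subgroup (Mat F k t)ˣ) (l : Fin t) (v : Fin k → F) (r : (Mat F k t)ˣ) : Prop :=
  r ∈ H ∧ 𝕘.RadZ l v ((r : Mat F k t) - 1)

variable {H : Subgroup (Mat F k t)ˣ}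

theorem IsRad.mul [NeZero k] {𝕘 : Gram F k} (h : 𝕘.Hyp v v') {r r' : (Mat F k t)ˣ} (hr : 𝕘.IsRad H l v r)
    (hr' : 𝕘.IsRad H l v r') : 𝕘.IsRad H l v (r * r') ∧ ∀ x, 𝕘.β v x = 0 →
      𝕘.ct l x v' (((r * r' : (Mat F k t)ˣ) : Mat F k t) - 1) =
        𝕘.ct l x v' ((r : Mat F k t) - 1) + 𝕘.ct l x v' ((r' : Mat F k t) - 1) := by
  have e : ((r * r' : (Mat F k t)ˣ) : Mat F k t) - 1 =
      ((r : Mat F k t) - 1) + ((r' : Mat F k t) - 1) + ((r : Mat F k t) - 1) * ((r' : Mat F k t) - 1) := by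
    rw [Units.val_mul, mul_sub, sub_mul, mul_one, one_mul]; abel
  obtain ⟨h1, h2⟩ := hr.2.mul_ct h hr'.2
  exact ⟨⟨H.mul_mem hr.1 hr'.1, by rw [e]; exact h1⟩, fun x hx => by rw [e]; exact h2 x hx⟩

theorem IsRad.one : 𝕘.IsRad H l v 1 := by
  refine ⟨H.one_mem, ?_⟩
  rw [Units.val_one, sub_self]
  exact ⟨fun x => 𝕘.ct_zero _ _ _, fun x => 𝕘.ct_zero _ _ _, fun x y _ _ => 𝕘.ct_zero _ _ _⟩

theorem IsRad.inv [NeZero k] {𝕘 : Gram F k} (hiso : ∀ g ∈ H, 𝕘.Iso (g : Mat F k t))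
    {r : (Mat F k t)ˣ} (hr : 𝕘.IsRad H l v r) : 𝕘.IsRad H l v r⁻¹ := by
  have e : ((r⁻¹ : (Mat F k t)ˣ) : Mat F k t) - 1 = 𝕘.adj ((r : Mat F k t) - 1) := by
    rw [adj_sub, adj_one, 𝕘.adj_inv (hiso r hr.1)]
  refine ⟨H.inv_mem hr.1, ?_⟩
  rw [e]
  refine ⟨fun x => ?_, fun x => ?_, fun x y hx hy => ?_⟩ <;> rw [← adj_ct]
  · rw [hr.2.2.1, adj_zero]
  · rw [hr.2.1, adj_zero]
  · rw [hr.2.2.2 y x hy hx, adj_zero]

/-- Two radical elements commute. -/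
theorem IsRad.comm [NeZero k] {𝕘 : Gram F k} (h : 𝕘.Hyp v v') (hno : 𝕘.NoRoot H) {r r' : (Mat F k t)ˣ} (hr : 𝕘.IsRad H l v r) (hr' : 𝕘.IsRad H l v r') :
    ((r : Mat F k t) - 1) * ((r' : Mat F k t) - 1) = ((r' : Mat F k t) - 1) * ((r : Mat F k t) - 1) := by
  set A := (r : Mat F k t) - 1 with hA
  set B := (r' : Mat F k t) - 1 with hB
  set K := 𝕘.ct l v' v' (A * B - B * A) with hK
  obtain ⟨hl, hr0⟩ := hr.2.prod h hr'.2
  obtain ⟨hl', hr0'⟩ := hr'.2.prod h hr.2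
  have hD1 : ∀ x y, 𝕘.β v x = 0 ∨ 𝕘.β v y = 0 → 𝕘.ct l x y (A * B - B * A) = 0 := fun x y hxy => by
    rcases hxy with hx | hy
    · rw [ct_sub, hl x y hx, hl' x y hx, sub_zero]
    · rw [ct_sub, hr0 x y hy, hr0' x y hy, sub_zero]
  have hD : A * B - B * A = sl l (𝕘.tau v v) * K := 𝕘.ext_ct l fun x y => by
    rw [hK, 𝕘.ct_sl_mul (𝕘.ct_off _ _ _ _), tau_mulVec, β_smul_right, 𝕘.β_comm v x]
    have ex : x = 𝕘.β v x • v' + (x - 𝕘.β v x • v') := (add_sub_cancel _ _).symm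
    have ey : y = 𝕘.β v y • v' + (y - 𝕘.β v y • v') := (add_sub_cancel _ _).symm
    have px : ∀ a, 𝕘.β v (a - 𝕘.β v a • v') = 0 := fun a => by rw [β_sub_right, β_smul_right, h.vw, mul_one, sub_self]
    conv_lhs => rw [ex, ey, ct_add_left, ct_add_right, ct_add_right, hD1 (x - 𝕘.β v x • v') _ (Or.inl (px x)),
      hD1 (x - 𝕘.β v x • v') _ (Or.inl (px x)), hD1 _ (y - 𝕘.β v y • v') (Or.inr (px y)), add_zero, add_zero,
      add_zero, ct_smul_left, ct_smul_right, smul_smul]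
    rw [mul_comm (𝕘.β v y)]
  suffices hK0 : K = 0 by rw [← sub_eq_zero, hD, hK0, mul_zero]
  refine hno l v h.v_ne h.vv K (𝕘.ct_off _ _ _ _) ⟨r * r' * (r' * r)⁻¹,
    H.mul_mem (H.mul_mem hr.1 hr'.1) (H.inv_mem (H.mul_mem hr'.1 hr.1)), ?_⟩
  obtain ⟨⟨-, hR⟩, -⟩ := hr'.mul h hr
  set u := (r' * r : (Mat F k t)ˣ) with hu
  have hT : sl l (𝕘.tau v v) * ((u⁻¹ : (Mat F k t)ˣ) : Mat F k t) = sl l (𝕘.tau v v) := by
    have h1 : sl l (𝕘.tau v v) * ((u : Mat F k t) - 1) = 0 := 𝕘.ext_ct l fun p q => by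
      rw [ct_sl_left, adjD_tau, tau_mulVec, ct_smul_left, hR.2.1, smul_zero, ct_zero]
    rw [mul_sub, mul_one, sub_eq_zero] at h1
    conv_lhs => rw [← h1, mul_assoc, u.mul_inv, mul_one]
  have e1 : ((r * r' : (Mat F k t)ˣ) : Mat F k t) = (u : Mat F k t) + sl l (𝕘.tau v v) * K := by
    rw [← hD, hu, hA, hB, Units.val_mul, Units.val_mul]
    simp only [mul_sub, sub_mul, mul_one, one_mul]
    abel
  rw [Units.val_mul, e1, add_mul, u.mul_inv, (𝕘.ct_off l v' v' (A * B - B * A)) (𝕘.tau v v), mul_assoc, hT,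
    ← (𝕘.ct_off l v' v' (A * B - B * A)) (𝕘.tau v v)]

end Gram

end Cfsg.Agent.H24.OWr
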