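import Cfsg.Agent.H24.OWr.Cent

/-!
Ranks of slot maps and of sums of commuting nilpotent pieces in different slots.
-/

set_option autoImplicit false
set_option linter.unusedSimpArgs false

namespace Cfsg.Agent.H24.OWr

open Matrix Finset Module
open Cfsg.Agent.Aschbacher (pureMat slotMat)
open Cfsg.Agent.H24.Wreath (Mat sl Off off_one off_sl sl_mul sl_one sl_add sl_smul sl_zero sl_neg sl_sub
  sl_mulVec sl_mul_apply sl_injective)

variable {F : Type*} [Field F] {k t : ℕ}

theorem sl_mulVec_apply (l : Fin t) (X : Matrix (Fin k) (Fin k) F) (w : (Fin t → Fin k) → F)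
    (x : Fin t → Fin k) :
    ((sl l X : Mat F k t) *ᵥ w) x = (X *ᵥ fun p => w (Function.update x l p)) (x l) := by
  exact sl_mul_apply l X (Matrix.of fun y _ => w y) x x

/-- The rank of a slot map. -/
theorem rank_sl (l : Fin t) (X : Matrix (Fin k) (Fin k) F) :
    (sl l X : Mat F k t).rank = k ^ (t - 1) * X.rank := by
  classical
  set e := Equiv.funSplitAt l (Fin k) with he
  set R := LinearMap.range X.mulVecLin with hR
  have hcol : ∀ (x : Fin t → Fin k) (p : Fin k), Function.update x l p = e.symm (p, (e x).2) := fun x p => by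
    funext j
    rcases eq_or_ne j l with rfl | hj <;> simp [he, Equiv.funSplitAt, Equiv.piSplitAt, *]
  let φ : ({j // j ≠ l} → Fin k) → ((Fin t → Fin k) → F) →ₗ[F] (Fin k → F) := fun y =>
    LinearMap.funLeft F F fun p => e.symm (p, y)
  have hmul : ∀ w y, φ y ((sl l X : Mat F k t) *ᵥ w) = X *ᵥ φ y w := fun w y => by
    funext p
    show ((sl l X : Mat F k t) *ᵥ w) (e.symm (p, y)) = _
    rw [sl_mulVec_apply]
    simp only [hcol, Equiv.apply_symm_apply]
    rw [show e.symm (p, y) l = p by simp [he, Equiv.funSplitAt, Equiv.piSplitAt]]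
    rfl
  let ψ : LinearMap.range (sl l X : Mat F k t).mulVecLin →ₗ[F] ({j // j ≠ l} → Fin k) → R :=
    LinearMap.pi fun y => LinearMap.codRestrict R (φ y ∘ₗ Submodule.subtype _) fun w => by
      obtain ⟨u, hu⟩ := w.2
      refine ⟨φ y u, ?_⟩
      show X *ᵥ φ y u = φ y w
      rw [← hu, Matrix.mulVecLin_apply, hmul]
  have hψ : ∀ w y, (ψ w y : Fin k → F) = φ y (w : (Fin t → Fin k) → F) := fun _ _ => rfl
  have hbij : Function.Bijective ψ := by
    refine ⟨fun a b hab => Subtype.ext (funext fun x => ?_), fun f => ?_⟩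
    · have := congrFun ((hψ a (e x).2).symm.trans ((congrArg Subtype.val (congrFun hab _)).trans (hψ b _))) (e x).1
      simpa [φ] using this
    · choose g hg using fun y => (f y).2
      refine ⟨⟨(sl l X : Mat F k t) *ᵥ fun x => g (e x).2 (e x).1, _, rfl⟩, funext fun y => Subtype.ext ?_⟩
      rw [hψ]
      show φ y ((sl l X : Mat F k t) *ᵥ _) = _
      rw [hmul, show φ y (fun x => g (e x).2 (e x).1) = g y by funext p; simp [φ]]
      exact hg y
  rw [Matrix.rank, (LinearEquiv.ofBijective ψ hbij).finrank_eq, Module.finrank_pi_fintype, Finset.sum_const,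
    card_univ, smul_eq_mul, Fintype.card_fun, Fintype.card_fin, Fintype.card_subtype_compl, Fintype.card_fin,
    Fintype.card_subtype_eq]
  rfl

/-- A matrix with the range in that of a product and a further direction has larger rank. -/
theorem rank_mul_lt {ι : Type*} [Fintype ι] [DecidableEq ι] {M P E R : Matrix ι ι F} (h : E * M * P = 0)
    (h' : E * M * R ≠ 0) : (M * P).rank < M.rank := by
  have hle : LinearMap.range (M * P).mulVecLin ≤ LinearMap.range M.mulVecLin := by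
    rintro _ ⟨u, rfl⟩
    exact ⟨P *ᵥ u, by simp [mulVec_mulVec]⟩
  refine Submodule.finrank_lt_finrank_of_lt (lt_of_le_of_ne hle fun heq => h' ?_)
  refine Matrix.ext_iff_mulVec.2 fun u => ?_
  have : M *ᵥ (R *ᵥ u) ∈ LinearMap.range (M * P).mulVecLin := heq ▸ ⟨R *ᵥ u, rfl⟩
  obtain ⟨s, hs⟩ := this
  rw [Matrix.mulVecLin_apply] at hs
  rw [zero_mulVec, ← mulVec_mulVec, ← mulVec_mulVec, ← hs, mulVec_mulVec, ← mul_assoc, h, zero_mulVec]

/-- A generalised inverse fixing a given vector. -/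
theorem exists_ginv (A : Matrix (Fin k) (Fin k) F) :
    ∃ g : Matrix (Fin k) (Fin k) F, A * g * A = A := by
  obtain ⟨s, hs⟩ := LinearMap.exists_rightInverse_of_surjective A.mulVecLin.rangeRestrict
    (LinearMap.range_rangeRestrict _)
  obtain ⟨G, hG⟩ := LinearMap.exists_extend s
  refine ⟨LinearMap.toMatrix' G, Matrix.ext_iff_mulVec.2 fun u => ?_⟩
  rw [← mulVec_mulVec, ← mulVec_mulVec, LinearMap.toMatrix'_mulVec]
  have h1 := LinearMap.congr_fun hG (A.mulVecLin.rangeRestrict u)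
  have h2 := congrArg Subtype.val (LinearMap.congr_fun hs (A.mulVecLin.rangeRestrict u))
  simp only [LinearMap.comp_apply, Submodule.subtype_apply, LinearMap.id_apply] at h1 h2
  simp only [LinearMap.codRestrict_apply, Matrix.mulVecLin_apply] at h1 h2
  rw [h1]
  exact h2

theorem off_pow {l : Fin t} {n : Mat F k t} (hn : Off l n) : ∀ e : ℕ, Off l (n ^ e)
  | 0 => by rw [pow_zero]; exact off_one l
  | e + 1 => by rw [pow_succ]; exact (off_pow hn e).mul hn

namespace Gram

variable (𝕘 : Gram F k)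

theorem exists_ginv_fix (𝕘 : Gram F k) (A : Matrix (Fin k) (Fin k) F) {y : Fin k → F} (hy : A *ᵥ y ≠ 0) :
    ∃ g : Matrix (Fin k) (Fin k) F, A * g * A = A ∧ (g * A) *ᵥ y = y := by
  obtain ⟨g, hg⟩ := exists_ginv A
  obtain ⟨f, hf⟩ := 𝕘.exists_one hy
  have h0 : A *ᵥ (y - g *ᵥ (A *ᵥ y)) = 0 := by
    rw [mulVec_sub, mulVec_mulVec, mulVec_mulVec, hg, sub_self]
  refine ⟨g + 𝕘.tau (y - g *ᵥ (A *ᵥ y)) f, ?_, ?_⟩
  · rw [mul_add, add_mul, hg, mul_tau, h0, tau_zero_left, zero_mul, add_zero]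
  · rw [add_mul, add_mulVec, ← mulVec_mulVec, ← mulVec_mulVec, tau_mulVec, 𝕘.β_comm (A *ᵥ y) f, hf, one_smul,
      add_sub_cancel]

/-- A functional killing a proper subspace. -/
theorem exists_kill (S : Submodule F (Fin k → F)) (hS : finrank F S < k) :
    ∃ y : Fin k → F, y ≠ 0 ∧ ∀ s ∈ S, 𝕘.β y s = 0 := by
  have hne : S ≠ ⊤ := fun e => by
    rw [e, finrank_top, Module.finrank_fintype_fun_eq_card, Fintype.card_fin] at hS
    exact lt_irrefl _ hS
  obtain ⟨φ, hφ, hle⟩ := Submodule.exists_le_ker_of_lt_top S (lt_top_iff_ne_top.2 hne)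
  obtain ⟨g, hg⟩ := 𝕘.unit
  refine ⟨(↑g⁻¹ : Matrix (Fin k) (Fin k) F) *ᵥ fun q => φ (Pi.single q 1), ?_, fun s hs => ?_⟩
  · intro h0
    refine hφ ?_
    have h1 := congrArg (fun w => (g : Matrix (Fin k) (Fin k) F) *ᵥ w) h0
    simp only [mulVec_mulVec, g.mul_inv, one_mulVec, mulVec_zero] at h1
    refine LinearMap.pi_ext' fun q => LinearMap.ext_ring ?_
    simpa using congrFun h1 q
  · rw [β_comm, β, mulVec_mulVec, ← hg, g.mul_inv, one_mulVec]
    have h1 : φ s = 0 := hle hs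
    rw [← h1]
    conv_rhs => rw [← Finset.univ_sum_single s, map_sum]
    refine Finset.sum_congr rfl fun q _ => ?_
    rw [← smul_eq_mul, ← map_smul]
    congr 1
    funext q'
    rcases eq_or_ne q' q with rfl | hq <;> simp [*]

/-- A skew matrix or a unipotent isometry minus one has rank at least two, unless zero. -/
theorem two_le_rank {A : Matrix (Fin k) (Fin k) F} (hA : A ≠ 0)
    (hone : ∀ x y : Fin k → F, x ≠ 0 → y ≠ 0 → A ≠ 𝕘.tau x y) : 2 ≤ A.rank := by
  by_contra hlt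
  push Not at hlt
  obtain ⟨u, hu⟩ : ∃ u, A *ᵥ u ≠ 0 := by
    by_contra hh
    push Not at hh
    exact hA (Matrix.ext_iff_mulVec.2 fun u => by rw [hh, zero_mulVec])
  set x := A *ᵥ u
  have hmem : x ∈ LinearMap.range A.mulVecLin := ⟨u, rfl⟩
  have hspan : LinearMap.range A.mulVecLin = F ∙ x := by
    refine (Submodule.eq_of_le_of_finrank_le ((Submodule.span_singleton_le_iff_mem _ _).2 hmem) ?_).symm
    rw [finrank_span_singleton hu]
    exact Nat.lt_succ_iff.1 hlt
  obtain ⟨f, hf⟩ := 𝕘.exists_one hu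
  set y := 𝕘.adjD A *ᵥ f
  have hA2 : A = 𝕘.tau x y := by
    refine Matrix.ext_iff_mulVec.2 fun w => ?_
    have hw : A *ᵥ w ∈ LinearMap.range A.mulVecLin := ⟨w, rfl⟩
    rw [hspan] at hw
    obtain ⟨c, hc⟩ := Submodule.mem_span_singleton.1 hw
    rw [tau_mulVec, show 𝕘.β y w = 𝕘.β (A *ᵥ w) f by rw [𝕘.β_comm w y, ← β_adjD], ← hc, β_smul_left, hf, mul_one]
  refine hone x y hu (fun h0 => hA ?_) hA2
  rw [hA2, h0, tau_zero_right]

theorem two_le_rank_skew {A : Matrix (Fin k) (Fin k) F} (hA : A ≠ 0)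
    (hs : ∀ x y, 𝕘.β (A *ᵥ x) y = -𝕘.β x (A *ᵥ y)) : 2 ≤ A.rank := by
  refine 𝕘.two_le_rank hA fun x y hx hy e => ?_
  obtain ⟨a, ha⟩ := 𝕘.exists_one hx
  obtain ⟨b, hb⟩ := 𝕘.exists_one hy
  have key : ∀ p q, 𝕘.β y p * 𝕘.β x q + 𝕘.β y q * 𝕘.β x p = 0 := fun p q => by
    have h := hs p q
    rw [e, tau_mulVec, tau_mulVec, β_smul_left, β_smul_right, 𝕘.β_comm x p] at h
    linear_combination h
  have hya : 𝕘.β y a = 0 := by
    have := key a a
    rw [ha, mul_one, ← two_mul, mul_eq_zero] at this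
    exact this.resolve_left 𝕘.two
  have := key a b
  rw [hya, hb, zero_mul, one_mul, zero_add, ha] at this
  exact one_ne_zero this

theorem two_le_rank_unip {Q : Matrix (Fin k) (Fin k) F} (hQ : 𝕘.IsoD Q) (hn : IsNilpotent (Q - 1))
    (hne : Q - 1 ≠ 0) : 2 ≤ (Q - 1).rank := by
  refine 𝕘.two_le_rank hne fun x y hx hy e => ?_
  have hyx : 𝕘.β y x = 0 := by
    obtain ⟨n, hn⟩ := hn
    have hpow : ∀ n, (Q - 1) ^ n *ᵥ x = 𝕘.β y x ^ n • x := fun n => by
      induction n with
      | zero => simp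
      | succ n ih => rw [pow_succ', ← mulVec_mulVec, ih, mulVec_smul, e, tau_mulVec, smul_smul, pow_succ]
    have h1 := hpow n
    rw [hn, zero_mulVec, eq_comm, smul_eq_zero] at h1
    exact eq_zero_of_pow_eq_zero (h1.resolve_right hx)
  have key : ∀ p q, 𝕘.β y p * 𝕘.β x q + 𝕘.β y q * 𝕘.β x p + 𝕘.β y p * 𝕘.β y q * 𝕘.β x x = 0 := fun p q => by
    have h := hQ p q
    rw [show Q = 1 + 𝕘.tau x y by rw [← e, add_sub_cancel], add_mulVec, add_mulVec, one_mulVec, one_mulVec,
      tau_mulVec, tau_mulVec, β_add_left, β_add_right, β_add_right, β_smul_left, β_smul_left, β_smul_right,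
      β_smul_right, 𝕘.β_comm x p] at h
    linear_combination h
  obtain ⟨a, ha⟩ := 𝕘.exists_one hy
  obtain ⟨b, hb⟩ := 𝕘.exists_one hx
  have h1 := key a (b - 𝕘.β y b • a)
  simp only [β_sub_right, β_smul_right, ha, hb] at h1
  have h2 := key a a
  rw [ha] at h2
  have hxx : 𝕘.β x x = -2 * 𝕘.β x a := by linear_combination h2
  have h3 := key x a
  rw [hyx, ha] at h3
  have hxx0 : 𝕘.β x x = 0 := by linear_combination h3
  have hxa : 𝕘.β x a = 0 := by
    have : (2 : F) * 𝕘.β x a = 0 := by linear_combination h2 - hxx0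
    exact (mul_eq_zero.1 this).resolve_left 𝕘.two
  rw [hxa, hxx0] at h1
  exact one_ne_zero (by linear_combination h1)

/-- Two commuting nilpotent pieces in different places give too large a rank. -/
theorem rank_gt [Finite F] (hB : 𝕘.Big) (hk : 4 ≤ k) {l : Fin t} {A Q : Matrix (Fin k) (Fin k) F} {n : Mat F k t}
    (hn : Off l n) (hnil : IsNilpotent n) (hn0 : n ≠ 0) (hQ : IsUnit Q) (hAQ : A * Q = Q * A) (hr : 2 ≤ A.rank)
    (h4 : k = 4 → A * A ≠ 0) : 2 * k ^ (t - 1) < (sl l A + sl l Q * n : Mat F k t).rank := by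
  obtain ⟨g, hgA, y, hy0, hyA, hyQ⟩ : ∃ g, A * g * A = A ∧ ∃ y : Fin k → F,
      (2 < A.rank ∨ y ≠ 0) ∧ (2 < A.rank ∨ ∀ u, 𝕘.β y (A *ᵥ u) = 0) ∧
        (2 < A.rank ∨ ∀ u, 𝕘.β y ((Q * (g * A)) *ᵥ u) = 0) := by
    rcases lt_or_eq_of_le hr with hr | hr
    · obtain ⟨g, hg⟩ := exists_ginv A
      exact ⟨g, hg, 0, Or.inl hr, Or.inl hr, Or.inl hr⟩
    have hdim : ∀ g : Matrix (Fin k) (Fin k) F,
        (k = 4 → ∃ w, w ≠ 0 ∧ w ∈ LinearMap.range A.mulVecLin ∧ w ∈ LinearMap.range (Q * (g * A)).mulVecLin) →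
        finrank F (LinearMap.range A.mulVecLin ⊔ LinearMap.range (Q * (g * A)).mulVecLin :
          Submodule F (Fin k → F)) < k := by
      intro g h4'
      set S1 := LinearMap.range A.mulVecLin
      set S2 := LinearMap.range (Q * (g * A)).mulVecLin
      have h1 : finrank F S1 = 2 := hr.symm
      have h2 : finrank F S2 ≤ 2 := by
        have := Matrix.rank_mul_le_right (Q * g) A
        rw [mul_assoc] at this
        exact this.trans hr.symm.le
      have h3 := Submodule.finrank_sup_add_finrank_inf_eq S1 S2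
      rcases hk.lt_or_eq with hk | hk
      · omega
      obtain ⟨w, hw0, hw1, hw2⟩ := h4' hk.symm
      have : 0 < finrank F (S1 ⊓ S2 : Submodule F (Fin k → F)) :=
        Module.finrank_pos_iff_exists_ne_zero.2 ⟨⟨w, hw1, hw2⟩, fun e => hw0 (congrArg Subtype.val e)⟩
      omega
    suffices ∃ g, A * g * A = A ∧ (k = 4 → ∃ w, w ≠ 0 ∧ w ∈ LinearMap.range A.mulVecLin ∧
        w ∈ LinearMap.range (Q * (g * A)).mulVecLin) by
      obtain ⟨g, hg, h4'⟩ := this
      obtain ⟨y, hy0, hy⟩ := 𝕘.exists_kill _ (hdim g h4')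
      exact ⟨g, hg, y, Or.inr hy0, Or.inr fun u => hy _ (Submodule.mem_sup_left ⟨u, rfl⟩),
        Or.inr fun u => hy _ (Submodule.mem_sup_right ⟨u, rfl⟩)⟩
    by_cases hk4 : k = 4
    · obtain ⟨u, hu⟩ : ∃ u, A *ᵥ (A *ᵥ u) ≠ 0 := by
        by_contra hh
        push Not at hh
        exact h4 hk4 (Matrix.ext_iff_mulVec.2 fun u => by rw [← mulVec_mulVec, hh, zero_mulVec])
      obtain ⟨g, hg, hfix⟩ := 𝕘.exists_ginv_fix A hu
      refine ⟨g, hg, fun _ => ⟨Q *ᵥ (A *ᵥ u), fun e => hu ?_, ⟨Q *ᵥ u, ?_⟩, ⟨A *ᵥ u, ?_⟩⟩⟩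
      · have hinj := Matrix.mulVec_injective_iff_isUnit.2 hQ
        rw [hinj (e.trans (mulVec_zero _).symm), mulVec_zero]
      · rw [Matrix.mulVecLin_apply, mulVec_mulVec, mulVec_mulVec, hAQ]
      · rw [Matrix.mulVecLin_apply, ← mulVec_mulVec _ Q (g * A), hfix]
    · obtain ⟨g, hg⟩ := exists_ginv A
      exact ⟨g, hg, fun e => absurd e hk4⟩
  set P := g * A with hPdef
  have hLAP : g * A * P = P := by rw [hPdef, mul_assoc g A, ← mul_assoc A, hgA]
  have hPr : P.rank = A.rank := le_antisymm (Matrix.rank_mul_le_right _ _) (by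
    conv_lhs => rw [show A = A * P by rw [hPdef, ← mul_assoc, hgA]]
    exact Matrix.rank_mul_le_right _ _)
  set M : Mat F k t := sl l A + sl l Q * n with hM
  -- the restriction to a complement of the kernel keeps the rank
  have hinj : (M * sl l P).rank = (sl l P : Mat F k t).rank := by
    refine le_antisymm (Matrix.rank_mul_le_right _ _) ?_
    have hker : ∀ w, (M * sl l P) *ᵥ w = 0 → (sl l P : Mat F k t) *ᵥ w = 0 := fun w hw => by
      have e : sl l g * (M * sl l P) = sl l P + sl l (g * Q * P) * n := by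
        rw [hM, add_mul, mul_add, sl_mul, sl_mul, ← mul_assoc g, hLAP, mul_assoc (sl l Q) n, ← hn P, ← mul_assoc (sl l Q),
          sl_mul, ← mul_assoc (sl l g), sl_mul, mul_assoc g]
      have step : ∀ e' : ℕ, ∃ X : Mat F k t, (sl l P : Mat F k t) *ᵥ w = (X * (n ^ e')) *ᵥ w ∧
          ∃ Y, X = sl l Y * sl l P := by
        intro e'
        induction e' with
        | zero => exact ⟨sl l P, by rw [pow_zero, mul_one], 1, by rw [sl_one, one_mul]⟩
        | succ e' ih =>
          obtain ⟨X, hX, Y, rfl⟩ := ih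
          refine ⟨-(sl l (Y * g * Q) * sl l P), ?_, -(Y * g * Q), by rw [sl_neg, neg_mul]⟩
          have h0 : (sl l P : Mat F k t) *ᵥ w = (-(sl l (g * Q * P) * n)) *ᵥ w := by
            rw [neg_mulVec, eq_neg_iff_add_eq_zero, ← add_mulVec, ← e, ← mulVec_mulVec, hw, mulVec_zero]
          rw [hX, mul_assoc (sl l Y), (off_pow hn e') P, ← mul_assoc, ← mulVec_mulVec, h0, mulVec_mulVec]
          congr 1
          rw [mul_neg, mul_assoc (sl l Y), ← mul_assoc (n ^ e'), ← (off_pow hn e'), mul_assoc, ← pow_succ,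
            ← mul_assoc (sl l Y), sl_mul, sl_mul, neg_mul]
          congr 2
          simp only [mul_assoc]
      obtain ⟨e', he'⟩ := hnil
      obtain ⟨X, hX, -⟩ := step e'
      rw [hX, he', mul_zero, zero_mulVec]
    have h1 := LinearMap.finrank_range_add_finrank_ker (M * sl l P).mulVecLin
    have h2 := LinearMap.finrank_range_add_finrank_ker (sl l P : Mat F k t).mulVecLin
    have h3 : LinearMap.ker (M * sl l P).mulVecLin ≤ LinearMap.ker (sl l P : Mat F k t).mulVecLin :=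
      fun w hw => hker w hw
    have h4 := Submodule.finrank_mono h3
    simp only [Matrix.rank]
    omega
  rw [rank_sl, hPr] at hinj
  rcases hy0 with hr2 | hy0
  · have h1 := Matrix.rank_mul_le_left M (sl l P)
    rw [hinj] at h1
    have hpos : 0 < k ^ (t - 1) := Nat.pow_pos (by omega)
    nlinarith
  rcases hyA with hr2 | hyA
  · have h1 := Matrix.rank_mul_le_left M (sl l P)
    rw [hinj] at h1
    have hpos : 0 < k ^ (t - 1) := Nat.pow_pos (by omega)
    nlinarith
  rcases hyQ with hr2 | hyQ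
  · have h1 := Matrix.rank_mul_le_left M (sl l P)
    rw [hinj] at h1
    have hpos : 0 < k ^ (t - 1) := Nat.pow_pos (by omega)
    nlinarith
  have hEA : 𝕘.tau y y * A = 0 := Matrix.ext_iff_mulVec.2 fun u => by
    rw [← mulVec_mulVec, tau_mulVec, hyA, zero_smul, zero_mulVec]
  have hEQP : 𝕘.tau y y * (Q * P) = 0 := Matrix.ext_iff_mulVec.2 fun u => by
    rw [← mulVec_mulVec, tau_mulVec, hyQ, zero_smul, zero_mulVec]
  have key : ∀ R : Matrix (Fin k) (Fin k) F, sl l (𝕘.tau y y) * M * sl l R = sl l (𝕘.tau y y * Q * R) * n := fun R => by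
    rw [hM, mul_add, sl_mul, hEA, sl_zero, zero_add, ← mul_assoc, sl_mul, mul_assoc, ← hn R, ← mul_assoc, sl_mul]
  have hlt : (M * sl l P).rank < M.rank := by
    refine rank_mul_lt (E := sl l (𝕘.tau y y)) (R := sl l (1 - P)) ?_ ?_
    · rw [key, mul_assoc _ Q P, hEQP, sl_zero, zero_mul]
    · rw [key, mul_sub, mul_one, mul_assoc _ Q P, hEQP, sub_zero]
      intro h0
      refine hn0 (hn.cancel (fun X => by rw [mul_zero, zero_mul]) (X := 𝕘.tau y y * Q) ?_ (by rw [h0, mul_zero]))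
      intro h1
      obtain ⟨u, hu⟩ := hQ
      apply 𝕘.tau_ne_zero hy0 hy0
      rw [← mul_one (𝕘.tau y y), ← u.mul_inv, ← mul_assoc, hu, h1, zero_mul]
  rw [hinj] at hlt
  calc 2 * k ^ (t - 1) ≤ k ^ (t - 1) * A.rank := by rw [mul_comm]; exact Nat.mul_le_mul_left _ hr
    _ < M.rank := hlt

end Gram

end Cfsg.Agent.H24.OWr
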