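import Cfsg.Agent.H24.OWr.MonoFinal

/-!
Square-zero elements whose multiples give elements of the group; substitutions in a slot.
-/

set_option autoImplicit false
set_option linter.unusedVariables false
set_option linter.unusedSimpArgs false
set_option linter.unusedSectionVars false

namespace Cfsg.Agent.H24.OWr

open Matrix Finset
open Cfsg.Agent.Aschbacher (pureMat slotMat factorPerm)
open Cfsg.Agent.H24.Wreath (Mat sl Off off_one off_sl sl_mul sl_one sl_add sl_smul sl_zero sl_neg sl_sub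
  off_pureMat pureMat_eq_sl_mul)

variable {F : Type*} [Field F] {k t : ℕ}

namespace Gram

/-! ### Roots -/

/-- A square-zero element all whose multiples give elements of the group. -/
def Root (H : Subgroup (Mat F k t)ˣ) (Y : Mat F k t) : Prop :=
  Y * Y = 0 ∧ ∀ c : F, ∃ g ∈ H, (g : Mat F k t) = 1 + c • Y

variable {H : Subgroup (Mat F k t)ˣ} {Y Y' : Mat F k t}

theorem root_zero : Root H (0 : Mat F k t) :=
  ⟨mul_zero _, fun c => ⟨1, H.one_mem, by rw [smul_zero, add_zero, Units.val_one]⟩⟩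

theorem Root.smul (h : Root H Y) (r : F) : Root H (r • Y) :=
  ⟨by rw [smul_mul_smul_comm, h.1, smul_zero], fun c => by
    obtain ⟨g, hg, e⟩ := h.2 (c * r)
    exact ⟨g, hg, by rw [e, smul_smul]⟩⟩

theorem Root.add (h : Root H Y) (h' : Root H Y') (h1 : Y * Y' = 0) (h2 : Y' * Y = 0) : Root H (Y + Y') :=
  ⟨by rw [add_mul, mul_add, mul_add, h.1, h'.1, h1, h2]; simp, fun c => by
    obtain ⟨g, hg, e⟩ := h.2 c
    obtain ⟨g', hg', e'⟩ := h'.2 c
    refine ⟨g * g', H.mul_mem hg hg', ?_⟩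
    rw [Units.val_mul, e, e', mul_add, mul_one, add_mul, one_mul, smul_mul_smul_comm, h1, smul_zero, add_zero,
      smul_add, add_assoc]⟩

theorem Root.conj (h : Root H Y) {x : (Mat F k t)ˣ} (hx : x ∈ H) :
    Root H ((x : Mat F k t) * Y * ((x⁻¹ : (Mat F k t)ˣ) : Mat F k t)) := by
  set X := (x : Mat F k t)
  set X' := ((x⁻¹ : (Mat F k t)ˣ) : Mat F k t)
  refine ⟨?_, fun c => ?_⟩
  · calc X * Y * X' * (X * Y * X') = X * (Y * (X' * X) * Y) * X' := by simp only [mul_assoc]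
      _ = 0 := by rw [show X' * X = 1 from x.inv_mul, mul_one, h.1, mul_zero, zero_mul]
  · obtain ⟨g, hg, e⟩ := h.2 c
    refine ⟨x * g * x⁻¹, H.mul_mem (H.mul_mem hx hg) (H.inv_mem hx), ?_⟩
    rw [Units.val_mul, Units.val_mul, e, mul_add, mul_one, add_mul, mul_smul_comm, smul_mul_assoc]
    rw [show X * X' = 1 from x.mul_inv]

/-- The commutator of two roots. -/
theorem Root.comm (h : Root H Y) (h' : Root H Y') (h1 : Y * Y' * Y = 0) (h2 : Y' * Y * Y' = 0) :
    Root H (Y * Y' - Y' * Y) := by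
  refine ⟨?_, fun c => ?_⟩
  · have a1 : Y * Y' * (Y * Y') = 0 := by rw [← mul_assoc, h1, zero_mul]
    have a2 : Y * Y' * (Y' * Y) = 0 := by rw [mul_assoc, ← mul_assoc Y', h'.1, zero_mul, mul_zero]
    have a3 : Y' * Y * (Y * Y') = 0 := by rw [mul_assoc, ← mul_assoc Y, h.1, zero_mul, mul_zero]
    have a4 : Y' * Y * (Y' * Y) = 0 := by rw [← mul_assoc, h2, zero_mul]
    rw [mul_sub, sub_mul, sub_mul, a1, a2, a3, a4, sub_zero, sub_zero]
  · obtain ⟨g, hg, e⟩ := h.2 c
    obtain ⟨g', hg', e'⟩ := h'.2 1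
    have i1 : ((g⁻¹ : (Mat F k t)ˣ) : Mat F k t) = 1 - c • Y := by
      refine Units.inv_eq_of_mul_eq_one_right ?_
      rw [e, add_mul, one_mul, mul_sub, mul_one, smul_mul_smul_comm, h.1, smul_zero, sub_zero, sub_add_cancel]
    have i2 : ((g'⁻¹ : (Mat F k t)ˣ) : Mat F k t) = 1 - Y' := by
      refine Units.inv_eq_of_mul_eq_one_right ?_
      rw [e', one_smul, add_mul, one_mul, mul_sub, mul_one, h'.1, sub_zero, sub_add_cancel]
    refine ⟨g * g' * g⁻¹ * g'⁻¹, H.mul_mem (H.mul_mem (H.mul_mem hg hg') (H.inv_mem hg)) (H.inv_mem hg'), ?_⟩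
    rw [Units.val_mul, Units.val_mul, Units.val_mul, e, e', i1, i2, one_smul]
    have b1 : Y * Y' * Y' = 0 := by rw [mul_assoc, h'.1, mul_zero]
    have b2 : Y * Y * Y' = 0 := by rw [h.1, zero_mul]
    have b3 : Y * Y' * Y * Y' = 0 := by rw [h1, zero_mul]
    simp only [mul_sub, sub_mul, mul_add, add_mul, mul_one, one_mul, smul_mul_assoc, mul_smul_comm, smul_smul,
      h.1, h'.1, h1, h2, b1, b2, b3, smul_zero, smul_sub, add_zero, sub_zero, zero_add, zero_sub]
    module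

/-! ### Substitution in a slot -/

variable (𝕘 : Gram F k)

/-- Every space stable under the commutator subgroup containing `X` contains `M`. -/
def Gen (X M : Matrix (Fin k) (Fin k) F) : Prop :=
  ∀ V : Submodule F (Matrix (Fin k) (Fin k) F), (∀ P ∈ 𝕘.Om, ∀ W ∈ V,
    (P : Matrix (Fin k) (Fin k) F) * W * ((P⁻¹ : (Matrix (Fin k) (Fin k) F)ˣ) : Matrix (Fin k) (Fin k) F) ∈ V) →
    X ∈ V → M ∈ V

variable {𝕘}

theorem gen_refl (X : Matrix (Fin k) (Fin k) F) : 𝕘.Gen X X := fun _ _ h => h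

theorem root_pure_conj (hH : 𝕘.Over H) {X : Fin t → Matrix (Fin k) (Fin k) F} (h : Root H (pureMat X : Mat F k t))
    (m : Fin t) {P : (Matrix (Fin k) (Fin k) F)ˣ} (hP : P ∈ 𝕘.Om) :
    Root H (pureMat (Function.update X m
      ((P : Matrix (Fin k) (Fin k) F) * X m * ((P⁻¹ : (Matrix (Fin k) (Fin k) F)ˣ) : Matrix (Fin k) (Fin k) F))) : Mat F k t) := by
  have h1 := h.conj (hH.om m P hP)
  rw [slU_val, slU_inv, pureMat_eq_sl_mul X m, ← mul_assoc, sl_mul, mul_assoc,
    ← (off_pureMat (X := Function.update X m 1) (by rw [Function.update_self])), ← mul_assoc, sl_mul] at h1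
  rw [pureMat_eq_sl_mul (Function.update X m _) m, Function.update_self, Function.update_idem]
  exact h1

/-- The slot of a pure root ranges over a stable space, given another square-zero slot. -/
theorem Root.subst (hH : 𝕘.Over H) {X : Fin t → Matrix (Fin k) (Fin k) F} (h : Root H (pureMat X : Mat F k t))
    {m l : Fin t} (hlm : l ≠ m) (hl : X l * X l = 0) {M : Matrix (Fin k) (Fin k) F} (hM : 𝕘.Gen (X m) M) :
    Root H (pureMat (Function.update X m M) : Mat F k t) := by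
  have hzero : ∀ A B : Matrix (Fin k) (Fin k) F,
      (pureMat (Function.update X m A) : Mat F k t) * pureMat (Function.update X m B) = 0 := fun A B => by
    rw [Aschbacher.pureMat_mul]
    ext a c
    simp only [pureMat, Matrix.of_apply, Matrix.zero_apply]
    refine Finset.prod_eq_zero (mem_univ l) ?_
    rw [Function.update_of_ne hlm, Function.update_of_ne hlm, hl, Matrix.zero_apply]
  have hlin : ∀ (r : F) (A : Matrix (Fin k) (Fin k) F),
      (pureMat (Function.update X m (r • A)) : Mat F k t) = r • pureMat (Function.update X m A) := fun r A => by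
    rw [pureMat_eq_sl_mul (Function.update X m (r • A)) m, pureMat_eq_sl_mul (Function.update X m A) m,
      Function.update_self, Function.update_self, Function.update_idem, Function.update_idem, sl_smul, smul_mul_assoc]
  let V : Submodule F (Matrix (Fin k) (Fin k) F) :=
    { carrier := {A | Root H (pureMat (Function.update X m A) : Mat F k t)}
      add_mem' := fun {A B} hA hB => by
        show Root H _
        rw [pureMat_eq_sl_mul (Function.update X m (A + B)) m, Function.update_self, Function.update_idem, sl_add,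
          add_mul]
        have e : ∀ C, (sl m C * pureMat (Function.update X m 1) : Mat F k t) = pureMat (Function.update X m C) :=
          fun C => by
          rw [pureMat_eq_sl_mul (Function.update X m C) m, Function.update_self, Function.update_idem]
        rw [e, e]
        exact Root.add hA hB (hzero A B) (hzero B A)
      zero_mem' := by
        show Root H _
        rw [← zero_smul F (0 : Matrix (Fin k) (Fin k) F), hlin, zero_smul]
        exact root_zero
      smul_mem' := fun r A hA => by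
        show Root H _
        rw [hlin]
        exact Root.smul hA r }
  refine hM V (fun P hP W hW => ?_) ?_
  · show Root H _
    have h1 := root_pure_conj hH (X := Function.update X m W) hW m hP
    rwa [Function.update_self, Function.update_idem] at h1
  · show Root H _
    rw [Function.update_eq_self]
    exact h

/-- Substitution in several slots. -/
theorem Root.subst_all (hH : 𝕘.Over H) {X X' : Fin t → Matrix (Fin k) (Fin k) F}
    (h : Root H (pureMat X : Mat F k t)) {l : Fin t} (hl : X l * X l = 0) (hXl : X' l = X l)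
    (hgen : ∀ m, m ≠ l → 𝕘.Gen (X m) (X' m)) : Root H (pureMat X' : Mat F k t) := by
  classical
  suffices hs : ∀ s : Finset (Fin t), l ∉ s →
      Root H (pureMat (fun m => if m ∈ s then X' m else X m) : Mat F k t) by
    have h1 := hs (univ.erase l) (notMem_erase l univ)
    convert h1 using 2
    funext m
    rcases eq_or_ne m l with rfl | hm
    · simp [hXl]
    · simp [hm]
  intro s
  induction s using Finset.induction with
  | empty => intro _; simpa using h
  | insert i s hi ih =>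
    intro hl'
    simp only [mem_insert, not_or] at hl'
    have h1 := (ih hl'.2).subst hH (m := i) (l := l) hl'.1 (by simp [hl'.2, hl]) (M := X' i)
      (by simpa [hi] using hgen i (Ne.symm hl'.1))
    convert h1 using 2
    funext m
    rcases eq_or_ne m i with rfl | hm
    · simp
    · simp [hm]

/-- The slots may be permuted by three-cycles. -/
theorem root_cycle (hH : 𝕘.Over H) {X : Fin t → Matrix (Fin k) (Fin k) F} (h : Root H (pureMat X : Mat F k t))
    {π : Equiv.Perm (Fin t)} (hπ : π.IsThreeCycle) : Root H (pureMat (fun m => X (π.symm m)) : Mat F k t) := by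
  obtain ⟨g, hg, e⟩ := hH.cyc π hπ
  have hgi : ((g⁻¹ : (Mat F k t)ˣ) : Mat F k t) = factorPerm π.symm :=
    Units.inv_eq_of_mul_eq_one_right (by rw [e, Aschbacher.factorPerm_mul_factorPerm])
  have h1 := h.conj hg
  rwa [e, hgi, Aschbacher.factorPerm_conj, mul_assoc, Aschbacher.factorPerm_mul_factorPerm, mul_one] at h1

/-! ### The spans of the orbits of the pieces -/

variable {v v' z : Fin k → F}

/-- The map sending `v` to `v` and `v'` to minus itself. -/
theorem h_facts (h : 𝕘.Hyp v v') (hz : 𝕘.InU v v' z) :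
    𝕘.N v v' * 𝕘.tau v v = 𝕘.tau v v ∧ 𝕘.tau v v * 𝕘.N v v' = -𝕘.tau v v ∧
      𝕘.N v v' * 𝕘.N v z - 𝕘.N v z * 𝕘.N v v' = 𝕘.N v z := by
  refine ⟨?_, ?_, ?_⟩
  · simp only [N, sub_mul, tau_mul_tau, h.vv, h.wv, one_smul, zero_smul, sub_zero]
  · simp only [N, mul_sub, tau_mul_tau, h.vv, h.vw, one_smul, zero_smul, zero_sub]
  · simp only [N, mul_sub, sub_mul, tau_mul_tau, h.vv, h.vw, h.wv, hz.1, hz.2, hz.comm.1, hz.comm.2, one_smul,
      zero_smul, sub_zero, zero_sub, neg_sub, sub_neg_eq_add]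
    abel

theorem gen_skew [Finite F] (hB : 𝕘.Big) (h : 𝕘.Hyp v v') (hz : 𝕘.InU v v' z) (hzn : 𝕘.β z z ≠ 0)
    (a b : Fin k → F) : 𝕘.Gen (𝕘.N v z) (𝕘.N a b) := by
  have : NeZero k := ⟨by have := hB.1; omega⟩
  intro V hst hX
  have hcj : ∀ (s p : Fin k → F) (hs : 𝕘.β s s = 0) (hp : 𝕘.β s p = 0) (c d : Fin k → F), 𝕘.N c d ∈ V →
      𝕘.N (𝕘.ue s p *ᵥ c) (𝕘.ue s p *ᵥ d) ∈ V := fun s p hs hp c d hcd => by
    have h1 := hst _ (𝕘.ueU_mem hB hs hp) _ hcd
    rwa [ueU_val, ueU_inv, conj_N 𝕘 (𝕘.ue_iso hs hp) (by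
      rw [ue_mul 𝕘 hs hp (by rw [β_neg_right, hp, neg_zero]), add_neg_cancel, ue_zero])] at h1
  have hwv : ∀ {p : Fin k → F}, 𝕘.InU v v' p → 𝕘.β v' p = 0 := fun hp => hp.2
  have hP' : ∀ r p, 𝕘.InU v v' r → 𝕘.InU v v' p →
      𝕘.ue v' r *ᵥ v = v + (-1 : F) • r + (-(2⁻¹ * 𝕘.β r r)) • v' ∧ 𝕘.ue v' r *ᵥ p = p + 𝕘.β r p • v' := by
    intro r p hr hp
    refine ⟨?_, ?_⟩
    · rw [ue_mulVec, hr.comm.1, h.wv, zero_smul, one_smul, mul_one, add_zero]; module
    · rw [ue_mulVec, hp.2, zero_smul, mul_zero, zero_smul, sub_zero, sub_zero]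
  have hh : 𝕘.N v v' ∈ V := by
    have hzn' : 𝕘.InU v v' ((-1 : F) • z) := 𝕘.inU_smul hz _
    have h1 := hcj v' z h.ww hz.2 v z hX
    have h2 := hcj v' ((-1 : F) • z) h.ww hzn'.2 v z hX
    rw [(hP' z z hz hz).1, (hP' z z hz hz).2] at h1
    rw [(hP' _ z hzn' hz).1, (hP' _ z hzn' hz).2] at h2
    have h3 := Submodule.sub_mem _ h1 h2
    refine (Submodule.smul_mem_iff _ (mul_ne_zero 𝕘.two hzn)).1 ?_
    convert h3 using 1
    simp only [N_add, N_add_left, N_smul_left, N_smul, N_self, β_smul_left, β_smul_right, smul_zero, smul_smul]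
    match_scalars <;> ring_nf
  have hv : ∀ r, 𝕘.InU v v' r → 𝕘.N v r ∈ V := fun r hr => by
    have h1 := hcj v r h.vv hr.1 v v' hh
    have e1 : 𝕘.ue v r *ᵥ v = v := by
      rw [ue_mulVec, hr.comm.1, h.vv, zero_smul, zero_smul, mul_zero, zero_smul, add_zero, sub_zero, sub_zero]
    have e2 : 𝕘.ue v r *ᵥ v' = v' + (-1 : F) • r + (-(2⁻¹ * 𝕘.β r r)) • v := by
      rw [ue_mulVec, hr.comm.2, h.vw, zero_smul, one_smul, mul_one, add_zero]; module
    rw [e1, e2] at h1
    convert Submodule.sub_mem _ hh h1 using 1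
    simp only [N_add, N_smul, N_self, smul_zero]
    module
  have hv' : ∀ r, 𝕘.InU v v' r → 𝕘.N v' r ∈ V := fun r hr => by
    have h1 := hcj v' r h.ww hr.2 v v' hh
    have e2 : 𝕘.ue v' r *ᵥ v' = v' := by
      rw [ue_mulVec, hr.comm.2, h.ww, zero_smul, zero_smul, mul_zero, zero_smul, add_zero, sub_zero, sub_zero]
    rw [(hP' r r hr hr).1, e2] at h1
    convert Submodule.sub_mem _ h1 hh using 1
    simp only [N_add, N_add_left, N_smul_left, N_smul, N_self, smul_zero, N_swap r v']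
    module
  have huu : ∀ r p, 𝕘.InU v v' r → 𝕘.InU v v' p → 𝕘.N r p ∈ V := fun r p hr hp => by
    have h1 := hcj v' r h.ww hr.2 v p (hv p hp)
    rw [(hP' r p hr hp).1, (hP' r p hr hp).2] at h1
    have h2 := Submodule.sub_mem _ (Submodule.add_mem _ (Submodule.sub_mem _ (Submodule.add_mem _ (hv p hp)
      (Submodule.smul_mem _ (𝕘.β r p) hh)) h1) (Submodule.smul_mem _ (𝕘.β r p) (hv' r hr)))
      (Submodule.smul_mem _ (2⁻¹ * 𝕘.β r r) (hv' p hp))
    convert h2 using 1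
    simp only [N_add, N_add_left, N_smul_left, N_smul, N_self, smul_zero, smul_smul, N_swap r v']
    module
  have hexp : ∀ (α α' γ γ' : F) (p r : Fin k → F), 𝕘.N (α • v + α' • v' + p) (γ • v + γ' • v' + r) =
      (α * γ' - α' * γ) • 𝕘.N v v' + α • 𝕘.N v r + α' • 𝕘.N v' r - γ • 𝕘.N v p - γ' • 𝕘.N v' p + 𝕘.N p r := by
    intro α α' γ γ' p r
    simp only [N_add, N_add_left, N_smul_left, N_smul, N_self, smul_zero, N_swap v' v, N_swap p v, N_swap p v']
    module
  have hpa := 𝕘.pr_inU h a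
  have hpb := 𝕘.pr_inU h b
  rw [← 𝕘.decomp (v := v) (v' := v') a, ← 𝕘.decomp (v := v) (v' := v') b, hexp]
  exact Submodule.add_mem _ (Submodule.sub_mem _ (Submodule.sub_mem _ (Submodule.add_mem _ (Submodule.add_mem _
    (Submodule.smul_mem _ _ hh) (Submodule.smul_mem _ _ (hv _ hpb))) (Submodule.smul_mem _ _ (hv' _ hpb)))
    (Submodule.smul_mem _ _ (hv _ hpa))) (Submodule.smul_mem _ _ (hv' _ hpa))) (huu _ _ hpa hpb)

/-- The symmetric combination of `r` in the orbit span. -/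
theorem gen_tau_aux [Finite F] (hB : 𝕘.Big) (h : 𝕘.Hyp v v') (hz : 𝕘.InU v v' z) (hzn : 𝕘.β z z ≠ 0)
    {V : Submodule F (Matrix (Fin k) (Fin k) F)} (hst : ∀ P ∈ 𝕘.Om, ∀ W ∈ V,
      (P : Matrix (Fin k) (Fin k) F) * W * ((P⁻¹ : (Matrix (Fin k) (Fin k) F)ˣ) : Matrix (Fin k) (Fin k) F) ∈ V)
    (hX : 𝕘.tau v v ∈ V) :
    𝕘.tau v' v' ∈ V ∧ 𝕘.tau z z - (2⁻¹ * 𝕘.β z z) • (𝕘.tau v v' + 𝕘.tau v' v) ∈ V := by
  have hE : ∀ r, 𝕘.InU v v' r → (2 : F) • (𝕘.tau r r - (2⁻¹ * 𝕘.β r r) • (𝕘.tau v v' + 𝕘.tau v' v)) +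
      (2 * (2⁻¹ * 𝕘.β r r) * (2⁻¹ * 𝕘.β r r)) • 𝕘.tau v' v' ∈ V := by
    intro r hr
    have key : ∀ p, 𝕘.InU v v' p → 𝕘.tau (v + (-1 : F) • p + (-(2⁻¹ * 𝕘.β p p)) • v')
        (v + (-1 : F) • p + (-(2⁻¹ * 𝕘.β p p)) • v') ∈ V := fun p hp => by
      have h1 := hst _ (𝕘.ueU_mem hB h.ww hp.2) _ hX
      rw [ueU_val, ueU_inv, conj_tau 𝕘 (𝕘.ue_iso h.ww hp.2) (by
        rw [ue_mul 𝕘 h.ww hp.2 (by rw [β_neg_right, hp.2, neg_zero]), add_neg_cancel, ue_zero])] at h1
      rw [show v + (-1 : F) • p + (-(2⁻¹ * 𝕘.β p p)) • v' = 𝕘.ue v' p *ᵥ v by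
        rw [ue_mulVec, hp.comm.1, h.wv, zero_smul, one_smul, mul_one, add_zero]; module]
      exact h1
    have h1 := Submodule.sub_mem _ (Submodule.add_mem _ (key r hr) (key ((-1 : F) • r) (𝕘.inU_smul hr _)))
      (Submodule.smul_mem _ (2 : F) hX)
    convert h1 using 1
    simp only [tau_add_left, tau_add_right, tau_smul_left, tau_smul_right, β_smul_left, β_smul_right, smul_add,
      smul_smul]
    module
  have hn0 : 2⁻¹ * 𝕘.β z z ≠ 0 := mul_ne_zero (inv_ne_zero 𝕘.two) hzn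
  have hτ' : 𝕘.tau v' v' ∈ V := by
    by_cases h3 : 3 < Nat.card F
    · obtain ⟨a, ha, ha1⟩ := exists_sq_ne_one h3
      have h1 := Submodule.sub_mem _ (hE (a • z) (𝕘.inU_smul hz a)) (Submodule.smul_mem _ (a * a) (hE z hz))
      refine (Submodule.smul_mem_iff _
        (s := (a * a) * (a * a - 1) * (2 * (2⁻¹ * 𝕘.β z z) * (2⁻¹ * 𝕘.β z z))) ?_).1 ?_
      · exact mul_ne_zero (mul_ne_zero (mul_ne_zero ha ha) (sub_ne_zero.2 ha1))
          (mul_ne_zero (mul_ne_zero 𝕘.two hn0) hn0)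
      · convert h1 using 1
        simp only [tau_smul_left, tau_smul_right, β_smul_left, β_smul_right, smul_smul]
        module
    · obtain ⟨h3', hk4⟩ := card_eq_three hB h3
      obtain ⟨y, hy, hzy, hyn⟩ := h.exists_mate hk4 h3' hB.2.2 hz hzn
      have hp : 𝕘.InU v v' (z + y) := 𝕘.inU_add hz hy
      have hm : 𝕘.InU v v' (z + (-1 : F) • y) := 𝕘.inU_add hz (𝕘.inU_smul hy _)
      have h1 := Submodule.sub_mem _ (Submodule.sub_mem _ (Submodule.add_mem _ (hE _ hp) (hE _ hm))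
        (Submodule.smul_mem _ (2 : F) (hE z hz))) (Submodule.smul_mem _ (2 : F) (hE y hy))
      refine (Submodule.smul_mem_iff _ (s := 4 * (2 * (2⁻¹ * 𝕘.β z z) * (2⁻¹ * 𝕘.β z z))) ?_).1 ?_
      · exact mul_ne_zero (by rw [show (4 : F) = 2 * 2 by norm_num]; exact mul_ne_zero 𝕘.two 𝕘.two)
          (mul_ne_zero (mul_ne_zero 𝕘.two hn0) hn0)
      · convert h1 using 1
        simp only [tau_add_left, tau_add_right, tau_smul_left, tau_smul_right, β_add_left, β_add_right, β_smul_left,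
          β_smul_right, hzy, 𝕘.β_comm z y, hyn, smul_add, smul_smul]
        module
  refine ⟨hτ', ?_⟩
  refine (Submodule.smul_mem_iff _ 𝕘.two).1 ?_
  have h1 := Submodule.sub_mem _ (hE z hz)
    (Submodule.smul_mem _ (2 * (2⁻¹ * 𝕘.β z z) * (2⁻¹ * 𝕘.β z z)) hτ')
  rwa [add_sub_cancel_right] at h1

/-- The orbit span of one singular square contains all of them. -/
theorem gen_tau [Finite F] (hB : 𝕘.Big) {w x : Fin k → F} (hw0 : w ≠ 0) (hww : 𝕘.β w w = 0) (hx0 : x ≠ 0)
    (hxx : 𝕘.β x x = 0) : 𝕘.Gen (𝕘.tau w w) (𝕘.tau x x) := by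
  intro V hst hX
  have step : ∀ a b : Fin k → F, 𝕘.β a a = 0 → 𝕘.β b b = 0 → 𝕘.β a b ≠ 0 → 𝕘.tau a a ∈ V → 𝕘.tau b b ∈ V := by
    intro a b ha hb hab haV
    have hh : 𝕘.Hyp a ((𝕘.β a b)⁻¹ • b) :=
      ⟨ha, by rw [β_smul_left, β_smul_right, hb, mul_zero, mul_zero], by rw [β_smul_right, inv_mul_cancel₀ hab]⟩
    obtain ⟨z, hz, hzn⟩ := hh.aniso hB.1
    have h1 := (gen_tau_aux hB hh hz hzn hst haV).1
    rw [tau_smul_left, tau_smul_right, smul_smul] at h1
    exact (Submodule.smul_mem_iff _ (mul_ne_zero (inv_ne_zero hab) (inv_ne_zero hab))).1 h1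
  by_cases hwx : 𝕘.β w x ≠ 0
  · exact step w x hww hxx hwx hX
  push Not at hwx
  obtain ⟨w', hh⟩ := 𝕘.exists_hyp hw0 hww
  by_cases hw'x : 𝕘.β x w' ≠ 0
  · exact step w' x hh.ww hxx (by rw [β_comm]; exact hw'x) (step w w' hww hh.ww (by rw [hh.vw]; exact one_ne_zero) hX)
  push Not at hw'x
  obtain ⟨s, hs⟩ := 𝕘.exists_one hx0
  set r := 𝕘.pr w w' s with hr
  have hrU : 𝕘.InU w w' r := 𝕘.pr_inU hh s
  have hxr : 𝕘.β x r = 1 := by
    rw [hr, pr, β_sub_right, β_sub_right, β_smul_right, β_smul_right, 𝕘.β_comm w x, hwx, hw'x, mul_zero, mul_zero,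
      sub_zero, sub_zero, hs]
  set y := w' + r + (-(2⁻¹ * 𝕘.β r r)) • w
  have hyy : 𝕘.β y y = 0 := by
    simp only [y, β_add_left, β_add_right, β_smul_left, β_smul_right, hh.ww, hh.vv, hh.vw, hh.wv, hrU.1, hrU.2,
      hrU.comm.1, hrU.comm.2]
    have := 𝕘.two
    field_simp
    ring
  have hwy : 𝕘.β w y = 1 := by
    simp only [y, β_add_right, β_smul_right, hh.vw, hh.vv, hrU.1, mul_zero, add_zero]
  have hxy : 𝕘.β y x = 1 := by
    simp only [y, β_add_left, β_smul_left, hwx, hxr, 𝕘.β_comm x w', hw'x, 𝕘.β_comm x r, mul_zero, add_zero, zero_add]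
  exact step y x hyy hxx (by rw [hxy]; exact one_ne_zero) (step w y hww hyy (by rw [hwy]; exact one_ne_zero) hX)

/-- A map in the orbit span of the root acting trivially on it. -/
theorem gen_fix [Finite F] (hB : 𝕘.Big) (h : 𝕘.Hyp v v') :
    ∃ y, 𝕘.Gen (𝕘.tau v v) y ∧ 𝕘.tau v v * y = 𝕘.tau v v ∧ y * 𝕘.tau v v = 𝕘.tau v v := by
  obtain ⟨z, hz, hzn⟩ := h.aniso hB.1
  have hn0 : 2⁻¹ * 𝕘.β z z ≠ 0 := mul_ne_zero (inv_ne_zero 𝕘.two) hzn
  refine ⟨(-(2⁻¹ * 𝕘.β z z))⁻¹ • (𝕘.tau z z - (2⁻¹ * 𝕘.β z z) • (𝕘.tau v v' + 𝕘.tau v' v)),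
    fun V hst hX => Submodule.smul_mem _ _ (gen_tau_aux hB h hz hzn hst hX).2, ?_, ?_⟩
  · simp only [mul_smul_comm, mul_sub, mul_add, tau_mul_tau, hz.1, h.vv, h.vw, zero_smul, one_smul, zero_sub,
      zero_add, ← neg_smul, smul_smul]
    rw [inv_mul_cancel₀ (neg_ne_zero.2 hn0), one_smul]
  · simp only [smul_mul_assoc, sub_mul, add_mul, tau_mul_tau, hz.comm.1, h.vv, h.wv, zero_smul, one_smul, zero_sub,
      add_zero, ← neg_smul, smul_smul]
    rw [inv_mul_cancel₀ (neg_ne_zero.2 hn0), one_smul]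

end Gram

end Cfsg.Agent.H24.OWr
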