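import Cfsg.Agent.H24.OWr.Rad

/-!
In a group without roots, the elements of the radical at a singular vector of a slot are Siegel elements of the slot.
-/

set_option autoImplicit false

namespace Cfsg.Agent.H24.OWr

open Matrix Finset
open Cfsg.Agent.Aschbacher (pureMat pureVec slotMat pureGL)
open Cfsg.Agent.H24.Wreath (Mat sl Off off_one off_sl sl_mul sl_one sl_add sl_smul sl_zero sl_neg sl_sub
  eq_sl_of_off eq_smul_one_of_off off_pureMat)

variable {F : Type*} [Field F] {k t : ℕ}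

namespace Gram

variable (𝕘 : Gram F k) {v v' : Fin k → F} {l : Fin t} {H : Subgroup (Mat F k t)ˣ}

variable {𝕘} in
theorem Over.big (hH : 𝕘.Over H) (hk : 3 ≤ k) : 𝕘.Big := ⟨hk, hH.card, hH.plane⟩

variable {𝕘} in
theorem Over.pure_mem (hH : 𝕘.Over H) {A : Fin t → (Matrix (Fin k) (Fin k) F)ˣ} (hA : ∀ i, A i ∈ 𝕘.Om) :
    ∃ Q ∈ H, (Q : Mat F k t) = pureMat (fun i => (A i : Matrix (Fin k) (Fin k) F)) ∧
      ((Q⁻¹ : (Mat F k t)ˣ) : Mat F k t) =
        pureMat (fun i => ((A i)⁻¹ : (Matrix (Fin k) (Fin k) F)ˣ).val) := by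
  classical
  suffices ∀ s : Finset (Fin t), ∃ Q ∈ H,
      (Q : Mat F k t) = pureMat (fun i => if i ∈ s then (A i : Matrix (Fin k) (Fin k) F) else 1) by
    obtain ⟨Q, hQ, e⟩ := this univ
    simp only [mem_univ, if_true] at e
    refine ⟨Q, hQ, e, Units.inv_eq_of_mul_eq_one_right ?_⟩
    rw [e, Aschbacher.pureMat_mul, ← Aschbacher.pureMat_one (F := F) (m := k) (t := t)]
    congr 1
    funext i
    exact (A i).mul_inv
  intro s
  induction s using Finset.induction with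
  | empty => exact ⟨1, H.one_mem, by simp [Aschbacher.pureMat_one]⟩
  | insert j s hj ih =>
    obtain ⟨Q, hQ, e⟩ := ih
    refine ⟨slU j (A j) * Q, H.mul_mem (hH.om j _ (hA j)) hQ, ?_⟩
    rw [Units.val_mul, slU_val, e, sl, slotMat, Aschbacher.pureMat_mul]
    congr 1
    funext i
    rcases eq_or_ne i j with rfl | hij
    · simp [hj]
    · simp [hij]

theorem ue_sub_one (v z : Fin k → F) : 𝕘.ue v z - 1 = 𝕘.N v z - (2⁻¹ * 𝕘.β z z) • 𝕘.tau v v := by
  rw [ue]; abel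

theorem piece_ne_zero {X : Matrix (Fin k) (Fin k) F} (hX : 𝕘.Piece X) : X ≠ 0 := by
  rcases hX with ⟨v, hv0, -, rfl⟩ | ⟨v, v', z, hh, hz, hzn, rfl⟩
  · exact 𝕘.tau_ne_zero hv0 hv0
  · intro e
    have := 𝕘.N_mulVec v z v'
    rw [e, zero_mulVec, hz.comm.2, hh.vw, zero_smul, one_smul, zero_sub, eq_comm, neg_eq_zero] at this
    rw [this, β_zero_left] at hzn
    exact hzn rfl

/-- A piece and a conjugate of it do not commute, witnessed on a vector killed by the piece. -/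
theorem piece_witness [Finite F] (hB : 𝕘.Big) {X : Matrix (Fin k) (Fin k) F} (hX : 𝕘.Piece X) :
    ∃ P ∈ 𝕘.Om, ∃ (w : Fin k → F) (c : F), w ≠ 0 ∧ c ≠ 0 ∧ X *ᵥ w = 0 ∧
      (X * ((P : Matrix (Fin k) (Fin k) F) * X * ((P⁻¹ : (Matrix (Fin k) (Fin k) F)ˣ) : Matrix (Fin k) (Fin k) F))) *ᵥ w
        = c • w := by
  have hOm : (𝕘.Om : Subgroup _) ≤ 𝕘.O := Subgroup.commutator_le_self _
  rcases hX with ⟨v, hv0, hvv, rfl⟩ | ⟨v, v', z, h, hz, hzn, rfl⟩
  · obtain ⟨v', h⟩ := 𝕘.exists_hyp hv0 hvv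
    obtain ⟨y, hy, hyn⟩ := h.aniso hB.1
    refine ⟨_, 𝕘.ueU_mem hB h.ww hy.2, v, (2⁻¹ * 𝕘.β y y) * (2⁻¹ * 𝕘.β y y), hv0,
      mul_ne_zero (mul_ne_zero (inv_ne_zero 𝕘.two) hyn) (mul_ne_zero (inv_ne_zero 𝕘.two) hyn),
      by rw [tau_mulVec, hvv, zero_smul], ?_⟩
    rw [𝕘.conj_tau (hOm (𝕘.ueU_mem hB h.ww hy.2)) (Units.mul_inv _), ueU_val, ue_mulVec, hy.comm.1, h.wv]
    simp only [← mulVec_mulVec, mulVec_smul, tau_mulVec, β_sub_left, β_sub_right, β_add_left, β_add_right, β_smul_left, β_smul_right, h.vv, hy.1,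
      hy.comm.1, h.vw, h.wv, smul_smul]
    congr 1
    ring
  · refine ⟨_, 𝕘.ueU_mem hB h.ww hz.2, v, -(2⁻¹ * (𝕘.β z z * 𝕘.β z z)), h.v_ne,
      neg_ne_zero.2 (mul_ne_zero (inv_ne_zero 𝕘.two) (mul_ne_zero hzn hzn)),
      by rw [N_mulVec, hz.comm.1, h.vv, zero_smul, zero_smul, sub_zero], ?_⟩
    rw [𝕘.conj_N (hOm (𝕘.ueU_mem hB h.ww hz.2)) (Units.mul_inv _), ueU_val, ue_mulVec, ue_mulVec, hz.comm.1, h.wv,
      hz.2]
    have h2 := 𝕘.two
    simp only [← mulVec_mulVec, N_mulVec, mulVec_sub, mulVec_smul, β_sub_left, β_add_left, β_add_right, β_smul_left, β_smul_right, h.vv, h.vw, h.wv,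
      hz.1, hz.comm.1, hz.comm.2]
    match_scalars <;> field_simp <;> ring

/-- The data of a radical element. -/
def mvec (l : Fin t) (v v' : Fin k → F) (Z : Mat F k t) : (Fin k → F) → Mat F k t :=
  fun z => 𝕘.ct l (𝕘.pr v v' z) v' Z

variable {𝕘}

theorem IsRad.skew [NeZero k] (h : 𝕘.Hyp v v') (hiso : ∀ g ∈ H, 𝕘.Iso (g : Mat F k t)) {r : (Mat F k t)ˣ}
    (hr : 𝕘.IsRad H l v r) {x : Fin k → F} (hx : 𝕘.β v x = 0) :
    𝕘.adj (𝕘.ct l v' x ((r : Mat F k t) - 1)) = -𝕘.ct l x v' ((r : Mat F k t) - 1) := by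
  obtain ⟨-, h2⟩ := hr.mul h (hr.inv hiso)
  have h3 := h2 x hx
  rw [mul_inv_cancel, Units.val_one, sub_self, ct_zero, eq_comm, add_eq_zero_iff_neg_eq] at h3
  rw [h3, adj_ct, adj_sub, adj_one, 𝕘.adj_inv (hiso r hr.1)]

/-- The relation between the two sides of a radical element. -/
theorem IsRad.anti [Finite F] [NeZero k] (hH : 𝕘.Over H) (hk : 3 ≤ k) (h : 𝕘.Hyp v v') (hno : 𝕘.NoRoot H)
    {r : (Mat F k t)ˣ} (hr : 𝕘.IsRad H l v r) {z : Fin k → F} (hz : 𝕘.InU v v' z) :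
    𝕘.ct l v' z ((r : Mat F k t) - 1) = -𝕘.ct l z v' ((r : Mat F k t) - 1) := by
  have hu : 𝕘.IsRad H l v (slU l (𝕘.ueU h.vv hz.1)) := by
    refine ⟨hH.om l _ (𝕘.ueU_mem (hH.big hk) h.vv hz.1), ?_⟩
    rw [slU_val, ueU_val, ← sl_one l, ← sl_sub, ue_sub_one]
    refine ⟨fun x => ?_, fun x => ?_, fun x y hx hy => ?_⟩ <;>
      rw [ct_sl, sub_mulVec, N_mulVec, smul_mulVec, tau_mulVec]
    · simp [hz.comm.1, h.vv, β_zero_right]
    · simp [β_sub_right, β_smul_right, hz.1, h.vv]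
    · simp [β_smul_right, 𝕘.β_comm v x, hx, hy]
  set Z := (r : Mat F k t) - 1 with hZ
  have h1 : Z * (sl l (𝕘.N v z) - (2⁻¹ * 𝕘.β z z) • sl l (𝕘.tau v v)) =
      (sl l (𝕘.N v z) - (2⁻¹ * 𝕘.β z z) • sl l (𝕘.tau v v)) * Z := by
    have h2 := hr.comm h hno hu
    rwa [slU_val, ueU_val, show ∀ W : Matrix (Fin k) (Fin k) F, (sl l W : Mat F k t) - 1 = sl l (W - 1) from
      fun W => by rw [sl_sub, sl_one], ue_sub_one, sl_sub, sl_smul, ← hZ] at h2
  have hZ2 : ∀ x, 𝕘.ct l x v Z = 0 := hr.2.1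
  have hZ3 : ∀ x, 𝕘.ct l v x Z = 0 := hr.2.2.1
  clear_value Z
  have h3 := congrArg (𝕘.ct l v' v') h1
  rw [mul_sub, sub_mul, mul_smul_comm, smul_mul_assoc, ct_sub, ct_sub, ct_smul, ct_smul, ct_sl_right, ct_sl_left,
    ct_sl_right, ct_sl_left, adjD_N, adjD_tau, neg_mulVec, N_mulVec, tau_mulVec, hz.comm.2, h.vw, zero_smul,
    one_smul, zero_sub, neg_neg] at h3
  simp only [one_smul, hZ2, hZ3, smul_zero, sub_zero] at h3
  rw [← h3, ← neg_one_smul F z, ct_smul_right, neg_one_smul, neg_neg]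

theorem IsRad.selfAdj [Finite F] [NeZero k] (hH : 𝕘.Over H) (hk : 3 ≤ k) (h : 𝕘.Hyp v v') (hno : 𝕘.NoRoot H)
    {r : (Mat F k t)ˣ} (hr : 𝕘.IsRad H l v r) {z : Fin k → F} (hz : 𝕘.InU v v' z) :
    𝕘.adj (𝕘.ct l z v' ((r : Mat F k t) - 1)) = 𝕘.ct l z v' ((r : Mat F k t) - 1) := by
  have h1 := hr.skew h hH.iso hz.1
  rw [hr.anti hH hk h hno hz, adj_neg, neg_inj] at h1
  exact h1

theorem ct_off_of_off {i j : Fin t} (hji : j ≠ i) {Z : Mat F k t} (hZ : Off j Z) (x y : Fin k → F) :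
    Off j (𝕘.ct i x y Z) := fun X => by
  rw [← 𝕘.ct_off_mul (off_sl hji.symm X), hZ, 𝕘.ct_mul_off (off_sl hji.symm X)]

theorem mvec_pr (h : 𝕘.Hyp v v') (Z : Mat F k t) (z : Fin k → F) :
    𝕘.mvec l v v' Z (𝕘.pr v v' z) = 𝕘.mvec l v v' Z z := by
  have hp := 𝕘.pr_inU h z
  unfold mvec
  congr 1
  rw [pr, hp.1, hp.2, zero_smul, zero_smul, sub_zero, sub_zero]

/-- The data of the radical elements of a group. -/
def mspace [Finite F] [NeZero k] (hH : 𝕘.Over H) (h : 𝕘.Hyp v v') (l : Fin t) :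
    AddSubgroup ((Fin k → F) → Mat F k t) where
  carrier := {f | ∃ r, 𝕘.IsRad H l v r ∧ f = 𝕘.mvec l v v' ((r : Mat F k t) - 1)}
  zero_mem' := ⟨1, IsRad.one 𝕘, funext fun z => by
    simp only [mvec, Units.val_one, sub_self, ct_zero, Pi.zero_apply]⟩
  add_mem' := by
    rintro _ _ ⟨r, hr, rfl⟩ ⟨r', hr', rfl⟩
    obtain ⟨h1, h2⟩ := hr.mul h hr'
    exact ⟨r * r', h1, funext fun z => (h2 _ (𝕘.pr_inU h z).1).symm⟩
  neg_mem' := by
    rintro _ ⟨r, hr, rfl⟩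
    refine ⟨r⁻¹, hr.inv hH.iso, funext fun z => ?_⟩
    obtain ⟨-, h2⟩ := hr.mul h (hr.inv hH.iso)
    have h3 := h2 _ (𝕘.pr_inU h z).1
    rw [mul_inv_cancel, Units.val_one, sub_self, ct_zero] at h3
    exact (eq_neg_of_add_eq_zero_right h3.symm).symm

theorem mem_mspace [Finite F] [NeZero k] {hH : 𝕘.Over H} {h : 𝕘.Hyp v v'} {f : (Fin k → F) → Mat F k t} :
    f ∈ mspace hH h l ↔ ∃ r, 𝕘.IsRad H l v r ∧ f = 𝕘.mvec l v v' ((r : Mat F k t) - 1) := Iff.rfl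

theorem conj_sub_one {r g : (Mat F k t)ˣ} :
    ((g * r * g⁻¹ : (Mat F k t)ˣ) : Mat F k t) - 1 =
      (g : Mat F k t) * ((r : Mat F k t) - 1) * ((g⁻¹ : (Mat F k t)ˣ) : Mat F k t) := by
  rw [Units.val_mul, Units.val_mul, mul_sub, mul_one, sub_mul, g.mul_inv]

theorem mspace_off_slot [Finite F] [NeZero k] (hH : 𝕘.Over H) (h : 𝕘.Hyp v v') {f : (Fin k → F) → Mat F k t}
    (hf : f ∈ mspace hH h l) {Q : (Mat F k t)ˣ} (hQ : Q ∈ H) (hoff : Off l (Q : Mat F k t))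
    (hoff' : Off l ((Q⁻¹ : (Mat F k t)ˣ) : Mat F k t)) :
    (fun z => (Q : Mat F k t) * f z * ((Q⁻¹ : (Mat F k t)ˣ) : Mat F k t)) ∈ mspace hH h l := by
  obtain ⟨r, hr, rfl⟩ := hf
  have hct : ∀ x y, 𝕘.ct l x y (((Q * r * Q⁻¹ : (Mat F k t)ˣ) : Mat F k t) - 1) =
      (Q : Mat F k t) * 𝕘.ct l x y ((r : Mat F k t) - 1) * ((Q⁻¹ : (Mat F k t)ˣ) : Mat F k t) := fun x y => by
    rw [conj_sub_one, 𝕘.ct_mul_off hoff', 𝕘.ct_off_mul hoff]
  refine ⟨Q * r * Q⁻¹, ⟨H.mul_mem (H.mul_mem hQ hr.1) (H.inv_mem hQ), fun x => ?_, fun x => ?_, fun x y hx hy => ?_⟩,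
    funext fun z => (hct _ _).symm⟩
  · rw [hct, hr.2.1, mul_zero, zero_mul]
  · rw [hct, hr.2.2.1, mul_zero, zero_mul]
  · rw [hct, hr.2.2.2 x y hx hy, mul_zero, zero_mul]

/-- Conjugating by an element of the slot fixing the line. -/
theorem mspace_move [Finite F] [NeZero k] (hH : 𝕘.Over H) (h : 𝕘.Hyp v v') {f : (Fin k → F) → Mat F k t}
    (hf : f ∈ mspace hH h l) {P : (Matrix (Fin k) (Fin k) F)ˣ} (hP : P ∈ 𝕘.Om) {a : F} (ha : a ≠ 0)
    (hv : (P : Matrix (Fin k) (Fin k) F) *ᵥ v = a • v) (hv' : (P : Matrix (Fin k) (Fin k) F) *ᵥ v' = a⁻¹ • v') :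
    (fun z => a • f (((P⁻¹ : (Matrix (Fin k) (Fin k) F)ˣ) : Matrix (Fin k) (Fin k) F) *ᵥ z)) ∈ mspace hH h l := by
  obtain ⟨r, hr, rfl⟩ := hf
  have hPO : P ∈ 𝕘.O := (Subgroup.commutator_le_self 𝕘.O) hP
  set Qm := ((P⁻¹ : (Matrix (Fin k) (Fin k) F)ˣ) : Matrix (Fin k) (Fin k) F) with hQm
  have hQv : Qm *ᵥ v = a⁻¹ • v := by
    have h1 := congrArg (Qm *ᵥ ·) hv
    simp only [mulVec_mulVec, hQm, P.inv_mul, one_mulVec, mulVec_smul] at h1
    rw [hQm]; nth_rw 2 [h1]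
    rw [smul_smul, inv_mul_cancel₀ ha, one_smul]
  have hQv' : Qm *ᵥ v' = a • v' := by
    have h1 := congrArg (Qm *ᵥ ·) hv'
    simp only [mulVec_mulVec, hQm, P.inv_mul, one_mulVec, mulVec_smul] at h1
    rw [hQm]; nth_rw 2 [h1]
    rw [smul_smul, mul_inv_cancel₀ ha, one_smul]
  have hi : 𝕘.IsoD Qm := 𝕘.O.inv_mem hPO
  have hβv : ∀ x, 𝕘.β v (Qm *ᵥ x) = a * 𝕘.β v x := fun x => by
    have h1 := hi v x
    rw [hQv, β_smul_left] at h1
    rw [← h1, ← mul_assoc, mul_inv_cancel₀ ha, one_mul]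
  have hβv' : ∀ x, 𝕘.β v' (Qm *ᵥ x) = a⁻¹ * 𝕘.β v' x := fun x => by
    have h1 := hi v' x
    rw [hQv', β_smul_left] at h1
    rw [← h1, ← mul_assoc, inv_mul_cancel₀ ha, one_mul]
  set Q := slU (t := t) l P
  have hct : ∀ x y, 𝕘.ct l x y (((Q * r * Q⁻¹ : (Mat F k t)ˣ) : Mat F k t) - 1) =
      𝕘.ct l (Qm *ᵥ x) (Qm *ᵥ y) ((r : Mat F k t) - 1) := fun x y => by
    rw [conj_sub_one, slU_val, slU_inv]
    exact 𝕘.ct_ad l hPO x y _
  have hpr : ∀ x, Qm *ᵥ 𝕘.pr v v' x = 𝕘.pr v v' (Qm *ᵥ x) := fun x => by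
    rw [pr, pr, hβv, hβv', mulVec_sub, mulVec_sub, mulVec_smul, mulVec_smul, hQv, hQv', smul_smul, smul_smul,
      mul_comm _ a⁻¹, mul_comm _ a]
  refine ⟨Q * r * Q⁻¹, ⟨H.mul_mem (H.mul_mem (hH.om l P hP) hr.1) (H.inv_mem (hH.om l P hP)), fun x => ?_,
    fun x => ?_, fun x y hx hy => ?_⟩, funext fun z => ?_⟩
  · rw [hct, hQv, ct_smul_right, hr.2.1, smul_zero]
  · rw [hct, hQv, ct_smul_left, hr.2.2.1, smul_zero]
  · rw [hct, hr.2.2.2 _ _ (by rw [hβv, hx, mul_zero]) (by rw [hβv, hy, mul_zero])]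
  · show a • 𝕘.ct l (𝕘.pr v v' (Qm *ᵥ z)) v' _ = 𝕘.ct l (𝕘.pr v v' z) v' _
    rw [hct, hpr, hQv', ct_smul_right]

theorem mspace_smul [Finite F] [NeZero k] (hH : 𝕘.Over H) (h : 𝕘.Hyp v v') {f : (Fin k → F) → Mat F k t}
    (hf : f ∈ mspace hH h l) (c : F) : c • f ∈ mspace hH h l := by
  have hsq : ∀ a : F, (a * a) • f ∈ mspace hH h l := by
    intro a
    rcases eq_or_ne a 0 with rfl | ha
    · rw [mul_zero, zero_smul]; exact zero_mem _
    obtain ⟨P, hP, hPv⟩ := h.dia_sq ha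
    have hdv : (P : Matrix (Fin k) (Fin k) F) *ᵥ v = (a * a) • v := by rw [hPv, h.dia_v]
    have hdv' : (P : Matrix (Fin k) (Fin k) F) *ᵥ v' = (a * a)⁻¹ • v' := by
      rw [hPv, dia_mulVec, h.ww, h.vw, mul_zero, zero_smul, add_zero, mul_one, sub_smul, one_smul,
        add_sub_cancel]
    have := mspace_move hH h hf hP (mul_ne_zero ha ha) hdv hdv'
    convert this using 1
    funext z
    show (a * a) • f z = (a * a) • f _
    congr 1
    obtain ⟨r, -, rfl⟩ := hf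
    simp only [mvec]
    congr 1
    have e : ((P⁻¹ : (Matrix (Fin k) (Fin k) F)ˣ) : Matrix (Fin k) (Fin k) F) = 𝕘.dia v v' (a * a)⁻¹ :=
      Units.inv_eq_of_mul_eq_one_right (by rw [hPv, h.dia_mul, mul_inv_cancel₀ (mul_ne_zero ha ha), h.dia_one])
    rw [e, dia_mulVec, pr, pr]
    simp only [β_add_right, β_smul_right, h.vv, h.ww, h.vw, h.wv]
    module
  have e : c = (c + 1) / 2 * ((c + 1) / 2) - (c - 1) / 2 * ((c - 1) / 2) := by
    have h2 := 𝕘.two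
    field_simp; ring
  rw [e, sub_smul]
  exact sub_mem (hsq _) (hsq _)

theorem mspace_stab [Finite F] [NeZero k] (hH : 𝕘.Over H) (h : 𝕘.Hyp v v') {m : Fin t} (hml : m ≠ l) :
    𝕘.SStab m (mspace hH h l) :=
  ⟨fun P hP f hf => by
    have := mspace_off_slot hH h hf (hH.om m P hP) (by rw [slU_val]; exact off_sl hml.symm _)
      (by rw [slU_inv]; exact off_sl hml.symm _)
    simpa only [ad, slU_val, slU_inv] using this,
  fun a _ f hf => mspace_smul hH h hf _⟩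

theorem mspace_rstab [Finite F] [NeZero k] (hH : 𝕘.Over H) (h : 𝕘.Hyp v v') (h4 : k = 4) (ht : 3 ≤ t)
    {m : Fin t} (hml : m ≠ l) : 𝕘.RStab m (mspace hH h l) := fun y hy f hf => by
  have := mspace_off_slot hH h hf (hH.refl h4 ht m y hy) (by rw [slU_val]; exact off_sl hml.symm _)
    (by rw [slU_inv]; exact off_sl hml.symm _)
  simpa only [ad, slU_val, slU_inv] using this

theorem mspace_single [Finite F] [NeZero k] (hH : 𝕘.Over H) (hk : 3 ≤ k) (h : 𝕘.Hyp v v') (hno : 𝕘.NoRoot H)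
    {m : Fin t} (hall : ∀ j, j = l ∨ j = m) : 𝕘.Single m (mspace hH h l) := by
  intro g hg w w' hw hNF
  refine Or.inl (funext fun i => ?_)
  obtain ⟨r, hr, rfl⟩ := hg
  set Z := 𝕘.mvec l v v' ((r : Mat F k t) - 1) i
  have hoff : ∀ x y, ∀ j, Off j (𝕘.ct m x y Z) := fun x y j => by
    rcases eq_or_ne j m with rfl | hj
    · exact 𝕘.ct_off _ _ _ _
    · obtain rfl := (hall j).resolve_right hj
      exact ct_off_of_off hj (𝕘.ct_off _ _ _ _) x y
  have hsym : ∀ x y, 𝕘.ct m y x Z = 𝕘.ct m x y Z := fun x y => by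
    obtain ⟨c, hc⟩ := eq_smul_one_of_off (hoff x y)
    have h1 := congrArg 𝕘.adj hc
    rw [adj_ct, adj_smul, adj_one, ← hc] at h1
    have e : 𝕘.adj Z = Z := hr.selfAdj hH hk h hno (𝕘.pr_inU h i)
    rwa [e] at h1
  refine 𝕘.ext_ct m fun x y => ?_
  rw [Pi.zero_apply, ct_zero]
  have h1 : (2 : F) • 𝕘.ct m x y Z = 0 := by
    rw [two_smul]
    nth_rw 2 [← hsym]
    rw [hNF i x y, hNF i y x]
    abel
  exact (smul_eq_zero.1 h1).resolve_left 𝕘.two

theorem mvec_smul (c : F) (Z : Mat F k t) (z : Fin k → F) :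
    𝕘.mvec l v v' Z (c • z) = c • 𝕘.mvec l v v' Z z := by
  have e : 𝕘.pr v v' (c • z) = c • 𝕘.pr v v' z := by
    simp only [pr, β_smul_right, smul_sub, smul_smul]
  simp only [mvec, e, ct_smul_left]

theorem mvec_add (Z : Mat F k t) (z z' : Fin k → F) :
    𝕘.mvec l v v' Z (z + z') = 𝕘.mvec l v v' Z z + 𝕘.mvec l v v' Z z' := by
  have e : 𝕘.pr v v' (z + z') = 𝕘.pr v v' z + 𝕘.pr v v' z' := by
    simp only [pr, β_add_right, add_smul]; abel
  simp only [mvec, e, ct_add_left]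

/-- An anisotropic direction for a non-zero pure member. -/
theorem exists_aniso_dir [Finite F] [NeZero k] (hH : 𝕘.Over H) (hk : 3 ≤ k) (h : 𝕘.Hyp v v') {P0 : Mat F k t}
    {b : Fin k → F} (hb : 𝕘.InU v v' b) (hb0 : b ≠ 0)
    (hmem : (fun z => 𝕘.β b z • P0) ∈ mspace hH h l) :
    ∃ b', 𝕘.InU v v' b' ∧ 𝕘.β b' b' ≠ 0 ∧ (fun z => 𝕘.β b' z • P0) ∈ mspace hH h l := by
  by_cases hn : 𝕘.β b b ≠ 0
  · exact ⟨b, hb, hn, hmem⟩
  push Not at hn
  rcases Nat.lt_or_ge k 5 with hk5 | hk5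
  · exfalso
    rcases Nat.lt_or_ge k 4 with h4 | h4
    · obtain ⟨z, hz, hzn⟩ := h.aniso hk
      have hb' := 𝕘.eq_smul_of_three h (by omega) hz hzn hb
      rw [hb', β_smul_left, β_smul_right] at hn
      rcases mul_eq_zero.1 hn with h1 | h1
      · exact hb0 (by rw [hb', h1, zero_smul])
      · rcases mul_eq_zero.1 h1 with h2 | h2
        · exact hb0 (by rw [hb', h2, zero_smul])
        · exact hzn h2
    · obtain ⟨c, hc⟩ := hH.plane (by omega) v b h.v_ne h.vv hn hb.1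
      have := congrArg (𝕘.β v') hc
      rw [hb.2, β_smul_right, h.wv, mul_one] at this
      exact hb0 (by rw [hc, ← this, zero_smul])
  · obtain ⟨a, hT, hab⟩ : ∃ a, 𝕘.Tri v v' a ∧ 𝕘.β b a ≠ 0 := by
      by_contra hc
      push Not at hc
      refine hb0 (𝕘.nd fun x => ?_)
      rw [β_comm]
      let L : (Fin k → F) →ₗ[F] F :=
        { toFun := fun x => 𝕘.β b x
          map_add' := fun p q => 𝕘.β_add_right b p q
          map_smul' := fun c p => 𝕘.β_smul_right c b p }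
      have h1 : L (𝕘.pr v v' x) = 0 := h.span_tri hk5 L (fun z hz => hc z hz) (𝕘.pr_inU h x)
      change 𝕘.β b (𝕘.pr v v' x) = 0 at h1
      rwa [pr, β_sub_right, β_sub_right, β_smul_right, β_smul_right, hb.comm.1, hb.comm.2, mul_zero, sub_zero,
        mul_zero, sub_zero] at h1
    obtain ⟨ha, han, y, w, hy, hw, hyn, hwn, hay, haw, hyw⟩ := hT
    have hstep : ∀ c u, 𝕘.InU v v' c → 𝕘.β a c = 0 → 𝕘.β c c = 𝕘.β a a →
        (fun z => 𝕘.β u z • P0) ∈ mspace hH h l →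
        (fun z => 𝕘.β (-(2 / 𝕘.β a a) • (𝕘.β a u • a + 𝕘.β c u • c)) z • P0) ∈ mspace hH h l := by
      intro c u hc hac hcn hu
      obtain ⟨P, hP, hPe⟩ := 𝕘.plane_neg han hac hcn
      have hfix : ∀ x, 𝕘.β a x = 0 → 𝕘.β c x = 0 → (P : Matrix (Fin k) (Fin k) F) *ᵥ x = x := fun x h1 h2 => by
        rw [hPe, 𝕘.plane_mulVec hac hcn, h1, h2, zero_smul, zero_smul, add_zero, smul_zero, sub_zero]
      have h1 := mspace_move hH h hu hP one_ne_zero
        (by rw [one_smul]; exact hfix v ha.comm.1 hc.comm.1)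
        (by rw [inv_one, one_smul]; exact hfix v' ha.comm.2 hc.comm.2)
      convert sub_mem h1 hu using 1
      funext z
      rw [Pi.sub_apply, one_smul, ← sub_smul]
      congr 1
      have hinv : ((P⁻¹ : (Matrix (Fin k) (Fin k) F)ˣ) : Matrix (Fin k) (Fin k) F) = P := by
        refine Units.inv_eq_of_mul_eq_one_right (Matrix.ext_iff_mulVec.2 fun x => ?_)
        rw [← mulVec_mulVec, hPe, 𝕘.plane_mulVec hac hcn, 𝕘.plane_mulVec hac hcn, one_mulVec]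
        simp only [β_sub_right, β_smul_right, β_add_right, hac, 𝕘.β_comm a c, hcn]
        match_scalars <;> field_simp <;> ring
      rw [hinv, hPe, 𝕘.plane_mulVec hac hcn]
      simp only [β_sub_right, β_smul_right, β_add_right, β_smul_left, β_add_left, 𝕘.β_comm a u, 𝕘.β_comm c u]
      ring
    have h2 := hstep w _ hw haw hwn (hstep y b hy hay hyn hmem)
    refine ⟨_, inU_smul _ (inU_add _ (inU_smul _ ha _) (inU_smul _ hw _)) _, ?_, h2⟩
    simp only [β_smul_right, β_add_right, β_smul_left, β_add_left, hay, haw, 𝕘.β_comm y w, 𝕘.β_comm a w,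
      hyw, mul_zero, add_zero, zero_mul]
    have hab' : 𝕘.β a b ≠ 0 := by rwa [β_comm]
    have hne : -(2 / 𝕘.β a a) ≠ 0 := neg_ne_zero.2 (div_ne_zero 𝕘.two han)
    repeat' apply mul_ne_zero
    all_goals assumption

theorem pureVec_ne_zero {u : Fin t → Fin k → F} (hu : ∀ i, u i ≠ 0) : (pureVec u : (Fin t → Fin k) → F) ≠ 0 := by
  have hex : ∀ j, ∃ p, u j p ≠ 0 := fun j => Function.ne_iff.1 (hu j)
  choose p hp using hex
  exact fun e => (Finset.prod_ne_zero_iff.mpr fun j _ => hp j) (congrFun e p)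

/-- The data of a radical element is scalar. -/
theorem Over.mvec_scalar [Finite F] [NeZero k] (hH : 𝕘.Over H) (hk : 3 ≤ k) (h : 𝕘.Hyp v v') (hno : 𝕘.NoRoot H)
    {f : (Fin k → F) → Mat F k t} (hf : f ∈ mspace hH h l) (z : Fin k → F) : ∃ c : F, f z = c • 1 := by
  classical
  have hfl : ∀ g ∈ mspace hH h l, ∀ z, Off l (g z) := by
    rintro g ⟨r, -, rfl⟩ z
    exact 𝕘.ct_off _ _ _ _
  refine eq_smul_one_of_off fun j => ?_
  rcases eq_or_ne j l with rfl | hjl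
  · exact hfl f hf z
  by_contra hne
  set T := univ.erase l with hT
  have hTl : ∀ m ∈ T, m ≠ l := fun m hm => ne_of_mem_erase hm
  obtain ⟨p, g, hg0, hgoff, hp, ⟨m₀, hm₀, hp₀⟩, hmem⟩ := 𝕘.extract (hH.big hk) T
    (fun m hm => mspace_stab hH h (hTl m hm))
    (fun h4 => by
      rcases Nat.lt_or_ge t 3 with ht | ht
      · refine Or.inr ⟨?_, fun m hm => mspace_single hH hk h hno fun j => ?_⟩
        · rw [hT, Finset.card_erase_of_mem (mem_univ _), Finset.card_univ, Fintype.card_fin]; omega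
        · by_contra hc
          push Not at hc
          have h3 : ({l, m, j} : Finset (Fin t)).card = 3 := by
            rw [Finset.card_insert_of_notMem (by simp [(hTl m hm).symm, Ne.symm hc.1]),
              Finset.card_insert_of_notMem (by simp [Ne.symm hc.2]), Finset.card_singleton]
          have := Finset.card_le_univ ({l, m, j} : Finset (Fin t))
          rw [h3, Fintype.card_fin] at this
          omega
      · exact Or.inl fun m hm => mspace_rstab hH h h4 ht (hTl m hm))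
    hf ⟨z, j, mem_erase.2 ⟨hjl, mem_univ _⟩, hne⟩
  have hpl : p l = 1 := (hp l).resolve_right fun hh => hTl l hh.1 rfl
  have hP0l := off_pureMat (k := k) hpl
  have hpne : ∀ m, p m ≠ 0 := fun m => by
    rcases hp m with h1 | ⟨-, h1⟩
    · rw [h1]; exact one_ne_zero
    · exact 𝕘.piece_ne_zero h1
  have hP0 : (pureMat p : Mat F k t) ≠ 0 := Aschbacher.pureMat_ne_zero hpne
  set F' := fun i => pureMat p * g i with hF'
  have hF'0 : F' ≠ 0 := by
    intro e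
    obtain ⟨i₀, hi₀⟩ : ∃ i, g i ≠ 0 := Function.ne_iff.1 hg0
    obtain ⟨Y, hY⟩ := eq_sl_of_off l fun m hm => hgoff i₀ m (mem_erase.2 ⟨hm, mem_univ _⟩)
    have h1 : pureMat p * sl l Y = (pureMat (Function.update p l Y) : Mat F k t) := by
      rw [sl, slotMat, Aschbacher.pureMat_mul]
      congr 1
      funext m
      rcases eq_or_ne m l with rfl | hm
      · simp [hpl]
      · simp [Function.update_of_ne hm]
    have hY0 : Y ≠ 0 := fun e' => hi₀ (by rw [hY, e', sl_zero])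
    refine Aschbacher.pureMat_ne_zero (A := Function.update p l Y) (fun m => ?_) (h1.symm.trans (hY ▸ congrFun e i₀))
    rcases eq_or_ne m l with rfl | hm
    · rwa [Function.update_self]
    · rw [Function.update_of_ne hm]; exact hpne m
  have hsc : ∀ i, ∃ c : F, F' i = c • pureMat p := fun i => by
    have h1 : F' i = pureMat p * 𝕘.ct l v v' (g i) := by
      conv_lhs => rw [← one_smul F (F' i), ← h.vw, ← 𝕘.ct_of_off (hfl _ hmem i) v v']
      exact 𝕘.ct_off_mul hP0l v v' (g i)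
    obtain ⟨c, hc⟩ := eq_smul_one_of_off (M := 𝕘.ct l v v' (g i)) fun m => by
      rcases eq_or_ne m l with rfl | hm
      · exact 𝕘.ct_off _ _ _ _
      · exact ct_off_of_off hm (hgoff i m (mem_erase.2 ⟨hm, mem_univ _⟩)) v v'
    exact ⟨c, by rw [h1, hc, mul_smul_comm, mul_one]⟩
  choose c hc using hsc
  obtain ⟨a, a', haa'⟩ : ∃ a a', (pureMat p : Mat F k t) a a' ≠ 0 := by
    by_contra hh
    push Not at hh
    exact hP0 (Matrix.ext hh)
  obtain ⟨r₀, hr₀, hF'r⟩ := hmem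
  have cent : ∀ i, c i = ((pureMat p : Mat F k t) a a')⁻¹ * F' i a a' := fun i => by
    rw [hc i, Matrix.smul_apply, smul_eq_mul]; field_simp
  have hFadd : ∀ i i', F' (i + i') = F' i + F' i' := fun i i' => by
    rw [show F' = _ from hF'r]; exact mvec_add _ _ _
  have hFsmul : ∀ (s : F) i, F' (s • i) = s • F' i := fun s i => by
    rw [show F' = _ from hF'r]; exact mvec_smul _ _ _
  let φ : (Fin k → F) →ₗ[F] F :=
    { toFun := c
      map_add' := fun i i' => by rw [cent, cent, cent, hFadd, Matrix.add_apply]; ring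
      map_smul' := fun s i => by
        rw [cent, cent, hFsmul, Matrix.smul_apply, RingHom.id_apply, smul_eq_mul, smul_eq_mul]; ring }
  obtain ⟨b, hb⟩ : ∃ b, ∀ i, 𝕘.β b i = c i := by
    obtain ⟨u, hu⟩ := 𝕘.unit
    refine ⟨(↑u⁻¹ : Matrix (Fin k) (Fin k) F) *ᵥ fun i => φ (Pi.single i 1), fun i => ?_⟩
    rw [β_comm, β, mulVec_mulVec, ← hu, u.mul_inv, one_mulVec]
    show _ = φ i
    conv_rhs => rw [← Finset.univ_sum_single i, map_sum]
    refine Finset.sum_congr rfl fun m _ => ?_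
    rw [← smul_eq_mul, ← map_smul]
    congr 1
    funext q
    rcases eq_or_ne q m with rfl | hq <;> simp [*]
  have hbU : 𝕘.InU v v' b := by
    have hz : ∀ u, 𝕘.pr v v' u = 0 → 𝕘.β b u = 0 := fun u hu => by
      rw [hb, cent, show F' u = 0 by
        rw [show F' = _ from hF'r, mvec, hu, ct_zero_left], Matrix.zero_apply, mul_zero]
    constructor <;> rw [β_comm] <;> refine hz _ ?_ <;> simp [pr, h.vv, h.ww, h.vw, h.wv]
  have hb0 : b ≠ 0 := fun e => hF'0 (funext fun i => by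
    rw [hc i, ← hb, e, β_zero_left, zero_smul]; rfl)
  have hbmem : (fun i => 𝕘.β b i • (pureMat p : Mat F k t)) ∈ mspace hH h l := by
    refine ⟨r₀, hr₀, ?_⟩
    rw [← hF'r]
    exact funext fun i => by rw [hb]; exact (hc i).symm
  obtain ⟨b, hbU, hbn, hbmem⟩ := exists_aniso_dir hH hk h hbU hb0 hbmem
  -- two members that do not commute
  have hw' : ∀ m, ∃ P ∈ 𝕘.Om, (m = l → P = 1) ∧ ∃ (w : Fin k → F) (c : F), w ≠ 0 ∧ c ≠ 0 ∧
      (𝕘.Piece (p m) → p m *ᵥ w = 0) ∧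
      (p m * ((P : Matrix (Fin k) (Fin k) F) * p m * ((P⁻¹ : (Matrix (Fin k) (Fin k) F)ˣ) : Matrix (Fin k) (Fin k) F))) *ᵥ w
        = c • w := fun m => by
    by_cases hm : 𝕘.Piece (p m)
    · obtain ⟨P, hP, w, c, hw, hc0, h0, h1⟩ := 𝕘.piece_witness (hH.big hk) hm
      refine ⟨P, hP, fun hml => ?_, w, c, hw, hc0, fun _ => h0, h1⟩
      exfalso
      rw [hml, hpl] at h0
      exact hw (by rwa [one_mulVec] at h0)
    · refine ⟨1, one_mem _, fun _ => rfl, v, 1, h.v_ne, one_ne_zero, fun h' => absurd h' hm, ?_⟩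
      rw [(hp m).resolve_right fun hh => hm hh.2]
      simp
  choose P hP hPl w cc hw hcc hkill hpp using hw'
  obtain ⟨Q, hQ, hQv, hQi⟩ := hH.pure_mem hP
  obtain ⟨r, hr, hrM⟩ := hbmem
  obtain ⟨r', hr', hrM'⟩ := mspace_off_slot hH h ⟨r, hr, hrM⟩ hQ
    (by rw [hQv]; exact off_pureMat (by rw [hPl l rfl, Units.val_one]))
    (by rw [hQi]; exact off_pureMat (by rw [hPl l rfl, inv_one, Units.val_one]))
  set P1 : Mat F k t := pureMat fun m =>
    (P m : Matrix (Fin k) (Fin k) F) * p m * (((P m)⁻¹ : (Matrix (Fin k) (Fin k) F)ˣ) : Matrix (Fin k) (Fin k) F) with hP1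
  have hP1l : Off l P1 := off_pureMat (by rw [hPl l rfl, hpl]; simp)
  have hQP : (Q : Mat F k t) * pureMat p * ((Q⁻¹ : (Mat F k t)ˣ) : Mat F k t) = P1 := by
    rw [hQv, hQi, Aschbacher.pureMat_mul, Aschbacher.pureMat_mul]
  have shape : ∀ {r : (Mat F k t)ˣ} {R : Mat F k t}, 𝕘.IsRad H l v r → Off l R →
      (∀ x, 𝕘.InU v v' x → 𝕘.ct l x v' ((r : Mat F k t) - 1) = 𝕘.β b x • R) →
      ∃ K, Off l K ∧ (r : Mat F k t) - 1 = sl l (𝕘.tau v v) * K - sl l (𝕘.N v b) * R := by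
    intro r R hr hR hM
    have hanti : ∀ z, 𝕘.InU v v' z →
        𝕘.ct l v' z ((r : Mat F k t) - 1) = -𝕘.ct l z v' ((r : Mat F k t) - 1) := fun z hz => hr.anti hH hk h hno hz
    obtain ⟨-, hr1, hr2, hr3⟩ := hr
    set Z := (r : Mat F k t) - 1 with hZ
    clear_value Z
    refine ⟨𝕘.ct l v' v' Z, 𝕘.ct_off _ _ _ _, 𝕘.ext_ct l fun x y => ?_⟩
    have hpx := 𝕘.pr_inU h x
    have hpy := 𝕘.pr_inU h y
    have eb : ∀ u, 𝕘.β b (𝕘.pr v v' u) = 𝕘.β b u := fun u => by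
      rw [pr, β_sub_right, β_sub_right, β_smul_right, β_smul_right, hbU.comm.1, hbU.comm.2, mul_zero, sub_zero,
        mul_zero, sub_zero]
    rw [ct_sub, 𝕘.ct_sl_mul (𝕘.ct_off _ _ _ _), 𝕘.ct_sl_mul hR, tau_mulVec, β_smul_right, β_N, 𝕘.β_comm v x,
      𝕘.β_comm b x]
    conv_lhs => rw [← 𝕘.decomp (v := v) (v' := v') x, ← 𝕘.decomp (v := v) (v' := v') y]
    simp only [ct_add_left, ct_add_right, ct_smul_left, ct_smul_right, hr1, hr2,
      hr3 _ _ hpx.1 hpy.1, hM _ hpx, hanti _ hpy, hM _ hpy, eb, smul_zero, add_zero, zero_add]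
    module
  obtain ⟨K, hK, hZ⟩ := shape hr (off_pureMat (k := k) hpl) fun x hx => by
    have := congrFun hrM x
    rw [mvec, show 𝕘.pr v v' x = x by rw [pr, hx.1, hx.2, zero_smul, zero_smul, sub_zero, sub_zero]] at this
    exact this.symm
  obtain ⟨K', hK', hZ'⟩ := shape hr' hP1l fun x hx => by
    have := congrFun hrM' x
    rw [mvec, show 𝕘.pr v v' x = x by rw [pr, hx.1, hx.2, zero_smul, zero_smul, sub_zero, sub_zero]] at this
    simp only [smul_mul_assoc, mul_smul_comm, hQP] at this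
    exact this.symm
  have hcomm := hr.comm h hno hr'
  have hprod : ∀ {R R' : Mat F k t} {K K' : Mat F k t}, Off l R → Off l K → Off l K' → Off l R' →
      (sl l (𝕘.tau v v) * K - sl l (𝕘.N v b) * R) * (sl l (𝕘.tau v v) * K' - sl l (𝕘.N v b) * R') =
        -𝕘.β b b • (sl l (𝕘.tau v v) * (R * R')) := by
    intro R R' K K' hR hK hK' hR'
    have e : ∀ (X Y : Matrix (Fin k) (Fin k) F) (A B : Mat F k t), Off l A →
        sl l X * A * (sl l Y * B) = sl l (X * Y) * (A * B) := fun X Y A B hA => by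
      rw [mul_assoc, ← mul_assoc A, ← hA, mul_assoc (sl l Y), ← mul_assoc, sl_mul]
    simp only [mul_sub, sub_mul, e _ _ _ _ hK, e _ _ _ _ hR, tau_sq 𝕘 h.vv, 𝕘.tau_mul_N h.vv hbU.1,
      𝕘.N_mul_tau h.vv hbU.1, 𝕘.N_mul_N h.vv hbU.1 hbU.1, sl_zero, zero_mul, sub_zero, zero_sub, sl_smul,
      smul_mul_assoc, neg_neg]
  rw [hZ, hZ', hprod (off_pureMat hpl) hK hK' hP1l, hprod hP1l hK' hK (off_pureMat hpl)] at hcomm
  have h2 := smul_right_injective (Mat F k t) (neg_ne_zero.2 hbn) hcomm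
  have h3 : pureMat p * P1 = P1 * pureMat p :=
    ((off_pureMat hpl).mul hP1l).cancel (hP1l.mul (off_pureMat hpl)) (𝕘.tau_ne_zero h.v_ne h.v_ne) h2
  have h4 := congrArg (fun X : Mat F k t => X *ᵥ pureVec w) h3
  have lhs : (pureMat p * P1) *ᵥ pureVec w = pureVec fun m => cc m • w m := by
    rw [hP1, Aschbacher.pureMat_mul, Aschbacher.pureMat_mulVec]
    congr 1
    funext m
    exact hpp m
  have rhs : (P1 * pureMat p) *ᵥ pureVec w = 0 := by
    rw [hP1, Aschbacher.pureMat_mul, Aschbacher.pureMat_mulVec]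
    funext a
    refine Finset.prod_eq_zero (mem_univ m₀) ?_
    beta_reduce
    rw [← mulVec_mulVec, hkill m₀ hp₀, mulVec_zero]
    rfl
  rw [lhs, rhs] at h4
  exact pureVec_ne_zero (fun m => smul_ne_zero (hcc m) (hw m)) h4

/-- The radical elements are the Siegel elements of the slot. -/
theorem Over.rad_eq [Finite F] [NeZero k] (hH : 𝕘.Over H) (hk : 3 ≤ k) (h : 𝕘.Hyp v v') (hno : 𝕘.NoRoot H)
    {r : (Mat F k t)ˣ} (hr : 𝕘.IsRad H l v r) :
    ∃ a, ∃ ha : 𝕘.InU v v' a, r = slU l (𝕘.ueU h.vv ha.1) := by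
  classical
  rcases isEmpty_or_nonempty (Fin t → Fin k) with he | hne
  · exact absurd he (not_isEmpty_of_nonempty _)
  obtain ⟨i₀⟩ := hne
  set f := 𝕘.mvec l v v' ((r : Mat F k t) - 1) with hfdef
  have hf : f ∈ mspace hH h l := ⟨r, hr, rfl⟩
  choose c hc using fun z => hH.mvec_scalar hk h hno hf z
  have hcd : ∀ z, c z = f z i₀ i₀ := fun z => by rw [hc z]; simp
  let φ : (Fin k → F) →ₗ[F] F :=
    { toFun := fun z => f z i₀ i₀
      map_add' := fun z z' => by simp only [hfdef, mvec_add, Matrix.add_apply]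
      map_smul' := fun s z => by
        simp only [hfdef, mvec_smul, Matrix.smul_apply, RingHom.id_apply, smul_eq_mul] }
  obtain ⟨u, hu⟩ := 𝕘.unit
  set a := (↑u⁻¹ : Matrix (Fin k) (Fin k) F) *ᵥ fun i => φ (Pi.single i 1) with hadef
  have hb : ∀ z, 𝕘.β a z = c z := fun z => by
    rw [β_comm, β, hadef, mulVec_mulVec, ← hu, u.mul_inv, one_mulVec, hcd]
    show _ = φ z
    conv_rhs => rw [← Finset.univ_sum_single z, map_sum]
    refine Finset.sum_congr rfl fun m _ => ?_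
    rw [← smul_eq_mul, ← map_smul]
    congr 1
    funext q
    rcases eq_or_ne q m with rfl | hq <;> simp [*]
  have haU : 𝕘.InU v v' a := by
    have hz : ∀ u, 𝕘.pr v v' u = 0 → 𝕘.β a u = 0 := fun u hu => by
      rw [hb, hcd, hfdef, mvec, hu, ct_zero_left, Matrix.zero_apply]
    constructor <;> rw [β_comm] <;> refine hz _ ?_ <;> simp [pr, h.vv, h.ww, h.vw, h.wv]
  refine ⟨-a, ⟨by rw [β_neg_right, haU.1, neg_zero], by rw [β_neg_right, haU.2, neg_zero]⟩, ?_⟩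
  set s := slU (t := t) l (𝕘.ueU h.vv haU.1) with hs
  have hsZ : ∀ x y, 𝕘.ct l x y ((s : Mat F k t) - 1) =
      (𝕘.β a y * 𝕘.β x v - 𝕘.β v y * 𝕘.β x a - 2⁻¹ * 𝕘.β a a * (𝕘.β v y * 𝕘.β x v)) • (1 : Mat F k t) :=
    fun x y => by
    rw [hs, slU_val, ueU_val, ← sl_one l, ← sl_sub, ct_sl, ue, sub_mulVec, sub_mulVec, add_mulVec, one_mulVec,
      smul_mulVec, tau_mulVec, β_sub_right, β_sub_right, β_add_right, β_smul_right, β_smul_right, β_N, sl_one]
    congr 1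
    ring
  have hsR : 𝕘.IsRad H l v s := by
    refine ⟨hH.om l _ (𝕘.ueU_mem (hH.big hk) h.vv haU.1), fun x => ?_, fun x => ?_, fun x y hx hy => ?_⟩ <;>
      rw [hsZ]
    · simp [haU.comm.1, h.vv]
    · simp [haU.1, h.vv]
    · simp [𝕘.β_comm v x, hx, hy]
  obtain ⟨hrs, hM⟩ := hr.mul h hsR
  have hanti : ∀ z, 𝕘.InU v v' z → 𝕘.ct l v' z (((r * s : (Mat F k t)ˣ) : Mat F k t) - 1) =
      -𝕘.ct l z v' (((r * s : (Mat F k t)ˣ) : Mat F k t) - 1) := fun z hz => hrs.anti hH hk h hno hz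
  obtain ⟨hrsH, hr1, hr2, hr3⟩ := hrs
  set Z := ((r * s : (Mat F k t)ˣ) : Mat F k t) - 1 with hZ
  clear_value Z
  have hM0 : ∀ x, 𝕘.InU v v' x → 𝕘.ct l x v' Z = 0 := fun x hx => by
    have hf' : 𝕘.ct l x v' ((r : Mat F k t) - 1) = c x • 1 := by
      have := hc x
      rwa [hfdef, mvec, show 𝕘.pr v v' x = x by rw [pr, hx.1, hx.2, zero_smul, zero_smul, sub_zero, sub_zero]] at this
    rw [hM x hx.1, hf', hsZ, hx.comm.1, h.vw, ← hb, 𝕘.β_comm a x]
    simp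
  have hZ0 : Z = sl l (𝕘.tau v v) * 𝕘.ct l v' v' Z := 𝕘.ext_ct l fun x y => by
    rw [𝕘.ct_sl_mul (𝕘.ct_off _ _ _ _), tau_mulVec, β_smul_right, 𝕘.β_comm v x]
    have hpx := 𝕘.pr_inU h x
    have hpy := 𝕘.pr_inU h y
    conv_lhs => rw [← 𝕘.decomp (v := v) (v' := v') x, ← 𝕘.decomp (v := v) (v' := v') y]
    simp only [ct_add_left, ct_add_right, ct_smul_left, ct_smul_right, hr1, hr2,
      hr3 _ _ hpx.1 hpy.1, hM0 _ hpx, hanti _ hpy, hM0 _ hpy, smul_zero, neg_zero, add_zero,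
      zero_add, smul_smul]
  have hK := hno l v h.v_ne h.vv _ (𝕘.ct_off l v' v' Z) ⟨r * s, hrsH, by rw [← hZ0, hZ]; abel⟩
  rw [hK, mul_zero, hZ, sub_eq_zero, ← Units.val_one] at hZ0
  have h1 : r * s = 1 := Units.ext hZ0
  rw [eq_inv_of_mul_eq_one_left h1, hs, ← map_inv]
  congr 1
  exact Units.ext (by rw [ueU_inv, ueU_val])

end Gram

end Cfsg.Agent.H24.OWr
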