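import Cfsg.Agent.H24.OWr.Transfer

/-!
In a group without roots the conjugates of slot root maps are sums of slot matrices.
-/

set_option autoImplicit false
set_option linter.unusedVariables false
set_option linter.unusedSectionVars false
set_option linter.style.haveILetI false
set_option linter.unusedSimpArgs false

namespace Cfsg.Agent.H24.OWr

open Matrix Finset
open Cfsg.Agent.Aschbacher (pureMat slotMat cj)
open Cfsg.Agent.H24.Wreath (Mat sl Off off_one off_sl sl_mul sl_one sl_add sl_smul sl_zero sl_neg sl_sub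
  sl_injective off_pureMat pureMat_eq_sl_mul)

variable {F : Type*} [Field F] {k t : ℕ}

namespace Gram

variable {𝕘 : Gram F k} {H : Subgroup (Mat F k t)ˣ} {v v' z y : Fin k → F} [Fintype (Cos H)] [DecidableEq (Cos H)]
  [Finite F] [NeZero k] [NeZero t]

/-- The two facts about the transfer at one root. -/
def RootData (𝕘 : Gram F k) (H : Subgroup (Mat F k t)ˣ) [Fintype (Cos H)] (v z : Fin k → F) : Prop :=
  (∀ i A, Off i A → ∃ α : F, T H (sl i (𝕘.N v z) * A) = α • sl i (𝕘.N v z)) ∧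
    ∀ j : Fin t, ∃ (A : Mat F k t) (c : F), Off j A ∧ c ≠ 0 ∧ 𝕘.adj A = A ∧
      T H (sl j (𝕘.N v z) * A) = c • sl j (𝕘.N v z)

theorem root_data (hH : 𝕘.Over H) (hk : 3 ≤ k) (hno : 𝕘.NoRoot H) (h : 𝕘.Hyp v v') (hz : 𝕘.InU v v' z)
    (hzn : 𝕘.β z z ≠ 0) : RootData 𝕘 H v z := by
  classical
  letI : Fintype F := Fintype.ofFinite F
  obtain ⟨n0, hp, hn0⟩ := FiniteField.card F (ringChar F)
  by_cases h3 : 3 < Nat.card F
  · let e : F →+ (Fin k → F) := (LinearMap.toSpanSingleton F (Fin k → F) z).toAddMonoidHom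
    have he : ∀ d, 𝕘.InU v v' (e d) := fun d => 𝕘.inU_smul hz d
    have hline : ∀ s : F, ∃ d, e d = s • z := fun s => ⟨s, rfl⟩
    have hW : ∀ (i : Fin t) (a : F → Cos H → Cos H) (f : Cos H → Mat F k t), IsAct a →
        (∀ d q, f (a d q) = 𝕘.adU i h.vv (he d).1 (f q)) → ∀ q, ¬ Fixed a q → ∑ r ∈ orb a q, f r ∈ 𝕘.WS i v v' :=
      fun i a f ha hf q hq => line_mem ha h hz hzn h3 hf hq
    refine ⟨fun i A hA => ?_, fun j => ?_⟩
    · obtain ⟨α, -, hα, -⟩ := T_sl_N hH hk hno h he hz hzn hline hW i hA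
      exact ⟨α, hα⟩
    refine T_eval hH hk hno h he hz hzn hline hW (M := 𝕘.tau z z) (by rwa [trace_tau]) (adjD_tau 𝕘 z z) ?_ j
    intro a f ψ q ha hq hf
    refine line_zero (E := Mat F k t) 𝕘.two h3 ha hq (A := ψ (𝕘.tau z z))
      (B := -𝕘.β z z • (ψ (𝕘.tau v z) + ψ (𝕘.tau z v))) (C := (𝕘.β z z * 𝕘.β z z) • ψ (𝕘.tau v v)) fun s => ?_
    rw [hf s, show e s = s • z from rfl]
    have hs : 𝕘.β v (s • z) = 0 := (𝕘.inU_smul hz s).1
    have hs' : 𝕘.β v (-(s • z)) = 0 := by rw [β_neg_right, hs, neg_zero]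
    have hinv : 𝕘.ue v (-(s • z)) * 𝕘.ue v (s • z) = 1 := by
      rw [ue_mul 𝕘 h.vv hs' hs, neg_add_cancel, ue_zero]
    have hPz : 𝕘.ue v (-(s • z)) *ᵥ z = z + (-(s * 𝕘.β z z)) • v := by
      rw [ue_mulVec, hz.1, zero_smul, mul_zero, zero_smul, sub_zero, sub_zero, β_neg_left, β_smul_left]
    rw [conj_tau 𝕘 (𝕘.ue_iso h.vv hs') hinv, hPz]
    simp only [tau_add_left, tau_add_right, tau_smul_left, tau_smul_right, map_add, map_smul, smul_add, smul_smul]
    module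
  · obtain ⟨h3', hk4⟩ := card_eq_three (hH.big hk) h3
    obtain ⟨y, hy, hzy, hyn⟩ := h.exists_mate hk4 h3' (hH.big hk).2.2 hz hzn
    let e : F × F →+ (Fin k → F) := ((LinearMap.toSpanSingleton F (Fin k → F) z).coprod
      (LinearMap.toSpanSingleton F (Fin k → F) y)).toAddMonoidHom
    have he : ∀ d, 𝕘.InU v v' (e d) := fun d => 𝕘.inU_add (𝕘.inU_smul hz d.1) (𝕘.inU_smul hy d.2)
    have hline : ∀ s : F, ∃ d, e d = s • z := fun s => ⟨(s, 0), by
      show s • z + (0 : F) • y = s • z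
      rw [zero_smul, add_zero]⟩
    have hW : ∀ (i : Fin t) (a : F × F → Cos H → Cos H) (f : Cos H → Mat F k t), IsAct a →
        (∀ d q, f (a d q) = 𝕘.adU i h.vv (he d).1 (f q)) → ∀ q, ¬ Fixed a q → ∑ r ∈ orb a q, f r ∈ 𝕘.WS i v v' :=
      fun i a f ha hf q hq => plane_mem ha h hz hy hzn hzy hyn h3' hf hq
    refine ⟨fun i A hA => ?_, fun j => ?_⟩
    · obtain ⟨α, -, hα, -⟩ := T_sl_N hH hk hno h he hz hzn hline hW i hA
      exact ⟨α, hα⟩
    -- a fixed self-adjoint map with non-zero trace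
    obtain ⟨M, hMt, hMa, hMc⟩ : ∃ M : Matrix (Fin k) (Fin k) F, M.trace ≠ 0 ∧ 𝕘.adjD M = M ∧
        ∀ d : F × F, 𝕘.ue v (-(e d)) * M * 𝕘.ue v (e d) = M := by
      have hinv : ∀ d : F × F, 𝕘.ue v (-(e d)) * 𝕘.ue v (e d) = 1 := fun d => by
        rw [ue_mul 𝕘 h.vv (by rw [β_neg_right, (he d).1, neg_zero]) (he d).1, neg_add_cancel, ue_zero]
      rcases Nat.lt_or_ge k 5 with hk5 | hk5
      · refine ⟨1, ?_, adjD_one 𝕘, fun d => by rw [mul_one, hinv]⟩
        rw [Matrix.trace_one, Fintype.card_fin, show k = 2 * 2 by omega, Nat.cast_mul]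
        exact mul_ne_zero 𝕘.two 𝕘.two
      · obtain ⟨w, hw, hpw, hwn⟩ := h.exists_aniso (j := 2) (by omega) ![z, y]
          (fun i => by fin_cases i <;> assumption)
          (fun i => by fin_cases i <;> simp [hzn, hyn])
          (fun i l hil => by fin_cases i <;> fin_cases l <;> simp_all [𝕘.β_comm z y])
        have hzw : 𝕘.β z w = 0 := hpw 0
        have hyw : 𝕘.β y w = 0 := hpw 1
        refine ⟨𝕘.tau w w, by rwa [trace_tau], adjD_tau 𝕘 w w, fun d => ?_⟩
        have hd' : 𝕘.β v (-(e d)) = 0 := by rw [β_neg_right, (he d).1, neg_zero]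
        have hPw : 𝕘.ue v (-(e d)) *ᵥ w = w := by
          have h0 : 𝕘.β (-(e d)) w = 0 := by
            show 𝕘.β (-(d.1 • z + d.2 • y)) w = 0
            rw [β_neg_left, β_add_left, β_smul_left, β_smul_left, hzw, hyw, mul_zero, mul_zero, add_zero, neg_zero]
          rw [ue_mulVec, h0, hw.1, zero_smul, zero_smul, mul_zero, zero_smul, add_zero, sub_zero, sub_zero]
        rw [conj_tau 𝕘 (𝕘.ue_iso h.vv hd') (hinv d), hPw]
    refine T_eval hH hk hno h he hz hzn hline hW hMt hMa ?_ j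
    intro a f ψ q ha hq hf
    refine sum_orb_const (F := F) (E := Mat F k t) ha hp (n := (n0 : ℕ) + n0) ?_ hq fun d => ?_
    · rw [Fintype.card_prod, hn0, pow_add]
    · conv_rhs => rw [← ha.zero q, hf, hMc]
      rw [hf, hMc]

/-- The slot matrices whose products with factors off the slot transfer into the slot sums. -/
def Spl (H : Subgroup (Mat F k t)ˣ) [Fintype (Cos H)] : Submodule F (Matrix (Fin k) (Fin k) F) where
  carrier := {K | ∀ (i : Fin t) (A : Mat F k t), Off i A → T H (sl i K * A) ∈ (L0 : Submodule F (Mat F k t))}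
  add_mem' := fun {K K'} hK hK' i A hA => by
    rw [sl_add, add_mul, map_add]; exact Submodule.add_mem _ (hK i A hA) (hK' i A hA)
  zero_mem' := fun i A hA => by rw [sl_zero, zero_mul, map_zero]; exact Submodule.zero_mem _
  smul_mem' := fun c K hK i A hA => by
    rw [sl_smul, smul_mul_assoc, map_smul]; exact Submodule.smul_mem _ _ (hK i A hA)

theorem spl_conj (hH : 𝕘.Over H) {P : (Matrix (Fin k) (Fin k) F)ˣ} (hP : P ∈ 𝕘.Om)
    {K : Matrix (Fin k) (Fin k) F} (hK : K ∈ Spl H) :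
    (P : Matrix (Fin k) (Fin k) F) * K * ((P⁻¹ : (Matrix (Fin k) (Fin k) F)ˣ) : Matrix (Fin k) (Fin k) F) ∈ Spl H := by
  intro i A hA
  set g : H := ⟨slU i P, hH.om i P hP⟩
  have e : cj ((g : H) : (Mat F k t)ˣ) (sl i K * A) =
      sl i ((P : Matrix (Fin k) (Fin k) F) * K * ((P⁻¹ : (Matrix (Fin k) (Fin k) F)ˣ) : Matrix (Fin k) (Fin k) F)) * A := by
    rw [Aschbacher.cj_apply, show ((g : H) : (Mat F k t)ˣ) = slU i P from rfl, slU_val, slU_inv, ← mul_assoc, sl_mul,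
      mul_assoc, ← hA, ← mul_assoc, sl_mul]
  rw [← e, T_conj]
  exact L0_conj (mono_slU i P) (hK i A hA)

theorem N_swap (a b : Fin k → F) : 𝕘.N a b = -𝕘.N b a := by rw [N, N, neg_sub]

theorem N_add_left (a a' b : Fin k → F) : 𝕘.N (a + a') b = 𝕘.N a b + 𝕘.N a' b := by
  rw [N, N, N, tau_add_left, tau_add_right]; abel

/-- Every skew rank two map is among them. -/
theorem N_mem_spl (hH : 𝕘.Over H) (hk : 3 ≤ k) (hno : 𝕘.NoRoot H) (h : 𝕘.Hyp v v') (a b : Fin k → F) :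
    𝕘.N a b ∈ Spl H := by
  have hsing : ∀ {w w' : Fin k → F}, 𝕘.Hyp w w' → ∀ p, 𝕘.InU w w' p → 𝕘.N w p ∈ Spl H := by
    intro w w' hw p hp
    refine (Submodule.Quotient.mk_eq_zero _).1
      (hw.span_aniso hk (L := fun p => (Submodule.Quotient.mk (𝕘.N w p) : _ ⧸ Spl H))
        (fun p p' => by rw [N_add]; rfl) (fun z hz hzn => ?_) hp)
    rw [Submodule.Quotient.mk_eq_zero]
    intro i A hA
    obtain ⟨α, hα⟩ := (root_data hH hk hno hw hz hzn).1 i A hA
    rw [hα]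
    exact Submodule.smul_mem _ _ (sl_mem_L0 _ _)
  have hv : ∀ p, 𝕘.InU v v' p → 𝕘.N v p ∈ Spl H := hsing h
  have hv' : ∀ p, 𝕘.InU v v' p → 𝕘.N v' p ∈ Spl H := fun p hp => hsing h.symm p hp.symm
  -- moving by a Siegel element at the other vector
  have hmove : ∀ p r, 𝕘.InU v v' p → 𝕘.InU v v' r →
      𝕘.β r p • 𝕘.N v v' - 𝕘.N r p ∈ Spl H := by
    intro p r hp hr
    have hP := 𝕘.ueU_mem (hH.big hk) h.ww hr.2
    have h1 := spl_conj hH hP (hv p hp)
    rw [ueU_val, ueU_inv, conj_N 𝕘 (𝕘.ue_iso h.ww hr.2) (by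
      rw [ue_mul 𝕘 h.ww hr.2 (by rw [β_neg_right, hr.2, neg_zero]), add_neg_cancel, ue_zero])] at h1
    have e : 𝕘.N (𝕘.ue v' r *ᵥ v) (𝕘.ue v' r *ᵥ p) =
        𝕘.N v p + 𝕘.β r p • 𝕘.N v v' - 𝕘.N r p - 𝕘.β r p • 𝕘.N r v' - (2⁻¹ * 𝕘.β r r) • 𝕘.N v' p := by
      have e1 : 𝕘.ue v' r *ᵥ v = v + (-1 : F) • r + (-(2⁻¹ * 𝕘.β r r)) • v' := by
        rw [ue_mulVec, hr.comm.1, h.wv, zero_smul, one_smul, mul_one, add_zero]; module
      have e2 : 𝕘.ue v' r *ᵥ p = p + 𝕘.β r p • v' := by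
        rw [ue_mulVec, hp.2, zero_smul, mul_zero, zero_smul, sub_zero, sub_zero]
      rw [e1, e2]
      simp only [N_add, N_add_left, N_smul_left, N_smul, N_self, smul_zero, smul_smul]
      module
    rw [e] at h1
    have h2 : 𝕘.N r v' ∈ Spl H := by rw [N_swap]; exact Submodule.neg_mem _ (hv' r hr)
    have h3 := Submodule.add_mem _ (Submodule.sub_mem _ (Submodule.add_mem _ h1 (Submodule.smul_mem _ (𝕘.β r p) h2))
      (hv p hp)) (Submodule.smul_mem _ (2⁻¹ * 𝕘.β r r) (hv' p hp))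
    convert h3 using 1
    abel
  have hvv' : 𝕘.N v v' ∈ Spl H := by
    obtain ⟨z, hz, hzn⟩ := h.aniso hk
    have h1 := hmove z z hz hz
    rw [N_self, sub_zero] at h1
    exact (Submodule.smul_mem_iff _ hzn).1 h1
  have huu : ∀ p r, 𝕘.InU v v' p → 𝕘.InU v v' r → 𝕘.N r p ∈ Spl H := fun p r hp hr => by
    have h1 := Submodule.sub_mem _ (Submodule.smul_mem _ (𝕘.β r p) hvv') (hmove p r hp hr)
    rwa [sub_sub_cancel] at h1
  have hpa := 𝕘.pr_inU h a
  have hpb := 𝕘.pr_inU h b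
  have hexp : ∀ (α α' γ γ' : F) (p r : Fin k → F), 𝕘.N (α • v + α' • v' + p) (γ • v + γ' • v' + r) =
      (α * γ' - α' * γ) • 𝕘.N v v' + α • 𝕘.N v r + α' • 𝕘.N v' r - γ • 𝕘.N v p - γ' • 𝕘.N v' p + 𝕘.N p r := by
    intro α α' γ γ' p r
    simp only [N_add, N_add_left, N_smul_left, N_smul, N_self, smul_zero, N_swap v' v, N_swap p v, N_swap p v']
    module
  rw [← 𝕘.decomp (v := v) (v' := v') a, ← 𝕘.decomp (v := v) (v' := v') b, hexp]
  exact Submodule.add_mem _ (Submodule.sub_mem _ (Submodule.sub_mem _ (Submodule.add_mem _ (Submodule.add_mem _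
    (Submodule.smul_mem _ _ hvv') (Submodule.smul_mem _ _ (hv _ hpb))) (Submodule.smul_mem _ _ (hv' _ hpb)))
    (Submodule.smul_mem _ _ (hv _ hpa))) (Submodule.smul_mem _ _ (hv' _ hpa))) (huu _ _ hpb hpa)

theorem skew_mem_spl (hH : 𝕘.Over H) (hk : 3 ≤ k) (hno : 𝕘.NoRoot H) (X : Matrix (Fin k) (Fin k) F) :
    X - 𝕘.adjD X ∈ Spl H := by
  obtain ⟨v, hv0, hvv⟩ := 𝕘.exists_singular hk
  obtain ⟨v', h⟩ := 𝕘.exists_hyp hv0 hvv
  obtain ⟨g, hg⟩ := 𝕘.unit
  rw [matrix_eq_sum_single X]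
  have hlin : ∀ (s : Finset (Fin k × Fin k)) (f : Fin k × Fin k → Matrix (Fin k) (Fin k) F),
      𝕘.adjD (∑ i ∈ s, f i) = ∑ i ∈ s, 𝕘.adjD (f i) := fun s f => by
    simp only [adjD, Matrix.transpose_sum, Finset.mul_sum, Finset.sum_mul]
  rw [← Finset.sum_product', hlin, ← Finset.sum_sub_distrib]
  refine Submodule.sum_mem _ fun ab _ => ?_
  obtain ⟨a, b⟩ := ab
  set x : Fin k → F := X a b • Pi.single a 1
  set y : Fin k → F := (g⁻¹ : (Matrix (Fin k) (Fin k) F)ˣ).val *ᵥ Pi.single b 1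
  have e : Matrix.single a b (X a b) = 𝕘.tau x y := by
    have hy : y ᵥ* 𝕘.G = Pi.single b 1 := by
      rw [← Matrix.mulVec_transpose, 𝕘.symm, mulVec_mulVec, ← hg, g.mul_inv, one_mulVec]
    ext p q
    simp only [tau, vecMulVec_apply, hy, x, Pi.smul_apply, smul_eq_mul, Matrix.single_apply, Pi.single_apply]
    rcases eq_or_ne p a with rfl | hp <;> rcases eq_or_ne q b with rfl | hq
    · simp
    · simp [hq, hq.symm]
    · simp [hp, hp.symm]
    · simp [hp, hp.symm, hq]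
  rw [e, adjD_tau]
  exact N_mem_spl hH hk hno h x y

/-- The transfer of a skew matrix is a slot sum. -/
theorem T_skew (hH : 𝕘.Over H) (hk : 3 ≤ k) (hno : 𝕘.NoRoot H) {Z : Mat F k t} (hZ : 𝕘.adj Z = -Z) :
    T H Z ∈ (L0 : Submodule F (Mat F k t)) := by
  classical
  let f : Mat F k t →ₗ[F] Mat F k t :=
    { toFun := fun W => T H (W - 𝕘.adj W)
      map_add' := fun W W' => by rw [adj_add, ← map_add]; congr 1; abel
      map_smul' := fun c W => by rw [adj_smul, ← smul_sub, map_smul, RingHom.id_apply] }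
  have hf : (Submodule.mkQ (L0 : Submodule F (Mat F k t))).comp f = 0 := by
    refine ext_pure fun X => ?_
    show Submodule.Quotient.mk (T H (pureMat X - 𝕘.adj (pureMat X))) = 0
    rw [Submodule.Quotient.mk_eq_zero, adj_pure]
    suffices hs : ∀ s : Finset (Fin t),
        T H (pureMat X - pureMat (fun i => if i ∈ s then 𝕘.adjD (X i) else X i)) ∈ (L0 : Submodule F (Mat F k t)) by
      have h1 := hs univ
      simpa only [mem_univ, if_true] using h1
    intro s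
    induction s using Finset.induction with
    | empty => simp
    | insert i s hi ih =>
      set Y : Fin t → Matrix (Fin k) (Fin k) F := fun m => if m ∈ s then 𝕘.adjD (X m) else X m with hY
      have e : (fun m => if m ∈ insert i s then 𝕘.adjD (X m) else X m) = Function.update Y i (𝕘.adjD (X i)) := by
        funext m
        rcases eq_or_ne m i with rfl | hm
        · simp
        · simp [hm, hY]
      rw [e, show pureMat X - pureMat (Function.update Y i (𝕘.adjD (X i))) =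
        (pureMat X - pureMat Y) + (sl i (X i - 𝕘.adjD (X i)) * pureMat (Function.update Y i 1) : Mat F k t) by
        rw [sl_sub, sub_mul, pureMat_eq_sl_mul (Function.update Y i (𝕘.adjD (X i))) i, Function.update_self,
          Function.update_idem]
        conv_rhs => rw [pureMat_eq_sl_mul Y i, show Y i = X i by simp [hY, hi]]
        abel, map_add]
      exact Submodule.add_mem _ ih (skew_mem_spl hH hk hno (X i) i _ (off_pureMat (by rw [Function.update_self])))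
  have h1 := LinearMap.congr_fun hf Z
  rw [LinearMap.comp_apply, LinearMap.zero_apply, Submodule.mkQ_apply, Submodule.Quotient.mk_eq_zero] at h1
  change T H (Z - 𝕘.adj Z) ∈ _ at h1
  rw [hZ, sub_neg_eq_add, map_add, ← two_smul F] at h1
  exact (Submodule.smul_mem_iff _ 𝕘.two).1 h1

end Gram

namespace Gram

variable {𝕘 : Gram F k} {H : Subgroup (Mat F k t)ˣ} {v v' z : Fin k → F}

/-- Conjugates of slot root maps are slot sums. -/
theorem Over.conj_root [Finite F] [NeZero k] [NeZero t] (hH : 𝕘.Over H) (hk : 3 ≤ k) (hno : 𝕘.NoRoot H)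
    (h : 𝕘.Hyp v v') (hz : 𝕘.InU v v' z) (hzn : 𝕘.β z z ≠ 0) {g : (Mat F k t)ˣ} (hg : g ∈ H) (j : Fin t) :
    cj g (sl j (𝕘.N v z)) ∈ (L0 : Submodule F (Mat F k t)) := by
  classical
  letI : Fintype (Cos H) := Fintype.ofFinite _
  obtain ⟨A, c, hA, hc, hadj, hT⟩ := (root_data hH hk hno h hz hzn).2 j
  have hskew : 𝕘.adj (cj g (sl j (𝕘.N v z) * A)) = -cj g (sl j (𝕘.N v z) * A) := by
    rw [Aschbacher.cj_apply, adj_conj 𝕘 (hH.iso g hg), adj_mul, hadj, adj_sl, adjD_N, sl_neg, mul_neg, ← hA, mul_neg,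
      neg_mul]
  have h1 := T_skew hH hk hno hskew
  rw [show cj g (sl j (𝕘.N v z) * A) = cj ((⟨g, hg⟩ : H) : (Mat F k t)ˣ) (sl j (𝕘.N v z) * A) from rfl, T_conj, hT,
    map_smul] at h1
  exact (Submodule.smul_mem_iff _ hc).1 h1

end Gram

end Cfsg.Agent.H24.OWr
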