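import Cfsg.Agent.H24.OWr.Bad

/-!
The projection of a matrix of the tensor power on the sums of slot matrices; it commutes with monomial conjugations.
-/

set_option autoImplicit false
set_option linter.unusedVariables false

namespace Cfsg.Agent.H24.OWr

open Matrix Finset
open Cfsg.Agent.Aschbacher (pureMat slotMat pureGL factorPerm factorPermGL cj)
open Cfsg.Agent.H24.Wreath (Mat sl Off off_one off_sl sl_mul sl_one sl_add sl_smul sl_zero sl_neg sl_sub
  sl_injective off_pureMat pureMat_eq_sl_mul)

variable {F : Type*} [Field F] {k t : ℕ}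

/-- A slot as a linear map. -/
def slL (l : Fin t) : Matrix (Fin k) (Fin k) F →ₗ[F] Mat F k t where
  toFun := sl l
  map_add' := sl_add l
  map_smul' := sl_smul l

@[simp] theorem slL_apply (l : Fin t) (X : Matrix (Fin k) (Fin k) F) : slL l X = (sl l X : Mat F k t) := rfl

/-- The sum of slot matrices. -/
def slSum : (Fin t → Matrix (Fin k) (Fin k) F) →ₗ[F] Mat F k t :=
  ∑ l, (slL l).comp (LinearMap.proj l)

theorem slSum_apply (X : Fin t → Matrix (Fin k) (Fin k) F) : slSum X = ∑ l, (sl l (X l) : Mat F k t) := by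
  simp [slSum]

/-- The sums of slot matrices. -/
def L0 : Submodule F (Mat F k t) := LinearMap.range slSum

theorem sl_mem_L0 (l : Fin t) (X : Matrix (Fin k) (Fin k) F) : (sl l X : Mat F k t) ∈ L0 := by
  classical
  refine ⟨Pi.single l X, ?_⟩
  rw [slSum_apply, Finset.sum_eq_single l, Pi.single_eq_same]
  · intro i _ hi; rw [Pi.single_eq_of_ne hi, sl_zero]
  · exact fun h => absurd (mem_univ _) h

/-- The partial trace on a slot. -/
def ptr (l : Fin t) : Mat F k t →ₗ[F] Matrix (Fin k) (Fin k) F where
  toFun Z := Matrix.of fun a b => ∑ x : Fin t → Fin k, if x l = a then Z x (Function.update x l b) else 0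
  map_add' Z W := by
    ext a b
    simp only [Matrix.of_apply, Matrix.add_apply, ← Finset.sum_add_distrib]
    exact Finset.sum_congr rfl fun x _ => by split_ifs <;> simp
  map_smul' c Z := by
    ext a b
    simp only [Matrix.of_apply, Matrix.smul_apply, Finset.smul_sum, smul_ite, smul_zero, RingHom.id_apply]

theorem ptr_pure (l : Fin t) (X : Fin t → Matrix (Fin k) (Fin k) F) :
    ptr l (pureMat X : Mat F k t) = (∏ m ∈ univ.erase l, (X m).trace) • X l := by
  classical
  ext a b
  let f : Fin t → Fin k → F := fun m p => if m = l then (if p = a then X l p b else 0) else X m p p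
  have h1 : ∀ x : Fin t → Fin k, (if x l = a then (pureMat X : Mat F k t) x (Function.update x l b) else 0) =
      ∏ m, f m (x m) := by
    intro x
    by_cases hx : x l = a
    · rw [if_pos hx]
      simp only [pureMat, Matrix.of_apply]
      refine Finset.prod_congr rfl fun m _ => ?_
      rcases eq_or_ne m l with rfl | hm
      · simp [f, hx]
      · simp [f, hm]
    · rw [if_neg hx]
      exact (Finset.prod_eq_zero (mem_univ l) (by simp [f, hx])).symm
  simp only [ptr, LinearMap.coe_mk, AddHom.coe_mk, Matrix.of_apply, h1, Matrix.smul_apply, smul_eq_mul]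
  rw [← Fintype.prod_sum f, ← Finset.mul_prod_erase _ _ (mem_univ l), mul_comm]
  congr 1
  · refine Finset.prod_congr rfl fun m hm => ?_
    simp [f, ne_of_mem_erase hm, Matrix.trace]
  · simp [f]

/-- The projection on the sums of slot matrices. -/
def proj : Mat F k t →ₗ[F] Mat F k t := slSum.comp (LinearMap.pi fun l => ptr l)

theorem proj_mem (Z : Mat F k t) : proj Z ∈ (L0 : Submodule F (Mat F k t)) := ⟨_, rfl⟩

theorem proj_pure (X : Fin t → Matrix (Fin k) (Fin k) F) :
    proj (pureMat X : Mat F k t) = ∑ l, (∏ m ∈ univ.erase l, (X m).trace) • (sl l (X l) : Mat F k t) := by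
  simp [proj, slSum_apply, ptr_pure, sl_smul]

/-- Two linear maps agreeing on pure matrices are equal. -/
theorem ext_pure {E : Type*} [AddCommMonoid E] [Module F E] {f g : Mat F k t →ₗ[F] E}
    (h : ∀ X, f (pureMat X) = g (pureMat X)) : f = g := by
  classical
  refine LinearMap.ext fun Z => ?_
  have hs : ∀ x y, f (Matrix.single x y 1) = g (Matrix.single x y 1) := fun x y => by
    have e : (Matrix.single x y 1 : Mat F k t) = pureMat fun m => Matrix.single (x m) (y m) 1 := by
      ext a c
      simp only [pureMat, Matrix.of_apply, Matrix.single_apply]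
      by_cases hac : x = a ∧ y = c
      · rw [if_pos hac]; simp [hac.1, hac.2]
      · rw [if_neg hac]
        rcases not_and_or.1 hac with hx | hy
        · obtain ⟨m, hm⟩ := Function.ne_iff.1 hx
          exact (Finset.prod_eq_zero (mem_univ m) (by rw [if_neg]; exact fun e => hm e.1)).symm
        · obtain ⟨m, hm⟩ := Function.ne_iff.1 hy
          exact (Finset.prod_eq_zero (mem_univ m) (by rw [if_neg]; exact fun e => hm e.2)).symm
    rw [e, h]
  rw [matrix_eq_sum_single Z]
  simp only [map_sum]
  refine Finset.sum_congr rfl fun x _ => Finset.sum_congr rfl fun y _ => ?_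
  rw [show Matrix.single x y (Z x y) = Z x y • (Matrix.single x y 1 : Mat F k t) by
    rw [Matrix.smul_single, smul_eq_mul, mul_one], map_smul, map_smul, hs]

theorem trace_conj (A : (Matrix (Fin k) (Fin k) F)ˣ) (X : Matrix (Fin k) (Fin k) F) :
    ((A : Matrix (Fin k) (Fin k) F) * X * ((A⁻¹ : (Matrix (Fin k) (Fin k) F)ˣ) : Matrix (Fin k) (Fin k) F)).trace =
      X.trace := by
  rw [Matrix.trace_mul_comm, ← mul_assoc, A.inv_mul, one_mul]

/-- The projection commutes with monomial conjugations. -/
theorem proj_conj {g : (Mat F k t)ˣ} (hg : Gram.Mono (g : Mat F k t)) (Z : Mat F k t) :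
    proj ((g : Mat F k t) * Z * ((g⁻¹ : (Mat F k t)ˣ) : Mat F k t)) =
      (g : Mat F k t) * proj Z * ((g⁻¹ : (Mat F k t)ˣ) : Mat F k t) := by
  obtain ⟨A, π, hgA⟩ := hg
  have e : g = pureGL A * factorPermGL π := Units.ext hgA
  let c : Mat F k t →ₗ[F] Mat F k t := (cj g).toLinearMap
  have hc : ∀ W, c W = (g : Mat F k t) * W * ((g⁻¹ : (Mat F k t)ˣ) : Mat F k t) := fun W => rfl
  suffices hh : proj.comp c = c.comp proj by exact LinearMap.congr_fun hh Z
  refine ext_pure fun X => ?_
  have hcp : c (pureMat X) = pureMat fun m => (A m : Matrix (Fin k) (Fin k) F) * X (π.symm m) *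
      (((A m)⁻¹ : (Matrix (Fin k) (Fin k) F)ˣ) : Matrix (Fin k) (Fin k) F) := by
    rw [hc, e, _root_.mul_inv_rev, Units.val_mul, Units.val_mul,
      show ((factorPermGL π)⁻¹ : (Mat F k t)ˣ).val = factorPerm π.symm from rfl,
      show ((pureGL A)⁻¹ : (Mat F k t)ˣ).val = pureMat (fun m => (((A m)⁻¹ : (Matrix (Fin k) (Fin k) F)ˣ) : Matrix (Fin k) (Fin k) F)) from rfl,
      show (pureGL A : (Mat F k t)ˣ).val = pureMat (fun m => (A m : Matrix (Fin k) (Fin k) F)) from rfl,
      show (factorPermGL π : (Mat F k t)ˣ).val = factorPerm π from rfl, mul_assoc _ (factorPerm π),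
      Aschbacher.factorPerm_conj, ← mul_assoc (pureMat _) (pureMat _), Aschbacher.pureMat_mul, mul_assoc,
      ← mul_assoc (factorPerm π), Aschbacher.factorPerm_mul_factorPerm, one_mul, Aschbacher.pureMat_mul]
  rw [LinearMap.comp_apply, LinearMap.comp_apply, hcp, proj_pure, proj_pure, map_sum]
  refine (Fintype.sum_equiv π _ _ fun i => ?_).symm
  rw [map_smul, hc, e, Gram.sl_conj_mono, Equiv.symm_apply_apply]
  congr 1
  refine Finset.prod_equiv π (fun m => by simp) fun m _ => ?_
  rw [trace_conj, Equiv.symm_apply_apply]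

theorem proj_pure_update (M X : Matrix (Fin k) (Fin k) F) (hX : X.trace = 0) (j : Fin t) :
    proj (pureMat (Function.update (fun _ => M) j X) : Mat F k t) = M.trace ^ (t - 1) • (sl j X : Mat F k t) := by
  rw [proj_pure, Finset.sum_eq_single j]
  · rw [Function.update_self, Finset.prod_congr rfl (fun m hm => by
      rw [Function.update_of_ne (ne_of_mem_erase hm)] : ∀ m ∈ univ.erase j, _ = M.trace), Finset.prod_const,
      card_erase_of_mem (mem_univ j), card_univ, Fintype.card_fin]
  · intro l _ hl
    rw [Finset.prod_eq_zero (mem_erase.2 ⟨Ne.symm hl, mem_univ j⟩) (by rw [Function.update_self, hX]), zero_smul]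
  · exact fun h => absurd (mem_univ _) h

namespace Gram

variable {𝕘 : Gram F k}

theorem ct_pure [NeZero k] (l : Fin t) (x y : Fin k → F) (X : Fin t → Matrix (Fin k) (Fin k) F) :
    𝕘.ct l x y (pureMat X) = 𝕘.β x (X l *ᵥ y) • pureMat (Function.update X l 1) := by
  rw [pureMat_eq_sl_mul X l, 𝕘.ct_sl_mul (off_pureMat (by rw [Function.update_self]))]

/-- A trace-zero slot matrix with a factor off the slot projects into the slot. -/
theorem proj_sl_mul [NeZero k] {v v' : Fin k → F} (h : 𝕘.Hyp v v') (l : Fin t) {X : Matrix (Fin k) (Fin k) F}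
    (hX : X.trace = 0) {A : Mat F k t} (hA : Off l A) : ∃ c : F, proj (sl l X * A) = c • (sl l X : Mat F k t) := by
  let c : Mat F k t →ₗ[F] Mat F k t :=
    { toFun := fun Z => sl l X * 𝕘.ct l v v' Z
      map_add' := fun Z W => by rw [ct_add, mul_add]
      map_smul' := fun r Z => by rw [ct_smul, mul_smul_comm, RingHom.id_apply] }
  have hmem : ∀ Z, proj (c Z) ∈ F ∙ (sl l X : Mat F k t) := by
    have : (proj.comp c) = (proj.comp c) := rfl
    suffices hs : (Submodule.mkQ (F ∙ (sl l X : Mat F k t))).comp (proj.comp c) = 0 by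
      intro Z
      exact (Submodule.Quotient.mk_eq_zero _).1 (LinearMap.congr_fun hs Z)
    refine ext_pure fun Y => ?_
    show Submodule.Quotient.mk (proj (sl l X * 𝕘.ct l v v' (pureMat Y))) = 0
    rw [Submodule.Quotient.mk_eq_zero, ct_pure, mul_smul_comm, map_smul]
    refine Submodule.smul_mem _ _ ?_
    rw [show sl l X * pureMat (Function.update Y l 1) = (pureMat (Function.update Y l X) : Mat F k t) by
      rw [pureMat_eq_sl_mul (Function.update Y l X) l, Function.update_self, Function.update_idem], proj_pure]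
    refine Submodule.sum_mem _ fun m _ => ?_
    rcases eq_or_ne m l with rfl | hm
    · rw [Function.update_self]
      exact Submodule.smul_mem _ _ (Submodule.mem_span_singleton_self _)
    · rw [Finset.prod_eq_zero (mem_erase.2 ⟨Ne.symm hm, mem_univ l⟩) (by rw [Function.update_self, hX]), zero_smul]
      exact Submodule.zero_mem _
  have h1 := hmem A
  rw [show c A = sl l X * A by show sl l X * 𝕘.ct l v v' A = _; rw [𝕘.ct_of_off hA, h.vw, one_smul]] at h1
  obtain ⟨r, hr⟩ := Submodule.mem_span_singleton.1 h1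
  exact ⟨r, hr.symm⟩

theorem trace_tau (x y : Fin k → F) : (𝕘.tau x y).trace = 𝕘.β y x := by
  rw [tau, Matrix.trace_vecMulVec, dotProduct_comm, ← dotProduct_mulVec]
  rfl

theorem trace_N (v z : Fin k → F) : (𝕘.N v z).trace = 0 := by
  rw [N, Matrix.trace_sub, trace_tau, trace_tau, β_comm, sub_self]

end Gram

end Cfsg.Agent.H24.OWr
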