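import Cfsg.Agent.H24.OWr.Axes

/-!
A square root, among the isometries, of a reflection of one slot of a form in four variables with three slots or more.
-/

set_option autoImplicit false
set_option linter.unusedVariables false
set_option linter.unusedSimpArgs false

namespace Cfsg.Agent.H24.OWr

open Matrix Finset
open Cfsg.Agent.H24.Wreath (Mat sl Off off_one off_sl sl_mul sl_one sl_add sl_smul sl_zero sl_neg sl_sub sl_comm)

variable {F : Type*} [Field F] {k t : ℕ}

namespace Gram

variable (𝕘 : Gram F k)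

/-- An orthogonal basis in four variables. -/
theorem exists_orth_four (h4 : k = 4) : ∃ e : Fin 4 → Fin k → F,
    (∀ a, 𝕘.β (e a) (e a) ≠ 0) ∧ (∀ a b, a ≠ b → 𝕘.β (e a) (e b) = 0) := by
  suffices ∀ j, j ≤ 4 → ∃ e : Fin j → Fin k → F,
      (∀ a, 𝕘.β (e a) (e a) ≠ 0) ∧ (∀ a b, a ≠ b → 𝕘.β (e a) (e b) = 0) from this 4 le_rfl
  intro j
  induction j with
  | zero => exact fun _ => ⟨fun a => a.elim0, fun a => a.elim0, fun a => a.elim0⟩
  | succ j ih =>
    intro hj
    obtain ⟨e, he, ho⟩ := ih (by omega)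
    obtain ⟨x, hxe, hxn⟩ := 𝕘.exists_aniso_perp (by omega : j < k) e he ho
    refine ⟨Fin.snoc e x, fun a => ?_, fun a b hab => ?_⟩
    · induction a using Fin.lastCases with
      | last => simpa using hxn
      | cast a => simpa using he a
    · induction a using Fin.lastCases with
      | last =>
        induction b using Fin.lastCases with
        | last => exact absurd rfl hab
        | cast b => simpa [𝕘.β_comm (e b) x] using hxe b
      | cast a =>
        induction b using Fin.lastCases with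
        | last => simpa using hxe a
        | cast b => simpa using ho a b fun e' => hab (by rw [e'])

/-- A map `J` off a slot with square minus one, preserving the form. -/
theorem exists_off_sqrt_neg_one [NeZero k] (h4 : k = 4) {i j1 j2 : Fin t} (h1 : j1 ≠ i) (h2 : j2 ≠ i)
    (h12 : j1 ≠ j2) : ∃ J : Mat F k t, Off i J ∧ J * J = -1 ∧ 𝕘.adj J * J = 1 := by
  classical
  obtain ⟨e, he, ho⟩ := 𝕘.exists_orth_four h4
  set d : Fin 4 → F := fun a => 𝕘.β (e a) (e a) with hd
  set T : Fin 4 → Fin 4 → Matrix (Fin k) (Fin k) F := fun a b => (d b)⁻¹ • 𝕘.tau (e a) (e b) with hT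
  have hTT : ∀ a b c f, T a b * T c f = if b = c then T a f else 0 := fun a b c f => by
    simp only [hT, smul_mul_smul_comm, tau_mul_tau, smul_smul]
    rcases eq_or_ne b c with rfl | hbc
    · rw [if_pos rfl]
      congr 1
      simp only [hd]
      field_simp [he b, he f]
    · rw [if_neg hbc, ho b c hbc, mul_zero, zero_smul]
  have hsum : ∑ a, T a a = 1 := by
    refine Matrix.ext_iff_mulVec.2 fun y => ?_
    let f : (Fin k → F) →ₗ[F] (Fin k → F) :=
      LinearMap.pi fun a => (dotProductBilin F F (e (Fin.cast h4 a))).comp 𝕘.G.mulVecLin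
    have hf : ∀ y a, f y a = 𝕘.β (e (Fin.cast h4 a)) y := fun y a => rfl
    have hcomp : ∀ w : Fin 4 → F, ∀ b, 𝕘.β (e b) (∑ a, (w a / d a) • e a) = w b := fun w b => by
      rw [β_sum_right, Finset.sum_eq_single b]
      · rw [β_smul_right, div_mul_cancel₀ _ (he b)]
      · intro a _ ha; rw [β_smul_right, ho b a ha.symm, mul_zero]
      · exact fun hh => absurd (mem_univ b) hh
    have hs : Function.Surjective f := fun w =>
      ⟨∑ a, (w (Fin.cast h4.symm a) / d a) • e a, funext fun a => by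
        rw [hf, hcomp (fun a => w (Fin.cast h4.symm a))]; simp⟩
    refine (LinearMap.injective_iff_surjective.2 hs) (funext fun a => ?_)
    rw [hf, hf, one_mulVec, sum_mulVec]
    simp only [hT, smul_mulVec, tau_mulVec, smul_smul, inv_mul_eq_div]
    exact hcomp (fun b => 𝕘.β (e b) y) _
  have hadT : ∀ a b, 𝕘.adjD (T a b) = (d a / d b) • T b a := fun a b => by
    refine 𝕘.adjD_eq fun x y => ?_
    simp only [hT, smul_mulVec, tau_mulVec, β_smul_left, β_smul_right, 𝕘.β_comm (e b) x]
    simp only [hd]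
    field_simp [he a, he b]
  -- matrix units on the pairs
  set M : Fin 4 × Fin 4 → Fin 4 × Fin 4 → Mat F k t :=
    fun p q => sl j1 (T p.1 q.1) * sl j2 (T p.2 q.2) with hM
  have hMM : ∀ p q r s, M p q * M r s = if q = r then M p s else 0 := fun p q r s => by
    simp only [hM]
    rw [mul_assoc, ← mul_assoc (sl j2 _) (sl j1 _), sl_comm h12.symm, mul_assoc, ← mul_assoc, sl_mul, sl_mul, hTT, hTT]
    rcases eq_or_ne q r with rfl | hqr
    · simp
    · rw [if_neg hqr]
      have : q.1 ≠ r.1 ∨ q.2 ≠ r.2 := by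
        by_contra hh
        push Not at hh
        exact hqr (Prod.ext hh.1 hh.2)
      rcases this with h | h <;> simp [h, sl_zero]
  have hMsum : ∑ p, M p p = 1 := by
    simp only [hM, Fintype.sum_prod_type, ← Finset.mul_sum, ← Finset.sum_mul]
    simp only [← slL_apply, ← map_sum, hsum]
    simp only [slL_apply, sl_one, one_mul]
  set N : Fin 4 × Fin 4 → F := fun p => d p.1 * d p.2 with hN
  have hN0 : ∀ p, N p ≠ 0 := fun p => mul_ne_zero (he _) (he _)
  have hadM : ∀ p q, 𝕘.adj (M p q) = (N p / N q) • M q p := fun p q => by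
    simp only [hM, hN, adj_mul, adj_sl, hadT, sl_smul, smul_mul_smul_comm]
    rw [sl_comm h12.symm]
    congr 1
    ring
  set σ : Fin 4 → Fin 4 := ![1, 0, 3, 2] with hσ
  have hσσ : ∀ a, σ (σ a) = a := by decide
  have hσne : ∀ a, σ a ≠ a := by decide
  set π : Fin 4 × Fin 4 → Fin 4 × Fin 4 := fun p => if p.1 = p.2 then (σ p.1, σ p.1) else (p.2, p.1) with hπ
  have hππ : ∀ p, π (π p) = p := by
    rintro ⟨a, b⟩
    by_cases h : a = b
    · subst h; simp [hπ, hσσ]
    · simp [hπ, h, Ne.symm h]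
  set s : Fin 4 × Fin 4 → F := fun p =>
    if p.1 = p.2 then (if p.1 < σ p.1 then d p.1 / d (σ p.1) else -(d p.1 / d (σ p.1)))
    else (if p.1 < p.2 then 1 else -1) with hs
  have hss : ∀ p, s (π p) * s p = -1 := by
    rintro ⟨a, b⟩
    by_cases h : a = b
    · subst h
      have hlt : σ a < a ↔ ¬ a < σ a := by
        constructor
        · exact fun h1 h2 => lt_asymm h1 h2
        · exact fun h1 => lt_of_le_of_ne (not_lt.1 h1) (hσne a)
      simp only [hπ, hs, if_pos, hσσ]
      have := he a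
      have := he (σ a)
      by_cases h1 : a < σ a
      · rw [if_pos h1, if_neg (fun h2 => (hlt.1 h2) h1)]; simp only [hd]; field_simp
      · rw [if_neg h1, if_pos (hlt.2 h1)]; simp only [hd]; field_simp
    · simp only [hπ, hs, if_neg h, if_neg (Ne.symm h)]
      by_cases h1 : a < b
      · rw [if_pos h1, if_neg (lt_asymm h1)]; ring
      · rw [if_neg h1, if_pos (lt_of_le_of_ne (not_lt.1 h1) (Ne.symm h))]; ring
  have hsN : ∀ p, s p * s p * N (π p) = N p := by
    rintro ⟨a, b⟩
    by_cases h : a = b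
    · subst h
      simp only [hπ, hs, hN, if_pos]
      have := he a
      have := he (σ a)
      split_ifs <;> simp only [hd] <;> field_simp
    · simp only [hπ, hs, hN, if_neg h]
      split_ifs <;> ring
  refine ⟨∑ q, s q • M (π q) q, ?_, ?_, ?_⟩
  · refine off_sum _ fun q _ => Off.smul ((off_sl h1.symm _).mul (off_sl h2.symm _)) _
  · rw [Finset.sum_mul, ← hMsum, ← Finset.sum_neg_distrib]
    rw [← (Equiv.sum_comp (⟨π, π, hππ, hππ⟩ : Equiv.Perm (Fin 4 × Fin 4)) fun q => s q • M (π q) q * _)]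
    refine Finset.sum_congr rfl fun q _ => ?_
    simp only [Equiv.coe_fn_mk, hππ, Finset.mul_sum]
    rw [Finset.sum_eq_single q]
    · rw [smul_mul_smul_comm, hMM, if_pos rfl, hss, neg_one_smul]
    · intro r _ hr
      have : π q ≠ π r := fun h => hr (by rw [← hππ r, ← h, hππ])
      rw [smul_mul_smul_comm, hMM, if_neg this, smul_zero]
    · exact fun hh => absurd (mem_univ q) hh
  · rw [adj_sum, Finset.sum_mul, ← hMsum]
    refine Finset.sum_congr rfl fun q _ => ?_
    rw [adj_smul, hadM, smul_smul, Finset.mul_sum, Finset.sum_eq_single q]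
    · rw [smul_mul_smul_comm, hMM, if_pos rfl]
      rw [show s q * (N (π q) / N q) * s q = 1 by field_simp [hN0 q]; linear_combination hsN q, one_smul]
    · intro r _ hr
      have : π q ≠ π r := fun h => hr (by rw [← hππ r, ← h, hππ])
      rw [smul_mul_smul_comm, hMM, if_neg this, smul_zero]
    · exact fun hh => absurd (mem_univ q) hh

/-- An isometry whose square is a reflection of a slot. -/
theorem exists_sqrt_refl [NeZero k] (h4 : k = 4) (ht : 3 ≤ t) (i : Fin t) {y : Fin k → F}
    (hy : 𝕘.β y y ≠ 0) : ∃ x : (Mat F k t)ˣ, 𝕘.Iso (x : Mat F k t) ∧ x * x = slU i (𝕘.reflU hy) := by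
  classical
  obtain ⟨j1, hj1⟩ : ∃ j : Fin t, j ≠ i := exists_ne (by omega) i
  obtain ⟨j2, -, hj2⟩ := Finset.exists_mem_notMem_of_card_lt_card (s := ({i, j1} : Finset (Fin t))) (t := univ)
    (by rw [card_pair hj1.symm, card_univ, Fintype.card_fin]; omega)
  simp only [mem_insert, mem_singleton, not_or] at hj2
  obtain ⟨J, hJ, hJJ, hJa⟩ := 𝕘.exists_off_sqrt_neg_one h4 hj1 hj2.1 (Ne.symm hj2.2)
  set p := (𝕘.β y y)⁻¹ • 𝕘.tau y y with hp
  have hpp : p * p = p := by
    rw [hp, smul_mul_smul_comm, tau_mul_tau, smul_smul]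
    congr 1
    field_simp
  have hpq : p * (1 - p) = 0 := by rw [mul_sub, mul_one, hpp, sub_self]
  have hqp : (1 - p) * p = 0 := by rw [sub_mul, one_mul, hpp, sub_self]
  have hqq : (1 - p) * (1 - p) = 1 - p := by rw [mul_sub, mul_one, hqp, sub_zero]
  have hpa : 𝕘.adjD p = p := 𝕘.adjD_eq fun x z => by
    simp only [hp, smul_mulVec, tau_mulVec, β_smul_left, β_smul_right, 𝕘.β_comm y x]; ring
  have hqa : 𝕘.adjD (1 - p) = 1 - p := 𝕘.adjD_eq fun x z => by
    rw [sub_mulVec, sub_mulVec, one_mulVec, one_mulVec, β_sub_left, β_sub_right]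
    congr 1
    conv_rhs => rw [← hpa, ← β_adjD]
  set X : Mat F k t := sl i (1 - p) + sl i p * J with hX
  have hXX : X * X = sl i (𝕘.refl y) := by
    rw [hX, mul_add, add_mul, add_mul, sl_mul, hqq, ← mul_assoc (sl i (1 - p)), sl_mul, hqp, sl_zero, zero_mul,
      mul_assoc (sl i p) J (sl i (1 - p)), ← hJ, ← mul_assoc, sl_mul, hpq, sl_zero, zero_mul, add_zero, zero_add,
      mul_assoc, ← mul_assoc J, ← hJ, mul_assoc, hJJ, ← mul_assoc, sl_mul, hpp, mul_neg, mul_one, ← sub_eq_add_neg,
      ← sl_sub]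
    congr 1
    rw [refl, hp]
    module
  have hXa : 𝕘.adj X * X = 1 := by
    have hJ' := 𝕘.adj_off hJ
    rw [hX, adj_add, adj_mul, adj_sl, adj_sl, hpa, hqa, ← hJ', mul_add, add_mul, add_mul, sl_mul, hqq,
      ← mul_assoc (sl i (1 - p)), sl_mul, hqp, sl_zero, zero_mul, mul_assoc (sl i p) (𝕘.adj J) (sl i (1 - p)),
      ← hJ', ← mul_assoc, sl_mul, hpq, sl_zero, zero_mul, add_zero, zero_add, mul_assoc, ← mul_assoc (𝕘.adj J), ← hJ',
      mul_assoc, hJa, mul_one, sl_mul, hpp, ← sl_add, sub_add_cancel, sl_one]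
  refine ⟨⟨X, 𝕘.adj X, mul_eq_one_comm.1 hXa, hXa⟩, (𝕘.iso_iff).2 hXa, Units.ext ?_⟩
  rw [Units.val_mul, slU_val, reflU_val]
  exact hXX

end Gram

end Cfsg.Agent.H24.OWr
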