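import Cfsg.Agent.H24.OWr.Big

/-!
Sums over conjugates by Siegel elements of a slot: the top coefficient of the conjugation polynomial.
-/

set_option autoImplicit false

namespace Cfsg.Agent.H24.OWr

open Matrix Finset
open scoped commutatorElement
open Cfsg.Agent.H24.Wreath (Mat sl Off sl_mul sl_one sl_add sl_smul sl_zero sl_sub)

variable {F : Type*} [Field F] {k t : ℕ}

namespace Gram

variable (𝕘 : Gram F k)

theorem N_self (v : Fin k → F) : 𝕘.N v v = 0 := by rw [N, sub_self]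

theorem N_smul_left (c : F) (v z : Fin k → F) : 𝕘.N (c • v) z = 𝕘.N v (c • z) := by
  rw [N, N, tau_smul_left, tau_smul_right, tau_smul_right, tau_smul_left]

theorem ue_smul_left (c : F) (v z : Fin k → F) : 𝕘.ue (c • v) z = 𝕘.ue v (c • z) := by
  rw [ue, ue, N_smul_left, tau_smul_left, tau_smul_right, β_smul_left, β_smul_right, smul_smul, smul_smul]
  congr 2
  ring

variable {v v' : Fin k → F}

theorem ue_pr (h : 𝕘.Hyp v v') {z : Fin k → F} (hz : 𝕘.β v z = 0) : 𝕘.ue v z = 𝕘.ue v (𝕘.pr v v' z) := by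
  have e : 𝕘.pr v v' z = z + (-𝕘.β v' z) • v := by
    rw [pr, hz, zero_smul, sub_zero, neg_smul, sub_eq_add_neg]
  rw [e, ue, ue, N_add, N_smul, N_self, smul_zero, add_zero, β_add_left, β_add_right, β_add_right, β_smul_left,
    β_smul_left, β_smul_right, β_smul_right, h.vv, hz, 𝕘.β_comm v z, hz]
  simp only [mul_zero, add_zero]

/-- Every vector orthogonal to the pair is anisotropic or a sum of two such. -/
theorem Hyp.split {𝕘 : Gram F k} (h : 𝕘.Hyp v v') (hk : 3 ≤ k) {x : Fin k → F} (hx : 𝕘.InU v v' x) :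
    ∃ a b, 𝕘.InU v v' a ∧ 𝕘.InU v v' b ∧ 𝕘.β a a ≠ 0 ∧ (b = 0 ∨ 𝕘.β b b ≠ 0) ∧ x = a + b := by
  by_cases hn : 𝕘.β x x ≠ 0
  · exact ⟨x, 0, hx, inU_zero _, hn, Or.inl rfl, by rw [add_zero]⟩
  push Not at hn
  obtain ⟨a, ha, han⟩ := h.aniso hk
  have hs : ∀ c : F, 𝕘.β (x + c • a) (x + c • a) = 2 * c * 𝕘.β x a + c * c * 𝕘.β a a := fun c => by
    simp only [β_add_left, β_add_right, β_smul_left, β_smul_right, hn, 𝕘.β_comm x a]; ring
  have hor : ∃ c : F, c ≠ 0 ∧ 𝕘.β (x + c • a) (x + c • a) ≠ 0 := by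
    by_contra hc
    push Not at hc
    have h1 := hc 1 one_ne_zero
    have h2 := hc (-1) (neg_ne_zero.2 one_ne_zero)
    rw [hs] at h1 h2
    exact han ((mul_eq_zero.1 (show (2 : F) * 𝕘.β a a = 0 by linear_combination h1 + h2)).resolve_left 𝕘.two)
  obtain ⟨c, hc, hcn⟩ := hor
  refine ⟨x + c • a, (-c) • a, inU_add _ hx (inU_smul _ ha c), inU_smul _ ha _, hcn, Or.inr ?_, ?_⟩
  · rw [β_smul_left, β_smul_right]
    exact mul_ne_zero (neg_ne_zero.2 hc) (mul_ne_zero (neg_ne_zero.2 hc) han)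
  · rw [neg_smul, add_neg_cancel_right]

/-- The group where the field has more than three elements, or the dimension is at least four without planes. -/
def Big (𝕘 : Gram F k) : Prop :=
  3 ≤ k ∧ (3 < Nat.card F ∨ 4 ≤ k) ∧
    (k = 4 → ∀ x y : Fin k → F, x ≠ 0 → 𝕘.β x x = 0 → 𝕘.β y y = 0 → 𝕘.β x y = 0 → ∃ c : F, y = c • x)

theorem card_eq_three [Finite F] {𝕘 : Gram F k} (hB : 𝕘.Big) (h : ¬ 3 < Nat.card F) :
    Nat.card F = 3 ∧ 4 ≤ k := by
  have : Fintype F := Fintype.ofFinite F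
  refine ⟨?_, hB.2.1.resolve_left h⟩
  have h1 : 1 < Nat.card F := Finite.one_lt_card
  by_contra h3
  have h2 : Nat.card F = 2 := by omega
  rw [Nat.card_eq_fintype_card] at h2
  obtain ⟨x, hx⟩ : ∃ x : F, x ≠ 0 ∧ x ≠ 1 := ⟨-1, neg_ne_zero.2 one_ne_zero, fun e => 𝕘.two (by linear_combination -e)⟩
  have : 3 ≤ Fintype.card F := by
    classical
    calc 3 = ({0, 1, x} : Finset F).card := by
          rw [Finset.card_insert_of_notMem (by simp [hx.1.symm]),
            Finset.card_insert_of_notMem (by simpa using hx.2.symm), Finset.card_singleton]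
      _ ≤ Fintype.card F := Finset.card_le_univ _
  omega

theorem exists_sq_ne_one [Finite F] (h : 3 < Nat.card F) : ∃ a : F, a ≠ 0 ∧ a * a ≠ 1 := by
  classical
  have : Fintype F := Fintype.ofFinite F
  rw [Nat.card_eq_fintype_card] at h
  have hcard : ({0, 1, -1} : Finset F).card < Fintype.card F := lt_of_le_of_lt Finset.card_le_three h
  rw [← Finset.card_univ] at hcard
  obtain ⟨a, -, ha⟩ := Finset.exists_mem_notMem_of_card_lt_card hcard
  simp only [Finset.mem_insert, Finset.mem_singleton, not_or] at ha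
  exact ⟨a, ha.1, fun h => by
    rcases mul_self_eq_one_iff.1 h with e | e
    exacts [ha.2.1 e, ha.2.2 e]⟩

/-- An element scaling `v` and `z` with different products. -/
theorem Hyp.exists_scale [Finite F] {𝕘 : Gram F k} (h : 𝕘.Hyp v v') (hB : 𝕘.Big) {z : Fin k → F}
    (hz : 𝕘.InU v v' z) (hzn : 𝕘.β z z ≠ 0) :
    ∃ P ∈ 𝕘.Om, ∃ a b : F, a ≠ 0 ∧ a * b ≠ 1 ∧ a * b ≠ a * a ∧
      (P : Matrix (Fin k) (Fin k) F) *ᵥ v = a • v ∧ (P : Matrix (Fin k) (Fin k) F) *ᵥ z = b • z := by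
  by_cases h3 : 3 < Nat.card F
  · obtain ⟨a, ha, ha1⟩ := exists_sq_ne_one h3
    obtain ⟨P, hP, hv⟩ := h.dia_sq ha
    refine ⟨P, hP, a * a, 1, mul_ne_zero ha ha, by rwa [mul_one], fun e => ha1 ?_, by rw [hv, h.dia_v],
      by rw [hv, dia_fix _ hz, one_smul]⟩
    exact (mul_left_cancel₀ (mul_ne_zero ha ha) e).symm
  · obtain ⟨h3, hk⟩ := card_eq_three hB h3
    obtain ⟨y, hy, hzy, hn⟩ := h.exists_mate hk h3 hB.2.2 hz hzn
    obtain ⟨P, hP, hv⟩ := 𝕘.plane_neg hzn hzy hn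
    refine ⟨P, hP, 1, -1, one_ne_zero, ?_, ?_, ?_, ?_⟩
    · rw [one_mul]; exact fun e => 𝕘.two (by linear_combination -e)
    · rw [one_mul, one_mul]; exact fun e => 𝕘.two (by linear_combination -e)
    · rw [hv, plane_mulVec _ hzy hn, hz.comm.1, hy.comm.1, zero_smul, zero_smul, add_zero, smul_zero, sub_zero, one_smul]
    · rw [hv, plane_mulVec _ hzy hn, 𝕘.β_comm z y, hzy, zero_smul, add_zero, smul_smul, div_mul_cancel₀ _ hzn,
        two_smul, neg_one_smul]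
      abel

/-- Siegel elements are commutators. -/
theorem ueU_mem [Finite F] (hB : 𝕘.Big) (hv : 𝕘.β v v = 0) {z : Fin k → F} (hz : 𝕘.β v z = 0) :
    𝕘.ueU hv hz ∈ 𝕘.Om := by
  rcases eq_or_ne v 0 with rfl | hv0
  · convert 𝕘.Om.one_mem
    exact Units.ext (by simp [ue, N, tau_zero_left, tau_zero_right])
  obtain ⟨v', h⟩ := 𝕘.exists_hyp hv0 hv
  have key : ∀ a, 𝕘.InU v v' a → 𝕘.β a a ≠ 0 → ∀ ha : 𝕘.β v a = 0, 𝕘.ueU hv ha ∈ 𝕘.Om := by
    intro a ha han ha'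
    obtain ⟨P, hP, x, y, hx, hxy, -, hPv, hPa⟩ := h.exists_scale hB ha han
    have hd : x * y - 1 ≠ 0 := sub_ne_zero.2 hxy
    set c := (x * y - 1)⁻¹
    have hca : 𝕘.β v (c • a) = 0 := by rw [β_smul_right, ha', mul_zero]
    have hOm : (𝕘.Om : Subgroup _) ≤ 𝕘.O := Subgroup.commutator_le_self _
    have hmem : ⁅P, 𝕘.ueU hv hca⁆ ∈ 𝕘.Om :=
      Subgroup.commutator_mem_commutator (hOm hP) (𝕘.ue_iso hv hca)
    suffices 𝕘.ueU hv ha' = ⁅P, 𝕘.ueU hv hca⁆ by rw [this]; exact hmem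
    refine Units.ext ?_
    rw [commutatorElement_def, Units.val_mul, Units.val_mul, Units.val_mul, ueU_inv, ueU_val, ueU_val,
      𝕘.conj_ue (hOm hP) P.mul_inv, mulVec_smul, hPv, hPa, ue_smul_left,
      𝕘.ue_mul hv (by rw [β_smul_right, β_smul_right, β_smul_right, ha', mul_zero, mul_zero, mul_zero])
        (by rw [β_neg_right, hca, neg_zero]), smul_smul, smul_smul, ← neg_smul, ← add_smul,
      show x * c * y + -c = 1 by
        rw [show x * c * y + -c = c * (x * y - 1) by ring]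
        exact inv_mul_cancel₀ hd, one_smul]
  obtain ⟨a, b, ha, hb, han, hbn, hab⟩ := h.split hB.1 (𝕘.pr_inU h z)
  have e : 𝕘.ueU hv hz = 𝕘.ueU hv ha.1 * 𝕘.ueU hv hb.1 :=
    Units.ext (by rw [Units.val_mul, ueU_val, ueU_val, ueU_val, 𝕘.ue_pr h hz, hab, 𝕘.ue_mul hv ha.1 hb.1])
  rw [e]
  refine mul_mem (key a ha han ha.1) ?_
  rcases hbn with rfl | hbn
  · convert 𝕘.Om.one_mem
    exact Units.ext (by rw [ueU_val, ue_zero]; rfl)
  · exact key b hb hbn hb.1

/-- Conjugation in a slot. -/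
def ad (m : Fin t) (P : (Matrix (Fin k) (Fin k) F)ˣ) (Z : Mat F k t) : Mat F k t :=
  sl m (P : Matrix (Fin k) (Fin k) F) * Z * sl m ((P⁻¹ : (Matrix (Fin k) (Fin k) F)ˣ) : Matrix (Fin k) (Fin k) F)

/-- A set of tuples stable under a slot and under fourth powers. -/
structure SStab {ι : Type*} (m : Fin t) (K : AddSubgroup (ι → Mat F k t)) : Prop where
  conj : ∀ P ∈ 𝕘.Om, ∀ f ∈ K, (fun i => ad m P (f i)) ∈ K
  four : ∀ a : F, a ≠ 0 → ∀ f ∈ K, a ^ 4 • f ∈ K

/-- The coefficient of degree two. -/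
def coef2 (m : Fin t) (v z : Fin k → F) (Z : Mat F k t) : Mat F k t :=
  -(2⁻¹ * 𝕘.β z z) • (sl m (𝕘.tau v v) * Z) - (2⁻¹ * 𝕘.β z z) • (Z * sl m (𝕘.tau v v)) -
    sl m (𝕘.N v z) * Z * sl m (𝕘.N v z)

/-- The coefficient of degree four. -/
def coef4 (m : Fin t) (v z : Fin k → F) (Z : Mat F k t) : Mat F k t :=
  ((2⁻¹ * 𝕘.β z z) * (2⁻¹ * 𝕘.β z z)) • (sl m (𝕘.tau v v) * Z * sl m (𝕘.tau v v))

theorem ad_ue (m : Fin t) {z : Fin k → F} (hv : 𝕘.β v v = 0) (hz : 𝕘.β v z = 0) (s : F) (Z : Mat F k t) :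
    ad m (𝕘.ueU hv (z := s • z) (by rw [β_smul_right, hz, mul_zero])) Z =
      Z + s • (sl m (𝕘.N v z) * Z - Z * sl m (𝕘.N v z)) + s ^ 2 • 𝕘.coef2 m v z Z +
        s ^ 3 • ((2⁻¹ * 𝕘.β z z) • (sl m (𝕘.tau v v) * Z * sl m (𝕘.N v z) -
          sl m (𝕘.N v z) * Z * sl m (𝕘.tau v v))) + s ^ 4 • 𝕘.coef4 m v z Z := by
  rw [ad, ueU_val, ueU_inv, ue, ue, ← neg_smul, N_smul, N_smul, β_smul_left, β_smul_right, β_smul_left,
    β_smul_right, sl_sub, sl_sub, sl_add, sl_add, sl_one, sl_smul, sl_smul, sl_smul, sl_smul, coef2, coef4]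
  simp only [mul_add, add_mul, mul_sub, sub_mul, one_mul, mul_one, smul_mul_assoc, mul_smul_comm, neg_mul, mul_neg,
    smul_smul, smul_sub, smul_neg, neg_smul]
  module

/-- The sandwich by `τ(v, v)` in a slot lies in the set. -/
theorem quartic [Finite F] {ι : Type*} {m : Fin t} {K : AddSubgroup (ι → Mat F k t)} (hB : 𝕘.Big)
    (hK : 𝕘.SStab m K) (hv0 : v ≠ 0) (hv : 𝕘.β v v = 0) :
    ∃ c : F, c ≠ 0 ∧ ∀ f ∈ K, (fun i => c • (sl m (𝕘.tau v v) * 𝕘.ct m v v (f i))) ∈ K := by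
  classical
  have : Fintype F := Fintype.ofFinite F
  obtain ⟨v', h⟩ := 𝕘.exists_hyp hv0 hv
  obtain ⟨z, hz, hzn⟩ := h.aniso hB.1
  have hcv : ∀ (w : Fin k → F) (s : F), 𝕘.InU v v' w → 𝕘.β v (s • w) = 0 := fun w s hw => by
    rw [β_smul_right, hw.1, mul_zero]
  have hc0 : 2⁻¹ * 𝕘.β z z ≠ 0 := mul_ne_zero (inv_ne_zero 𝕘.two) hzn
  by_cases h3 : 3 < Nat.card F
  · rw [Nat.card_eq_fintype_card] at h3
    set q := Fintype.card F with hq
    have hq5 : 5 ≤ q := by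
      rcases Nat.lt_or_ge q 5 with hq5 | hq5
      · exfalso
        have h4 : q = 4 := by omega
        have hc : ringChar F = 2 := FiniteField.even_card_iff_char_two.2 (by rw [← hq, h4])
        have h2 : ((2 : ℕ) : F) = 0 := (ringChar.spec F 2).2 (by rw [hc])
        exact 𝕘.two (by exact_mod_cast h2)
      · exact hq5
    refine ⟨-((2⁻¹ * 𝕘.β z z) * (2⁻¹ * 𝕘.β z z)), neg_ne_zero.2 (mul_ne_zero hc0 hc0), fun f hf => ?_⟩
    have hw : ∀ s : F, s ^ (q - 5) • (fun i => ad m (𝕘.ueU hv (hcv z s hz)) (f i)) ∈ K := by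
      intro s
      have h1 : (fun i => ad m (𝕘.ueU hv (hcv z s hz)) (f i)) ∈ K := hK.conj _ (𝕘.ueU_mem hB hv (hcv z s hz)) f hf
      rcases eq_or_ne s 0 with rfl | hs
      · rcases Nat.eq_zero_or_pos (q - 5) with h5 | h5
        · rw [h5, pow_zero, one_smul]; exact h1
        · rw [zero_pow (by omega), zero_smul]; exact K.zero_mem
      · have e : s ^ (q - 5) = s⁻¹ ^ 4 := by
          have h6 : s ^ (q - 5) * s ^ 4 = 1 := by
            rw [← pow_add, show q - 5 + 4 = q - 1 by omega, FiniteField.pow_card_sub_one_eq_one s hs]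
          rw [inv_pow]
          exact eq_inv_of_mul_eq_one_left h6
        rw [e]
        exact hK.four _ (inv_ne_zero hs) _ h1
    have hS : ∀ j, j ≤ 4 → ∑ s : F, s ^ (q - 5 + j) = if j = 4 then -1 else 0 := by
      intro j hj
      split_ifs with h4
      · subst h4
        rw [show q - 5 + 4 = q - 1 by omega, ← Finset.add_sum_erase _ _ (mem_univ (0 : F)), zero_pow (by omega),
          zero_add, Finset.sum_congr rfl (fun s hs => FiniteField.pow_card_sub_one_eq_one s (ne_of_mem_erase hs)),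
          Finset.sum_const, nsmul_one, Finset.card_erase_of_mem (mem_univ _), Finset.card_univ, ← hq,
          Nat.cast_sub (by omega), Nat.cast_one, hq, FiniteField.cast_card_eq_zero, zero_sub]
      · exact FiniteField.sum_pow_lt_card_sub_one F _ (by omega)
    have h2 : (∑ s : F, s ^ (q - 5) • fun i => ad m (𝕘.ueU hv (hcv z s hz)) (f i)) ∈ K := sum_mem fun s _ => hw s
    convert h2 using 1
    funext i
    rw [Finset.sum_apply]
    simp only [Pi.smul_apply, 𝕘.ad_ue m hv hz.1, smul_add, smul_smul, ← mul_assoc, ← pow_add, Finset.sum_add_distrib,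
      ← Finset.sum_smul, ← pow_succ]
    rw [show ∑ s : F, s ^ (q - 5) = ∑ s : F, s ^ (q - 5 + 0) by simp, hS 0 (by omega), hS 2 (by omega),
      hS 4 (by omega), show ∑ s : F, s ^ (q - 5 + 1) = 0 from hS 1 (by omega)]
    simp only [← Finset.sum_mul, hS 3 (by omega)]
    simp only [coef4, tau_sandwich]
    simp [mul_assoc]
  · obtain ⟨h3, hk⟩ := card_eq_three hB h3
    obtain ⟨y, hy, hzy, hn⟩ := h.exists_mate hk h3 hB.2.2 hz hzn
    have h3' : (3 : F) = 0 := by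
      have := FiniteField.cast_card_eq_zero (K := F)
      rw [← Nat.card_eq_fintype_card, h3] at this
      exact_mod_cast this
    set c := 2⁻¹ * 𝕘.β z z with hc
    refine ⟨2 * c * c, mul_ne_zero (mul_ne_zero 𝕘.two hc0) hc0, fun f hf => ?_⟩
    have hD : ∀ w, 𝕘.InU v v' w → ∀ g ∈ K, (fun i => -(𝕘.coef2 m v w (g i) + 𝕘.coef4 m v w (g i))) ∈ K := by
      intro w hw g hg
      have h1 : ∀ s : F, (fun i => ad m (𝕘.ueU hv (hcv w s hw)) (g i)) ∈ K := fun s =>
        hK.conj _ (𝕘.ueU_mem hB hv (hcv w s hw)) g hg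
      convert K.add_mem (K.add_mem hg (h1 1)) (h1 (-1)) using 1
      funext i
      have e3 : ∀ W : Mat F k t, (3 : F) • W = 0 := fun W => by rw [h3', zero_smul]
      simp only [Pi.add_apply, 𝕘.ad_ue m hv hw.1]
      linear_combination (norm := module) -e3 (g i) - e3 (𝕘.coef2 m v w (g i) + 𝕘.coef4 m v w (g i))
    convert hD z hz _ (hD y hy f hf) using 1
    funext i
    have hyv := hy.1
    have hzv := hz.1
    have t1 := 𝕘.tau_sq hv
    have t2 := 𝕘.tau_mul_N hv hyv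
    have t3 := 𝕘.N_mul_tau hv hyv
    have t4 := 𝕘.tau_mul_N hv hzv
    have t5 := 𝕘.N_mul_tau hv hzv
    have t6 : 𝕘.N v z * 𝕘.N v y = 0 := by rw [𝕘.N_mul_N hv hzv hyv, hzy, neg_zero, zero_smul]
    simp only [coef2, coef4, hn, ← hc, mul_add, add_mul, mul_sub, sub_mul, smul_mul_assoc, mul_smul_comm, neg_smul,
      mul_neg, neg_mul, mul_assoc, sl_mul, ← mul_assoc (sl m (𝕘.tau v v)) (sl m (𝕘.tau v v)),
      ← mul_assoc (sl m (𝕘.tau v v)) (sl m (𝕘.N v y)), ← mul_assoc (sl m (𝕘.N v z)) (sl m (𝕘.tau v v)),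
      ← mul_assoc (sl m (𝕘.N v z)) (sl m (𝕘.N v y)), t1, t2, t3, t4, t5, t6, sl_zero, zero_mul, mul_zero,
      smul_zero, neg_zero, sub_zero, add_zero, smul_neg, smul_smul]
    rw [← mul_assoc (sl m _) (f i), tau_sandwich]
    module

end Gram

end Cfsg.Agent.H24.OWr
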