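import Cfsg.Agent.H24.OWr.Classify
import Cfsg.Agent.H24.OWr.Slots
import Cfsg.Agent.H24.OWr.Orbit
import Mathlib.GroupTheory.GroupAction.Quotient

/-!
The transfer of the projection on the slot sums to the whole group: conjugates of slot root maps are slot sums.
-/

set_option autoImplicit false
set_option linter.unusedVariables false
set_option linter.unusedSectionVars false

namespace Cfsg.Agent.H24.OWr

open Matrix Finset
open Cfsg.Agent.Aschbacher (pureMat slotMat cj pureGL factorPermGL)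
open Cfsg.Agent.H24.Wreath (Mat sl Off off_one off_sl sl_mul sl_one sl_add sl_smul sl_zero sl_neg sl_sub sl_comm
  sl_injective off_pureMat pureMat_eq_sl_mul)

variable {F : Type*} [Field F] {k t : ℕ}

theorem L0_conj {g : (Mat F k t)ˣ} (hg : Gram.Mono (g : Mat F k t)) {Z : Mat F k t}
    (hZ : Z ∈ (L0 : Submodule F (Mat F k t))) : cj g Z ∈ (L0 : Submodule F (Mat F k t)) := by
  obtain ⟨A, π, hgA⟩ := hg
  obtain ⟨X, rfl⟩ := hZ
  rw [slSum_apply, map_sum]
  refine Submodule.sum_mem _ fun l _ => ?_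
  rw [Aschbacher.cj_apply, show g = pureGL A * factorPermGL π from Units.ext hgA, Gram.sl_conj_mono]
  exact sl_mem_L0 _ _

namespace Gram

variable {𝕘 : Gram F k} {H : Subgroup (Mat F k t)ˣ} {v v' z y : Fin k → F} {j : Fin t}

theorem N_pr (h : 𝕘.Hyp v v') {p : Fin k → F} (hp : 𝕘.β v p = 0) : 𝕘.N v p = 𝕘.N v (𝕘.pr v v' p) := by
  conv_lhs => rw [← 𝕘.decomp (v := v) (v' := v') p]
  rw [hp, zero_smul, add_zero, N_add, N_smul, N_self, smul_zero, zero_add]

/-- The monomial part of the group. -/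
def M0 (H : Subgroup (Mat F k t)ˣ) : Subgroup H where
  carrier := {x | Mono ((x : (Mat F k t)ˣ) : Mat F k t)}
  one_mem' := by
    show Mono (((1 : H) : (Mat F k t)ˣ) : Mat F k t)
    rw [OneMemClass.coe_one, Units.val_one]; exact mono_one
  mul_mem' := fun {a b} ha hb => by
    show Mono (((a * b : H) : (Mat F k t)ˣ) : Mat F k t)
    rw [Subgroup.coe_mul, Units.val_mul]; exact Mono.mul ha hb
  inv_mem' := fun {a} ha => by
    show Mono (((a⁻¹ : H) : (Mat F k t)ˣ) : Mat F k t)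
    rw [Subgroup.coe_inv]; exact Mono.inv ha

theorem mem_M0 {x : H} : x ∈ M0 H ↔ Mono ((x : (Mat F k t)ˣ) : Mat F k t) := Iff.rfl

/-- The cosets of the monomial part. -/
abbrev Cos (H : Subgroup (Mat F k t)ˣ) := H ⧸ M0 H

/-- The projection moved by a group element. -/
noncomputable def phi0 (x : (Mat F k t)ˣ) : Mat F k t →ₗ[F] Mat F k t :=
  (cj x).toLinearMap.comp (proj.comp (cj x⁻¹).toLinearMap)

theorem phi0_apply (x : (Mat F k t)ˣ) (Z : Mat F k t) : phi0 x Z = cj x (proj (cj x⁻¹ Z)) := rfl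

/-- The projection attached to a coset. -/
noncomputable def phi (q : Cos H) : Mat F k t →ₗ[F] Mat F k t := phi0 ((q.out : H) : (Mat F k t)ˣ)

theorem cj_mul (a b : (Mat F k t)ˣ) (Z : Mat F k t) : cj (a * b) Z = cj a (cj b Z) := by
  simp only [Aschbacher.cj_apply, Units.val_mul, _root_.mul_inv_rev, mul_assoc]

theorem phi_mk (x : H) : phi (QuotientGroup.mk x : Cos H) = phi0 (x : (Mat F k t)ˣ) := by
  have h1 := Quotient.out_eq (QuotientGroup.mk x : Cos H)
  have hm : x⁻¹ * (QuotientGroup.mk x : Cos H).out ∈ M0 H := QuotientGroup.eq.1 h1.symm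
  obtain ⟨y, hy⟩ : ∃ y : H, (QuotientGroup.mk x : Cos H).out = x * y ∧ y ∈ M0 H :=
    ⟨_, (mul_inv_cancel_left x _).symm, hm⟩
  rw [phi, hy.1]
  refine LinearMap.ext fun Z => ?_
  rw [phi0_apply, phi0_apply, Subgroup.coe_mul, _root_.mul_inv_rev, cj_mul, cj_mul]
  congr 1
  have hyi : Mono (((y : (Mat F k t)ˣ)⁻¹ : (Mat F k t)ˣ) : Mat F k t) := Mono.inv hy.2
  rw [Aschbacher.cj_apply (y : (Mat F k t)ˣ)⁻¹, proj_conj hyi, ← Aschbacher.cj_apply, ← cj_mul, mul_inv_cancel,
    Aschbacher.cj_apply, inv_one, Units.val_one, one_mul, mul_one]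

theorem phi_smul (g : H) (q : Cos H) (Z : Mat F k t) :
    phi (g • q) (cj (g : (Mat F k t)ˣ) Z) = cj (g : (Mat F k t)ˣ) (phi q Z) := by
  induction q using QuotientGroup.induction_on with
  | _ x =>
    rw [show g • (QuotientGroup.mk x : Cos H) = QuotientGroup.mk (g * x) from rfl, phi_mk, phi_mk, phi0_apply,
      phi0_apply, Subgroup.coe_mul, cj_mul, ← cj_mul _ _ Z, _root_.mul_inv_rev, inv_mul_cancel_right]

variable [Fintype (Cos H)] [DecidableEq (Cos H)]

/-- The transferred projection. -/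
noncomputable def T (H : Subgroup (Mat F k t)ˣ) [Fintype (Cos H)] : Mat F k t →ₗ[F] Mat F k t :=
  ∑ q : Cos H, phi q

theorem T_apply (Z : Mat F k t) : T H Z = ∑ q : Cos H, phi q Z := by simp [T]

theorem T_conj (g : H) (Z : Mat F k t) : T H (cj (g : (Mat F k t)ˣ) Z) = cj (g : (Mat F k t)ˣ) (T H Z) := by
  rw [T_apply, T_apply, map_sum, ← Equiv.sum_comp (MulAction.toPerm g)]
  exact Finset.sum_congr rfl fun q _ => phi_smul g q Z

variable [Finite F] [NeZero k] [NeZero t] {D : Type*} [AddCommGroup D] [Fintype D]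
  {e : D →+ (Fin k → F)}

/-- The slot Siegel element of a family, in the group. -/
def uH (hH : 𝕘.Over H) (hk : 3 ≤ k) (h : 𝕘.Hyp v v') (he : ∀ d, 𝕘.InU v v' (e d)) (i : Fin t) (d : D) : H :=
  ⟨slU i (𝕘.ueU h.vv (he d).1), hH.om i _ (𝕘.ueU_mem (hH.big hk) h.vv (he d).1)⟩

theorem uH_coe (hH : 𝕘.Over H) (hk : 3 ≤ k) (h : 𝕘.Hyp v v') (he : ∀ d, 𝕘.InU v v' (e d)) (i : Fin t) (d : D) :
    ((uH hH hk h he i d : H) : (Mat F k t)ˣ) = slU i (𝕘.ueU h.vv (he d).1) := rfl

/-- The action of a family on the cosets. -/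
def act (hH : 𝕘.Over H) (hk : 3 ≤ k) (h : 𝕘.Hyp v v') (he : ∀ d, 𝕘.InU v v' (e d)) (i : Fin t) (d : D)
    (q : Cos H) : Cos H := uH hH hk h he i d • q

theorem isAct_act (hH : 𝕘.Over H) (hk : 3 ≤ k) (h : 𝕘.Hyp v v') (he : ∀ d, 𝕘.InU v v' (e d)) (i : Fin t) :
    IsAct (act hH hk h he i) := by
  refine ⟨fun q => ?_, fun d d' q => ?_⟩
  · have h1 : uH hH hk h he i (0 : D) = 1 := Subtype.ext (Units.ext (by
      rw [uH_coe, slU_val, ueU_val, map_zero, ue_zero, sl_one, OneMemClass.coe_one, Units.val_one]))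
    rw [act, h1, one_smul]
  · have h1 : uH hH hk h he i (d + d') = uH hH hk h he i d * uH hH hk h he i d' := Subtype.ext (Units.ext (by
      rw [Subgroup.coe_mul, uH_coe, uH_coe, uH_coe, Units.val_mul, slU_val, slU_val, slU_val, ueU_val, ueU_val,
        ueU_val, sl_mul, ue_mul 𝕘 h.vv (he d).1 (he d').1, map_add]))
    rw [act, act, act, h1, mul_smul]

theorem act_comm (hH : 𝕘.Over H) (hk : 3 ≤ k) (h : 𝕘.Hyp v v') (he : ∀ d, 𝕘.InU v v' (e d)) {i m : Fin t}
    (him : i ≠ m) (d d' : D) (q : Cos H) :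
    act hH hk h he i d (act hH hk h he m d' q) = act hH hk h he m d' (act hH hk h he i d q) := by
  have h1 : uH hH hk h he i d * uH hH hk h he m d' = uH hH hk h he m d' * uH hH hk h he i d :=
    Subtype.ext (Units.ext (by
      rw [Subgroup.coe_mul, Subgroup.coe_mul, Units.val_mul, Units.val_mul, uH_coe, uH_coe, slU_val, slU_val,
        sl_comm him]))
  rw [act, act, act, act, ← mul_smul, h1, mul_smul]

/-- A coset fixed by a family of a slot carries the slot line. -/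
theorem maps_of_fixed (hH : 𝕘.Over H) (hk : 3 ≤ k) (h : 𝕘.Hyp v v') (he : ∀ d, 𝕘.InU v v' (e d))
    (hz : 𝕘.InU v v' z) (hzn : 𝕘.β z z ≠ 0) (hline : ∀ s : F, ∃ d, e d = s • z) {i : Fin t} {q : Cos H}
    (hq : Fixed (act hH hk h he i) q) :
    ∃ (l : Fin t) (w : Fin k → F) (c : F), Maps 𝕘 ((q.out : H) : (Mat F k t)ˣ) i v l w c := by
  refine classify hH hk h hz hzn (q.out : H).2 fun c => ?_
  obtain ⟨d, hd⟩ := hline c
  have h1 : (QuotientGroup.mk (uH hH hk h he i d * q.out) : Cos H) = QuotientGroup.mk q.out := by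
    have h2 := hq d
    rw [act] at h2
    conv_lhs at h2 => rw [← QuotientGroup.out_eq' q]
    rw [QuotientGroup.out_eq' q]
    exact h2
  have h3 := QuotientGroup.eq.1 h1.symm
  rw [mem_M0, Subgroup.coe_mul, Subgroup.coe_inv, Subgroup.coe_mul, uH_coe, ← mul_assoc] at h3
  have e1 : (𝕘.ueU h.vv (he d).1) = 𝕘.ueU h.vv (𝕘.inU_smul hz c).1 := Units.ext (by rw [ueU_val, ueU_val, hd])
  rw [e1] at h3
  exact h3

/-- The value of the projection of a coset fixed by a slot family lies in the slot. -/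
theorem fixed_val (hH : 𝕘.Over H) (hk : 3 ≤ k) (hno : 𝕘.NoRoot H) (h : 𝕘.Hyp v v') (he : ∀ d, 𝕘.InU v v' (e d))
    (hz : 𝕘.InU v v' z) (hzn : 𝕘.β z z ≠ 0) (hline : ∀ s : F, ∃ d, e d = s • z) {i : Fin t} {q : Cos H}
    (hq : Fixed (act hH hk h he i) q) {A : Mat F k t} (hA : Off i A) :
    ∃ α β : F, phi q (sl i (𝕘.N v z) * A) = α • sl i (𝕘.N v z) + β • sl i (𝕘.tau v v) := by
  obtain ⟨l, w, c, hm⟩ := maps_of_fixed hH hk h he hz hzn hline hq
  set x := ((q.out : H) : (Mat F k t)ˣ) with hxdef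
  obtain ⟨hc, hw0, hww, hτ⟩ := hm
  obtain ⟨w', hw⟩ := 𝕘.exists_hyp hw0 hww
  obtain ⟨S, hS, hSv, hconj⟩ := Maps.exists_sim hH hk hno (q.out : H).2 ⟨hc, hw0, hww, hτ⟩ h
  set Sm := (S : Matrix (Fin k) (Fin k) F)
  set xi := ((x⁻¹ : (Mat F k t)ˣ) : Mat F k t)
  have hSN : ∀ p, 𝕘.β v p = 0 → Sm * 𝕘.N v p * ((S⁻¹ : (Matrix (Fin k) (Fin k) F)ˣ) : Matrix (Fin k) (Fin k) F) =
      𝕘.N w (Sm *ᵥ p) ∧ 𝕘.β w (Sm *ᵥ p) = 0 := fun p hp => by
    refine ⟨?_, ?_⟩
    · rw [N, N, mul_sub, sub_mul, hS.conj_tau' hc, hS.conj_tau' hc, hSv, tau_smul_left, tau_smul_right, smul_smul,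
        smul_smul, inv_mul_cancel₀ hc, one_smul, one_smul]
    · have h1 := hS v p
      rw [hSv, β_smul_left, hp, mul_zero, mul_eq_zero] at h1
      exact h1.resolve_left hc
  have himg : ∀ p, 𝕘.β v p = 0 → xi * sl i (𝕘.N v p) * (x : Mat F k t) = sl l (𝕘.N w (𝕘.pr w w' (Sm *ᵥ p))) := fun p hp => by
    rw [N_pr h hp, hconj _ (𝕘.pr_inU h p), ← N_pr h hp, (hSN p hp).1, N_pr hw (hSN p hp).2]
  set M' := xi * A * (x : Mat F k t) with hM'
  have hsplit : ∀ P : Mat F k t, xi * (P * A) * (x : Mat F k t) = (xi * P * (x : Mat F k t)) * M' := fun P => by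
    simp only [hM', xi, mul_assoc, Units.mul_inv_cancel_left]
  have hcomm : 𝕘.CommN l w w' M' := fun a ha => by
    set p := ((S⁻¹ : (Matrix (Fin k) (Fin k) F)ˣ) : Matrix (Fin k) (Fin k) F) *ᵥ a
    have hpa : Sm *ᵥ p = a := by rw [mulVec_mulVec, S.mul_inv, one_mulVec]
    have hp : 𝕘.β v p = 0 := by
      have h1 := hS v p
      rw [hSv, hpa, β_smul_left, ha.1, mul_zero, eq_comm, mul_eq_zero] at h1
      exact h1.resolve_left hc
    have h1 := himg p hp
    rw [hpa, show 𝕘.pr w w' a = a by rw [pr, ha.1, ha.2, zero_smul, zero_smul, sub_zero, sub_zero]] at h1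
    have h2 := congrArg (fun W => xi * W * (x : Mat F k t)) (hA (𝕘.N v p))
    rw [hsplit, h1] at h2
    rw [h2]
    conv_lhs => rw [show xi * (A * sl i (𝕘.N v p)) * (x : Mat F k t) = M' * (xi * sl i (𝕘.N v p) * (x : Mat F k t)) by
      simp only [hM', xi, mul_assoc, Units.mul_inv_cancel_left]]
    rw [h1]
  set a := 𝕘.pr w w' (Sm *ᵥ z) with hadef
  have haU : 𝕘.InU w w' a := 𝕘.pr_inU hw _
  have hNa := himg z hz.1
  rw [← hadef] at hNa
  obtain ⟨hxv, hvx, hperp, -⟩ := hcomm.table hw hk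
  set A1 := 𝕘.ct l w w' M' with hA1
  set m := 𝕘.ct l a w' M' with hm'
  have hform : sl l (𝕘.N w a) * M' = sl l (𝕘.N w a) * A1 + sl l (𝕘.tau w w) * m := 𝕘.ext_ct l fun p r => by
    have e1 : 𝕘.ct l a r M' = 𝕘.β w r • m + 𝕘.β a r • A1 := by
      have hpr := 𝕘.pr_inU hw r
      have eb : 𝕘.β a (𝕘.pr w w' r) = 𝕘.β a r := by
        simp [pr, β_sub_right, β_smul_right, haU.comm.1, haU.comm.2]
      conv_lhs => rw [← 𝕘.decomp (v := w) (v' := w') r]
      rw [ct_add_right, ct_add_right, ct_smul_right, ct_smul_right, hxv, haU.comm.1, zero_smul, smul_zero, zero_add,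
        hperp _ _ haU.1 hpr.1, eb]
    rw [ct_add, ct_sl_left, adjD_N, 𝕘.ct_sl_mul (𝕘.ct_off _ _ _ _), 𝕘.ct_sl_mul (𝕘.ct_off _ _ _ _), neg_mulVec,
      ← neg_one_smul F, ct_smul_left, N_mulVec, sub_eq_add_neg, ← neg_smul (𝕘.β w p), ct_add_left, ct_smul_left,
      ct_smul_left, hvx, e1, β_N, tau_mulVec, β_smul_right, 𝕘.β_comm w p, 𝕘.β_comm a p]
    module
  obtain ⟨c1, hc1⟩ := proj_sl_mul hw l (trace_N w a) (𝕘.ct_off l w w' M')
  obtain ⟨c2, hc2⟩ := proj_sl_mul hw l (show (𝕘.tau w w).trace = 0 by rw [trace_tau, hww]) (𝕘.ct_off l a w' M')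
  refine ⟨c1, c2 * c⁻¹, ?_⟩
  rw [phi, ← hxdef, phi0_apply, Aschbacher.cj_apply x⁻¹, inv_inv, hsplit, hNa, hform, map_add, hc1, hc2, map_add,
    map_smul, map_smul, Aschbacher.cj_apply, Aschbacher.cj_apply, ← hNa]
  have hτ' : (x : Mat F k t) * sl l (𝕘.tau w w) * xi = c⁻¹ • sl i (𝕘.tau v v) := by
    rw [eq_inv_smul_iff₀ hc, ← smul_mul_assoc, ← mul_smul_comm, ← hτ]
    simp only [xi, mul_assoc, Units.mul_inv_cancel_left, x.mul_inv, mul_one]
  rw [hτ', smul_smul]
  simp only [xi, mul_assoc, Units.mul_inv_cancel_left, x.mul_inv, mul_one]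

/-- A family commutes with the slot root maps. -/
theorem act_phi_self (hH : 𝕘.Over H) (hk : 3 ≤ k) (h : 𝕘.Hyp v v') (he : ∀ d, 𝕘.InU v v' (e d))
    (hz : 𝕘.InU v v' z) {i : Fin t} {A : Mat F k t} (hA : Off i A) (d : D) (q : Cos H) :
    phi (act hH hk h he i d q) (sl i (𝕘.N v z) * A) =
      𝕘.adU i h.vv (he d).1 (phi q (sl i (𝕘.N v z) * A)) := by
  have hZ : cj ((uH hH hk h he i d : H) : (Mat F k t)ˣ) (sl i (𝕘.N v z) * A) = sl i (𝕘.N v z) * A := by
    rw [uH_coe, Aschbacher.cj_apply, slU_val, slU_inv, ueU_val, ueU_inv, ← mul_assoc, sl_mul, mul_assoc,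
      ← hA, ← mul_assoc, sl_mul]
    congr 2
    have h1 : 𝕘.ue v (e d) * 𝕘.N v z = 𝕘.N v z * 𝕘.ue v (e d) := by
      rw [ue, sub_mul, mul_sub, add_mul, mul_add, one_mul, mul_one, N_mul_N 𝕘 h.vv (he d).1 hz.1,
        N_mul_N 𝕘 h.vv hz.1 (he d).1, smul_mul_assoc, mul_smul_comm, tau_mul_N 𝕘 h.vv hz.1,
        N_mul_tau 𝕘 h.vv hz.1, 𝕘.β_comm (e d) z]
    rw [h1, mul_assoc, ue_mul 𝕘 h.vv (he d).1 (by rw [β_neg_right, (he d).1, neg_zero]), add_neg_cancel, ue_zero,
      mul_one]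
  conv_lhs => rw [← hZ]
  rw [act, phi_smul, Aschbacher.cj_apply, uH_coe, slU_val, slU_inv]
  rfl

open Classical in
/-- The transfer of a slot root map with a factor off the slot is a multiple of the slot root map; the fixed
cosets decide the multiple. -/
theorem T_sl_N (hH : 𝕘.Over H) (hk : 3 ≤ k) (hno : 𝕘.NoRoot H) (h : 𝕘.Hyp v v') (he : ∀ d, 𝕘.InU v v' (e d))
    (hz : 𝕘.InU v v' z) (hzn : 𝕘.β z z ≠ 0) (hline : ∀ s : F, ∃ d, e d = s • z)
    (hW : ∀ (i : Fin t) (a : D → Cos H → Cos H) (f : Cos H → Mat F k t), IsAct a →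
      (∀ d q, f (a d q) = 𝕘.adU i h.vv (he d).1 (f q)) → ∀ q, ¬ Fixed a q → ∑ r ∈ orb a q, f r ∈ 𝕘.WS i v v')
    (i : Fin t) {A : Mat F k t} (hA : Off i A) :
    ∃ α β : F, T H (sl i (𝕘.N v z) * A) = α • sl i (𝕘.N v z) ∧
      ∑ q ∈ univ.filter (fun q => Fixed (act hH hk h he i) q), phi q (sl i (𝕘.N v z) * A) =
        α • sl i (𝕘.N v z) + β • sl i (𝕘.tau v v) := by
  set Z := sl i (𝕘.N v z) * A with hZdef
  set S := univ.filter (fun q => Fixed (act hH hk h he i) q) with hSdef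
  have hfix : ∑ q ∈ S, phi q Z ∈ Submodule.span F {(sl i (𝕘.N v z) : Mat F k t), sl i (𝕘.tau v v)} := by
    refine Submodule.sum_mem _ fun q hq => ?_
    obtain ⟨α, β, e1⟩ := fixed_val hH hk hno h he hz hzn hline (mem_filter.1 hq).2 hA
    exact Submodule.mem_span_pair.2 ⟨α, β, e1.symm⟩
  obtain ⟨α, β, hαβ⟩ := Submodule.mem_span_pair.1 hfix
  refine ⟨α, β, ?_, hαβ.symm⟩
  have hrest : ∑ q ∈ univ \ S, phi q Z ∈ 𝕘.WS i v v' := by
    refine sum_of_orbits (isAct_act hH hk h he i) _ _ _ (fun q hq d => ?_) (fun q hq => ?_)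
    · simp only [hSdef, mem_sdiff, mem_univ, mem_filter, true_and] at hq ⊢
      intro hf
      refine hq fun d' => ?_
      have hd := hf (-d)
      rw [← (isAct_act hH hk h he i).add, neg_add_cancel, (isAct_act hH hk h he i).zero] at hd
      have hd2 := hf d'
      rw [← hd] at hd2
      exact hd2
    · refine hW i _ _ (isAct_act hH hk h he i) (fun d r => act_phi_self hH hk h he hz hA d r) q ?_
      simpa [hSdef] using hq
  obtain ⟨K, hK, hKe⟩ := of_mem_WS hrest
  have hT : T H Z = α • sl i (𝕘.N v z) + sl i (𝕘.tau v v) * (K + β • 1) := by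
    rw [T_apply, ← Finset.sum_sdiff (Finset.subset_univ S), hKe, ← hαβ, mul_add, mul_smul_comm, mul_one]
    abel
  -- scaling
  obtain ⟨P, hP, a, b, ha, -, hab, hPv, hPz⟩ := h.exists_scale (hH.big hk) hz hzn
  have hPO : P ∈ 𝕘.O := (Subgroup.commutator_le_self 𝕘.O) hP
  set g : H := ⟨slU i P, hH.om i P hP⟩
  have hcN : 𝕘.N v z = 𝕘.N v z := rfl
  have hN : (P : Matrix (Fin k) (Fin k) F) * 𝕘.N v z * ((P⁻¹ : (Matrix (Fin k) (Fin k) F)ˣ) : Matrix (Fin k) (Fin k) F) =
      (a * b) • 𝕘.N v z := by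
    rw [conj_N 𝕘 hPO P.mul_inv, hPv, hPz, N_smul_left, smul_smul, N_smul]
  have hτ : (P : Matrix (Fin k) (Fin k) F) * 𝕘.tau v v * ((P⁻¹ : (Matrix (Fin k) (Fin k) F)ˣ) : Matrix (Fin k) (Fin k) F) =
      (a * a) • 𝕘.tau v v := by
    rw [conj_tau 𝕘 hPO P.mul_inv, hPv, tau_smul_left, tau_smul_right, smul_smul]
  have hcj : ∀ (X : Matrix (Fin k) (Fin k) F) (B : Mat F k t), Off i B →
      cj ((g : H) : (Mat F k t)ˣ) (sl i X * B) =
        sl i ((P : Matrix (Fin k) (Fin k) F) * X * ((P⁻¹ : (Matrix (Fin k) (Fin k) F)ˣ) : Matrix (Fin k) (Fin k) F)) * B := by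
    intro X B hB
    rw [Aschbacher.cj_apply, show ((g : H) : (Mat F k t)ˣ) = slU i P from rfl, slU_val, slU_inv, ← mul_assoc, sl_mul,
      mul_assoc, ← hB, ← mul_assoc, sl_mul]
  have hcj1 : ∀ (X : Matrix (Fin k) (Fin k) F),
      cj ((g : H) : (Mat F k t)ˣ) (sl i X) =
        sl i ((P : Matrix (Fin k) (Fin k) F) * X * ((P⁻¹ : (Matrix (Fin k) (Fin k) F)ˣ) : Matrix (Fin k) (Fin k) F)) := fun X => by
    have := hcj X 1 (off_one i)
    rwa [mul_one, mul_one] at this
  have hKo : Off i (K + β • 1) := hK.add ((off_one i).smul β)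
  have h2 := T_conj g Z
  rw [hZdef, hcj _ _ hA, hN, sl_smul, smul_mul_assoc, map_smul, ← hZdef, hT, map_add, map_smul, hcj1, hN, hcj _ _ hKo,
    hτ, sl_smul, sl_smul, smul_mul_assoc] at h2
  have h3 : (a * b - a * a) • (sl i (𝕘.tau v v) * (K + β • 1)) = 0 := by
    linear_combination (norm := module) h2
  rw [hT, (smul_eq_zero.1 h3).resolve_left (sub_ne_zero.2 hab), add_zero]

open Classical in
/-- A slot root map with a self-adjoint factor whose transfer is not zero. -/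
theorem T_eval (hH : 𝕘.Over H) (hk : 3 ≤ k) (hno : 𝕘.NoRoot H) (h : 𝕘.Hyp v v') (he : ∀ d, 𝕘.InU v v' (e d))
    (hz : 𝕘.InU v v' z) (hzn : 𝕘.β z z ≠ 0) (hline : ∀ s : F, ∃ d, e d = s • z)
    (hW : ∀ (i : Fin t) (a : D → Cos H → Cos H) (f : Cos H → Mat F k t), IsAct a →
      (∀ d q, f (a d q) = 𝕘.adU i h.vv (he d).1 (f q)) → ∀ q, ¬ Fixed a q → ∑ r ∈ orb a q, f r ∈ 𝕘.WS i v v')
    {M : Matrix (Fin k) (Fin k) F} (hMt : M.trace ≠ 0) (hMa : 𝕘.adjD M = M)
    (hM0 : ∀ (a : D → Cos H → Cos H) (f : Cos H → Mat F k t) (ψ : Matrix (Fin k) (Fin k) F →ₗ[F] Mat F k t)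
      (q : Cos H), IsAct a → ¬ Fixed a q →
      (∀ d, f (a d q) = ψ (𝕘.ue v (-(e d)) * M * 𝕘.ue v (e d))) → ∑ r ∈ orb a q, f r = 0)
    (j : Fin t) :
    ∃ (A : Mat F k t) (c : F), Off j A ∧ c ≠ 0 ∧ 𝕘.adj A = A ∧
      T H (sl j (𝕘.N v z) * A) = c • sl j (𝕘.N v z) := by
  set X : Fin t → Matrix (Fin k) (Fin k) F := Function.update (fun _ => M) j 1 with hX
  set A : Mat F k t := pureMat X with hAdef
  have hA : Off j A := off_pureMat (by rw [hX, Function.update_self])
  have hadjA : 𝕘.adj A = A := by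
    rw [hAdef, adj_pure]
    congr 1
    funext i
    rcases eq_or_ne i j with rfl | hi
    · rw [hX, Function.update_self, adjD_one]
    · rw [hX, Function.update_of_ne hi, hMa]
  obtain ⟨α, β, hT, hfix⟩ := T_sl_N hH hk hno h he hz hzn hline hW j hA
  set Z := sl j (𝕘.N v z) * A with hZdef
  set S : Finset (Fin t) → Finset (Cos H) := fun s =>
    univ.filter fun q => Fixed (act hH hk h he j) q ∧ ∀ i ∈ s, i ≠ j → Fixed (act hH hk h he i) q with hS
  have hinv : ∀ (m : Fin t) (q : Cos H), m ≠ j → ∀ d, ∀ i, (i = j ∨ i ≠ m) → Fixed (act hH hk h he i) q →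
      Fixed (act hH hk h he i) (act hH hk h he m d q) := fun m q hm d i hi hq d' => by
    have him : i ≠ m := by rcases hi with rfl | hi; exacts [hm.symm, hi]
    rw [act_comm hH hk h he him, hq]
  have hstep : ∀ s : Finset (Fin t), ∑ q ∈ S s, phi q Z = ∑ q ∈ S ∅, phi q Z := by
    intro s
    induction s using Finset.induction with
    | empty => rfl
    | insert m s hms ih =>
      rcases eq_or_ne m j with rfl | hmj
      · rw [← ih]
        congr 1
        simp only [hS]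
        refine Finset.filter_congr fun q _ => and_congr_right fun _ => ?_
        simp
      rw [← ih]
      have hsub : S (insert m s) ⊆ S s := fun q hq => by
        simp only [hS, mem_filter, mem_univ, true_and, mem_insert, forall_eq_or_imp] at hq ⊢
        exact ⟨hq.1, hq.2.2⟩
      rw [← Finset.sum_sdiff hsub, right_eq_add]
      -- the sum over the cosets moved by the slot `m`
      set rest : Mat F k t := pureMat (Function.update X m 1) with hrest
      have hrm : Off m rest := off_pureMat (by rw [Function.update_self])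
      have hrj : Off j rest := off_pureMat (by rw [Function.update_of_ne hmj.symm, hX, Function.update_self])
      have hAm : A = rest * sl m M := by
        rw [hAdef, pureMat_eq_sl_mul X m, hrest, ← hrm]
        congr 1
        rw [hX, Function.update_of_ne hmj]
      refine (Submodule.mem_bot F).1 (sum_of_orbits (F := F) (isAct_act hH hk h he m) ⊥ _ _ ?_ ?_)
      · intro q hq d
        simp only [hS, mem_sdiff, mem_filter, mem_univ, true_and, mem_insert, forall_eq_or_imp] at hq ⊢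
        obtain ⟨⟨hqj, hqs⟩, hnot⟩ := hq
        refine ⟨⟨hinv m q hmj d j (Or.inl rfl) hqj, fun i hi hij =>
          hinv m q hmj d i (Or.inr fun e => hms (e ▸ hi)) (hqs i hi hij)⟩, fun hh => hnot ⟨hqj, fun _ d' => ?_, hqs⟩⟩
        have hd := hh.2.1 hmj
        have h1 := hd (-d)
        rw [← (isAct_act hH hk h he m).add, neg_add_cancel, (isAct_act hH hk h he m).zero] at h1
        have h2 := hd d'
        rw [← h1] at h2
        exact h2
      · intro q hq
        simp only [hS, mem_sdiff, mem_filter, mem_univ, true_and, mem_insert, forall_eq_or_imp] at hq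
        obtain ⟨⟨hqj, hqs⟩, hnot⟩ := hq
        rw [Submodule.mem_bot]
        refine hM0 _ _ ((phi q).comp ((LinearMap.mulLeft F (sl j (𝕘.N v z) * rest)).comp (slL m))) q
          (isAct_act hH hk h he m) (fun hf => hnot ⟨hqj, fun _ => hf, hqs⟩) fun d => ?_
        simp only [LinearMap.comp_apply, slL_apply, LinearMap.mulLeft_apply]
        set g : (Mat F k t)ˣ := ((uH hH hk h he m d : H) : (Mat F k t)ˣ) with hg
        set W := sl j (𝕘.N v z) * rest * sl m (𝕘.ue v (-(e d)) * M * 𝕘.ue v (e d)) with hWdef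
        have hW' : cj g W = Z := by
          rw [hg, uH_coe, Aschbacher.cj_apply, slU_val, slU_inv, ueU_val, ueU_inv, hWdef, hZdef, hAm]
          have hNj : (sl m (𝕘.ue v (e d)) : Mat F k t) * sl j (𝕘.N v z) = sl j (𝕘.N v z) * sl m (𝕘.ue v (e d)) :=
            sl_comm hmj _ _
          rw [← mul_assoc (sl m _) (sl j _ * rest), ← mul_assoc (sl m _) (sl j _), hNj,
            mul_assoc (sl j _) (sl m _) rest, hrm, ← mul_assoc (sl j _) rest, mul_assoc (sl j _ * rest), sl_mul,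
            mul_assoc (sl j _ * rest), sl_mul, mul_assoc (sl j _) rest]
          congr 2
          have hu : 𝕘.ue v (e d) * 𝕘.ue v (-(e d)) = 1 := by
            rw [ue_mul 𝕘 h.vv (he d).1 (by rw [β_neg_right, (he d).1, neg_zero]), add_neg_cancel, ue_zero]
          congr 1
          rw [← mul_assoc, ← mul_assoc, hu, one_mul, mul_assoc, hu, mul_one]
        have hoff : Off j (rest * sl m (𝕘.ue v (-(e d)) * M * 𝕘.ue v (e d))) := hrj.mul (off_sl hmj.symm _)
        obtain ⟨α', β', hval⟩ := fixed_val hH hk hno h he hz hzn hline hqj hoff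
        rw [← mul_assoc] at hval
        show phi (act hH hk h he m d q) Z = phi q W
        rw [← hW', act, hg, phi_smul, ← hg, hWdef, hval, hg, uH_coe, Aschbacher.cj_apply, slU_val, slU_inv,
          ueU_val, ueU_inv, mul_add, add_mul, mul_smul_comm, mul_smul_comm, smul_mul_assoc, smul_mul_assoc,
          sl_comm hmj, sl_comm hmj, mul_assoc, mul_assoc (sl j (𝕘.tau v v)), sl_mul,
          ue_mul 𝕘 h.vv (he d).1 (by rw [β_neg_right, (he d).1, neg_zero]), add_neg_cancel, ue_zero, sl_one,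
          mul_one, mul_one]
  -- only the coset of the monomial part is fixed by all slots
  have hlast : S univ = {QuotientGroup.mk 1} := by
    refine Finset.eq_singleton_iff_unique_mem.2 ⟨?_, fun q hq => ?_⟩
    · have hone : ∀ i, Fixed (act hH hk h he i) (QuotientGroup.mk 1 : Cos H) := fun i d => by
        show (QuotientGroup.mk (uH hH hk h he i d * 1) : Cos H) = QuotientGroup.mk 1
        rw [mul_one]
        refine QuotientGroup.eq.2 ?_
        rw [mul_one]
        exact (M0 H).inv_mem (mem_M0.2 (mono_slU _ _))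
      simp only [hS, mem_filter, mem_univ, true_and]
      exact ⟨hone j, fun i _ _ => hone i⟩
    · simp only [hS, mem_filter, mem_univ, true_and] at hq
      have hall : ∀ i, Fixed (act hH hk h he i) q := fun i => by
        rcases eq_or_ne i j with rfl | hi
        · exact hq.1
        · exact hq.2 i trivial hi
      have hmono : Mono (((q.out : H) : (Mat F k t)ˣ) : Mat F k t) :=
        hH.bad hk hno (q.out : H).2 fun i => by
          obtain ⟨l, w, c, hm⟩ := maps_of_fixed hH hk h he hz hzn hline (hall i)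
          exact ⟨v, l, w, c, h.v_ne, h.vv, hm⟩
      rw [← QuotientGroup.out_eq' q]
      refine QuotientGroup.eq.2 ?_
      rw [mul_one]
      exact (M0 H).inv_mem (mem_M0.2 hmono)
  have hS0 : S ∅ = univ.filter fun q => Fixed (act hH hk h he j) q := by simp [hS]
  have h1 := hstep univ
  rw [hlast, Finset.sum_singleton, hS0, hfix, phi_mk] at h1
  have hval : phi0 ((1 : H) : (Mat F k t)ˣ) Z = M.trace ^ (t - 1) • sl j (𝕘.N v z) := by
    rw [OneMemClass.coe_one, phi0_apply, Aschbacher.cj_apply, inv_one, Units.val_one, one_mul, mul_one,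
      Aschbacher.cj_apply, inv_one, Units.val_one, one_mul, mul_one]
    rw [hZdef, hAdef, show sl j (𝕘.N v z) * pureMat X = (pureMat (Function.update (fun _ => M) j (𝕘.N v z)) : Mat F k t) by
      rw [pureMat_eq_sl_mul (Function.update (fun _ => M) j (𝕘.N v z)) j, Function.update_self, Function.update_idem,
        hX], proj_pure_update M _ (trace_N v z)]
  rw [hval] at h1
  refine ⟨A, α, hA, fun hα => ?_, hadjA, hT⟩
  have hc0 : M.trace ^ (t - 1) ≠ 0 := pow_ne_zero _ hMt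
  rw [hα, zero_smul, zero_add] at h1
  have h2 := congrArg (fun W => 𝕘.ct j z v' W) h1
  simp only [ct_smul, ct_sl, N_mulVec, tau_mulVec, h.vw, one_smul, hz.comm.2, zero_smul, zero_sub, β_neg_right,
    hz.comm.1, neg_smul, smul_neg, smul_zero, neg_eq_zero, smul_smul, smul_eq_zero, one_ne_zero, or_false,
    mul_eq_zero, hzn, hc0] at h2

end Gram

end Cfsg.Agent.H24.OWr
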